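import Cfsg.Agent.H94.CosetData

/-!
# Cosets of the length-24 code (helper94)

* `exists_leader`: every set of points differs from a member of the code by a set of at most four
  points (covering radius 4), from the kernel-checked table `ldr`.
* `leaders_cases`: two such sets for the same coset are equal, or are disjoint tetrads whose union
  is an octad.
* words and supports: `support₂_inj`, `support₂_sub`, `mem_golayCode_iff_support`, `ind`.
* `leader_set_small`, `leader_set_four`: the sets of at most four points in a coset: one set, or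
  the six tetrads of a sextet.
-/

set_option autoImplicit false

namespace Cfsg.Agent.H94

open Cfsg Cfsg.Agent.H9 Cfsg.Agent.H33
open scoped Pointwise

theorem chkLdr : allB (fun r => isGolay (Nat.xor (fld ldr r) r) &&
    Nat.ble (pcT (fld ldr r)) 4) 4096 = true := by decide +kernel

theorem fs_two_pow (p : GolayPt) : fs (2 ^ gIdx p) = {p} := by
  ext q
  rw [mem_fs, Nat.testBit_two_pow, Finset.mem_singleton]
  constructor
  · intro h
    exact (gIdx_injective (of_decide_eq_true h)).symm
  · rintro rfl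
    exact decide_eq_true rfl

/-- every set of points is the set of a mask -/
theorem exists_mask (s : Finset GolayPt) : ∃ n, n < 2 ^ 24 ∧ fs n = s := by
  classical
  induction s using Finset.induction_on with
  | empty => exact ⟨0, by norm_num, fs_zero⟩
  | insert p s _ ih =>
    obtain ⟨n, hn, rfl⟩ := ih
    refine ⟨2 ^ gIdx p ||| n, Nat.or_lt_two_pow (Nat.pow_lt_pow_right (by norm_num) (gIdx_lt p)) hn,
      ?_⟩
    rw [fs_or, fs_two_pow, Finset.insert_eq]

theorem xor_aux (a b c : ℕ) : a ^^^ c = b ^^^ (c ^^^ (a ^^^ b)) := by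
  apply Nat.eq_of_testBit_eq
  intro i
  simp only [Nat.testBit_xor]
  cases a.testBit i <;> cases b.testBit i <;> cases c.testBit i <;> rfl

/-- covering radius 4: every set of points differs from a member of the code by at most four
points -/
theorem exists_leader (s : Finset GolayPt) :
    ∃ t : Finset GolayPt, t.card ≤ 4 ∧ symmDiff s t ∈ GC := by
  obtain ⟨n, hn, rfl⟩ := exists_mask s
  have hk : n >>> 12 < 4096 := by
    rw [Nat.shiftRight_eq_div_pow]
    omega
  have hr : n ^^^ cw (n >>> 12) < 4096 := by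
    have h1 : (n ^^^ cw (n >>> 12)) >>> 12 = 0 := by
      rw [Nat.shiftRight_xor_distrib, cw_shift _ hk, Nat.xor_self]
    rw [Nat.shiftRight_eq_div_pow] at h1
    have h2 := (Nat.div_eq_zero_iff.mp h1)
    rcases h2 with h2 | h2
    · norm_num at h2
    · exact h2
  have hc := (allB_iff _ _).mp chkLdr _ hr
  rw [Bool.and_eq_true] at hc
  obtain ⟨k', hk', e⟩ := isGolay_iff.mp hc.1
  refine ⟨fs (fld ldr (n ^^^ cw (n >>> 12))), ?_, ?_⟩
  · rw [card_fs']
    exact Nat.le_of_ble_eq_true hc.2
  · rw [← fs_xor]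
    have e' : fld ldr (n ^^^ cw (n >>> 12)) ^^^ (n ^^^ cw (n >>> 12)) = cw k' := e
    rw [xor_aux n (cw (n >>> 12)) (fld ldr (n ^^^ cw (n >>> 12))), e', ← cw_xor]
    exact (mem_supports_iff _).mpr ⟨_, Nat.xor_lt_two_pow (n := 12) hk hk', rfl⟩

theorem symmDiff_leaders {s t₁ t₂ : Finset GolayPt} (h₁ : symmDiff s t₁ ∈ GC)
    (h₂ : symmDiff s t₂ ∈ GC) : symmDiff t₁ t₂ ∈ GC := by
  have h := gc_symmDiff h₁ h₂
  have e : symmDiff (symmDiff s t₁) (symmDiff s t₂) = symmDiff t₁ t₂ := by
    rw [symmDiff_comm s t₁, symmDiff_assoc, symmDiff_symmDiff_cancel_left]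
  rwa [e] at h

theorem symmDiff_leaders' {s t₁ t₂ : Finset GolayPt} (h₁ : symmDiff s t₁ ∈ GC)
    (h : symmDiff t₁ t₂ ∈ GC) : symmDiff s t₂ ∈ GC := by
  have h' := gc_symmDiff h₁ h
  have e : symmDiff (symmDiff s t₁) (symmDiff t₁ t₂) = symmDiff s t₂ := by
    rw [symmDiff_assoc, symmDiff_symmDiff_cancel_left]
  rwa [e] at h'

/-- two sets of at most four points in the same coset of the code -/
theorem leaders_cases {t₁ t₂ : Finset GolayPt} (h₁ : t₁.card ≤ 4) (h₂ : t₂.card ≤ 4)
    (h : symmDiff t₁ t₂ ∈ GC) :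
    t₁ = t₂ ∨ (t₁.card = 4 ∧ t₂.card = 4 ∧ Disjoint t₁ t₂ ∧ t₁ ∪ t₂ ∈ octads) := by
  have hc := gc_card hW h
  have ha := card_symmDiff_add t₁ t₂
  have h8 : (symmDiff t₁ t₂).card = 0 ∨ (symmDiff t₁ t₂).card = 8 := by omega
  rcases h8 with h0 | h8
  · left
    exact symmDiff_eq_bot.mp (Finset.card_eq_zero.mp h0)
  · right
    have hi : (t₁ ∩ t₂).card = 0 := by omega
    have hd : Disjoint t₁ t₂ := by
      rw [Finset.disjoint_iff_inter_eq_empty]
      exact Finset.card_eq_zero.mp hi
    refine ⟨by omega, by omega, hd, ?_⟩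
    have e : symmDiff t₁ t₂ = t₁ ∪ t₂ := by
      rw [symmDiff_def, Finset.sup_eq_union, hd.sdiff_eq_left, hd.symm.sdiff_eq_left]
    rw [← e]
    exact ⟨h, h8⟩

/-- the sets of at most four points in the coset of a set of at most three points -/
theorem leader_set_small {s t₀ : Finset GolayPt} (h₀ : t₀.card ≤ 3) (hs : symmDiff s t₀ ∈ GC) :
    {t : Finset GolayPt | t.card ≤ 4 ∧ symmDiff s t ∈ GC} = {t₀} := by
  ext t
  simp only [Set.mem_ofPred_eq, Set.mem_singleton_iff]
  constructor
  · rintro ⟨h4, ht⟩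
    rcases leaders_cases h4 (by omega) (symmDiff_leaders ht hs) with h | ⟨-, h, -⟩
    · exact h
    · omega
  · rintro rfl
    exact ⟨by omega, hs⟩

/-- the sets of at most four points in the coset of a tetrad are the tetrads of its sextet -/
theorem leader_set_four {s t₀ : Finset GolayPt} (h₀ : t₀.card = 4) (hs : symmDiff s t₀ ∈ GC) :
    {t : Finset GolayPt | t.card ≤ 4 ∧ symmDiff s t ∈ GC} = ↑(sextetOf t₀) := by
  ext t
  simp only [Set.mem_ofPred_eq, Finset.mem_coe]
  rw [mem_sextetOf]
  constructor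
  · rintro ⟨h4, ht⟩
    rcases leaders_cases h4 (by omega) (symmDiff_leaders ht hs) with h | ⟨-, -, hd, ho⟩
    · exact Or.inl h
    · right
      refine ⟨t ∪ t₀, ⟨ho, Finset.subset_union_right⟩, ?_⟩
      rw [Finset.union_sdiff_cancel_right hd]
  · rintro (rfl | ⟨o, ⟨ho, hto⟩, rfl⟩)
    · exact ⟨by omega, hs⟩
    · refine ⟨?_, ?_⟩
      · rw [Finset.card_sdiff_of_subset hto, ho.2, h₀]
      · apply symmDiff_leaders' hs
        have e : symmDiff t₀ (o \ t₀) = o := by
          have hd : Disjoint t₀ (o \ t₀) := Finset.disjoint_sdiff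
          rw [symmDiff_def, Finset.sup_eq_union, hd.sdiff_eq_left, hd.symm.sdiff_eq_left,
            Finset.union_sdiff_of_subset hto]
        rw [e]
        exact ho.1

/-! ### words and their supports -/

theorem support₂_inj {v w : GolayPt → ZMod 2} (h : support₂ v = support₂ w) : v = w := by
  funext p
  have h2 : p ∈ support₂ v ↔ p ∈ support₂ w := by rw [h]
  simp only [support₂, Finset.mem_filter, Finset.mem_univ, true_and] at h2
  rcases (by decide : ∀ a : ZMod 2, a = 0 ∨ a = 1) (v p) with ha | ha <;>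
    rcases (by decide : ∀ a : ZMod 2, a = 0 ∨ a = 1) (w p) with hb | hb <;>
    simp_all

theorem support₂_sub (w v : GolayPt → ZMod 2) :
    support₂ (w - v) = symmDiff (support₂ w) (support₂ v) := by
  have e : w - v = w + v := by
    funext p
    have : ∀ a b : ZMod 2, a - b = a + b := by decide
    exact this _ _
  rw [e, support₂_add]

theorem mem_golayCode_iff_support (w : GolayPt → ZMod 2) :
    w ∈ golayCode ↔ support₂ w ∈ GC := by
  constructor
  · intro h
    exact ⟨w, h, rfl⟩
  · rintro ⟨w', hw', e⟩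
    rw [← support₂_inj e]
    exact hw'

/-- the word with a given support -/
def ind (s : Finset GolayPt) : GolayPt → ZMod 2 := fun p => if p ∈ s then 1 else 0

theorem support₂_ind (s : Finset GolayPt) : support₂ (ind s) = s := by
  ext p
  simp only [support₂, ind, Finset.mem_filter, Finset.mem_univ, true_and]
  by_cases h : p ∈ s
  · simp [h]
  · simp [h]

theorem ind_support₂ (w : GolayPt → ZMod 2) : ind (support₂ w) = w :=
  support₂_inj (support₂_ind _)

theorem hammingNorm_eq_card (v : GolayPt → ZMod 2) : hammingNorm v = (support₂ v).card := rfl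

/-- the words of weight at most 4 in the coset of `w`, through their supports -/
theorem leader_words (w : GolayPt → ZMod 2) :
    {v : GolayPt → ZMod 2 | hammingNorm v ≤ 4 ∧ w - v ∈ golayCode}
      = ind '' {t : Finset GolayPt | t.card ≤ 4 ∧ symmDiff (support₂ w) t ∈ GC} := by
  ext v
  simp only [Set.mem_ofPred_eq, Set.mem_image]
  constructor
  · rintro ⟨h4, hv⟩
    refine ⟨support₂ v, ⟨h4, ?_⟩, ind_support₂ v⟩
    rw [← support₂_sub]
    exact (mem_golayCode_iff_support _).mp hv
  · rintro ⟨t, ⟨h4, ht⟩, rfl⟩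
    refine ⟨by rw [hammingNorm_eq_card, support₂_ind]; exact h4, ?_⟩
    rw [mem_golayCode_iff_support, support₂_sub, support₂_ind]
    exact ht

theorem ind_injective : Function.Injective ind := by
  intro s t h
  rw [← support₂_ind s, ← support₂_ind t, h]

end Cfsg.Agent.H94
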