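import Mathlib
import Cfsg.Agent.H9.M24b
import Cfsg.Agent.H94.DExt23
import Cfsg.Agent.H94.DOut24

/-!
# The non-split extension of `M₂₃` by the cocode module: index-level computations (helper94)

Code words vanishing at the extra point are `cw k`, `k < 2048`.  The loop cocycle is
`φ(j, k) = parity (L j ∧ k)` with `L` a tabulated quadratic map.  For a packed permutation `P`,
`cN P j k` is (a number whose parity is) `φ(P j, P k) + φ(j, k)`.
-/

set_option autoImplicit false

namespace Cfsg.Agent.H94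

open Cfsg Cfsg.Agent.H9

/-- lookup in the table of the quadratic map -/
def ltf (k : ℕ) : ℕ := Nat.land (Nat.shiftRight x23LT (Nat.mul 11 k)) 2047

/-- index of a mask: bits `12 … 22` -/
def idxN (n : ℕ) : ℕ := Nat.mod (Nat.shiftRight n 12) 2048

/-- index of the image of the code word of index `j` -/
def iaN (P j : ℕ) : ℕ := idxN (imgN P (cwN j))

/-- the cocycle defect, to be read mod 2 -/
def cN (P j k : ℕ) : ℕ :=
  Nat.add (pcT (Nat.land (Nat.shiftLeft (ltf (iaN P j)) 12) (imgN P (cwN k))))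
    (pcT (Nat.land (Nat.shiftLeft (ltf j) 12) (cwN k)))

/-- lookup in a packed table with 11-bit entries -/
def mvf (M j : ℕ) : ℕ := Nat.land (Nat.shiftRight M (Nat.mul 11 j)) 2047

/-- the table `M` records the defects against basis vectors -/
def chkT0 (P M : ℕ) : Bool :=
  allB (fun j => allB (fun i => Nat.beq (Nat.mod (cN P j (Nat.pow 2 i)) 2)
    (Nat.mod (Nat.shiftRight (mvf M j) i) 2)) 11) 2048

/-- the bit table `F` is a quadratic form with polar form `M`, tested against basis vectors -/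
def chkV1 (F M : ℕ) : Bool :=
  allB (fun j => allB (fun i => Nat.beq (Nat.mod (Nat.add (Nat.add (Nat.add
    (Nat.shiftRight F (Nat.xor j (Nat.pow 2 i))) (Nat.shiftRight F j))
    (Nat.shiftRight F (Nat.pow 2 i))) (Nat.shiftRight (mvf M j) i)) 2) 0) 11) 2048

/-- the table `M` is additive -/
def chkV2 (M : ℕ) : Bool :=
  allB (fun j => allB (fun i' => allB (fun i => Nat.beq (Nat.mod (Nat.add (Nat.add
    (Nat.shiftRight (mvf M (Nat.xor j (Nat.pow 2 i'))) i) (Nat.shiftRight (mvf M j) i))
    (Nat.shiftRight (mvf M (Nat.pow 2 i')) i)) 2) 0) 11) 11) 2048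

/-- the index-level statement that the bit table `F` lifts the packed permutation `P` -/
def LiftOK (P F : ℕ) : Prop :=
  (∀ j < 2048, ∀ i < 11, (F >>> (j ^^^ 2 ^ i) + F >>> j + F >>> (2 ^ i) + cN P j (2 ^ i)) % 2 = 0) ∧
  (∀ j < 2048, ∀ i' < 11, ∀ i < 11,
    (cN P (j ^^^ 2 ^ i') (2 ^ i) + cN P j (2 ^ i) + cN P (2 ^ i') (2 ^ i)) % 2 = 0)

theorem liftOK_of_chk {P F M : ℕ} (h0 : chkT0 P M = true) (h1 : chkV1 F M = true)
    (h2 : chkV2 M = true) : LiftOK P F := by
  have e0 : ∀ j < 2048, ∀ i < 11, cN P j (2 ^ i) % 2 = (mvf M j >>> i) % 2 := by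
    intro j hj i hi
    exact Nat.eq_of_beq_eq_true ((allB_iff _ _).mp ((allB_iff _ _).mp h0 j hj) i hi)
  have e1 : ∀ j < 2048, ∀ i < 11,
      (F >>> (j ^^^ 2 ^ i) + F >>> j + F >>> (2 ^ i) + (mvf M j >>> i)) % 2 = 0 := by
    intro j hj i hi
    exact Nat.eq_of_beq_eq_true ((allB_iff _ _).mp ((allB_iff _ _).mp h1 j hj) i hi)
  have e2 : ∀ j < 2048, ∀ i' < 11, ∀ i < 11,
      ((mvf M (j ^^^ 2 ^ i') >>> i) + (mvf M j >>> i) + (mvf M (2 ^ i') >>> i)) % 2 = 0 := by
    intro j hj i' hi' i hi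
    exact Nat.eq_of_beq_eq_true ((allB_iff _ _).mp ((allB_iff _ _).mp
      ((allB_iff _ _).mp h2 j hj) i' hi') i hi)
  have hx : ∀ j < 2048, ∀ i < 11, j ^^^ 2 ^ i < 2048 := by
    intro j hj i hi
    exact Nat.xor_lt_two_pow (n := 11) hj (Nat.pow_lt_pow_right (by norm_num) hi)
  have hp : ∀ i < 11, 2 ^ i < 2048 := by
    intro i hi
    exact Nat.pow_lt_pow_right (by norm_num) hi
  refine ⟨?_, ?_⟩
  · intro j hj i hi
    have a := e0 j hj i hi
    have b := e1 j hj i hi
    omega
  · intro j hj i' hi' i hi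
    have a := e0 (j ^^^ 2 ^ i') (hx j hj i' hi') i hi
    have b := e0 j hj i hi
    have c := e0 (2 ^ i') (hp i' hi') i hi
    have d := e2 j hj i' hi' i hi
    omega

theorem chkT0_T : chkT0 o24T x23mT = true := by decide +kernel

theorem chkV1_T : chkV1 x23fT x23mT = true := by decide +kernel

theorem chkV2_T : chkV2 x23mT = true := by decide +kernel

theorem liftOK_T : LiftOK o24T x23fT := liftOK_of_chk chkT0_T chkV1_T chkV2_T

theorem chkT0_Y : chkT0 o24Y x23mY = true := by decide +kernel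

theorem chkV1_Y : chkV1 x23fY x23mY = true := by decide +kernel

theorem chkV2_Y : chkV2 x23mY = true := by decide +kernel

theorem liftOK_Y : LiftOK o24Y x23fY := liftOK_of_chk chkT0_Y chkV1_Y chkV2_Y

theorem chkT0_D : chkT0 o24D x23mD = true := by decide +kernel

theorem chkV1_D : chkV1 x23fD x23mD = true := by decide +kernel

theorem chkV2_D : chkV2 x23mD = true := by decide +kernel

theorem liftOK_D : LiftOK o24D x23fD := liftOK_of_chk chkT0_D chkV1_D chkV2_D

/-! ### induction along the bits -/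

theorem topbit : allB (fun k => Nat.beq k 0 ||
    (Nat.blt (Nat.xor k (Nat.pow 2 (Nat.log2 k))) k && Nat.blt (Nat.log2 k) 11)) 2048 = true := by
  decide +kernel

theorem xor_induction {p : ℕ → Prop} (h0 : p 0)
    (hs : ∀ k < 2048, ∀ i < 11, p k → p (k ^^^ 2 ^ i)) : ∀ k < 2048, p k := by
  intro k
  induction k using Nat.strong_induction_on with
  | _ k ih =>
    intro hk
    have h := (allB_iff _ _).mp topbit k hk
    simp only [Bool.or_eq_true, Bool.and_eq_true] at h
    rcases h with h | ⟨h1, h2⟩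
    · have : k = 0 := Nat.eq_of_beq_eq_true h
      subst this
      exact h0
    · have h1' : k ^^^ 2 ^ Nat.log2 k < k := by simpa [Nat.blt_eq] using h1
      have h2' : Nat.log2 k < 11 := by simpa [Nat.blt_eq] using h2
      have := hs _ (h1'.trans hk) _ h2' (ih _ h1' (h1'.trans hk))
      rwa [Nat.xor_assoc, Nat.xor_self, Nat.xor_zero] at this

end Cfsg.Agent.H94
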