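import Cfsg.Agent.H94.EltCoset
import Cfsg.Agent.H9.M12
import Cfsg.Agent.H9.M24c

/-!
# Solutions of `v * a = b * v` in `M24` (helper94)

For packed permutations `A`, `B` of `a`, `b` such that the points `2, 3, 4` are images of the
point `1` under powers of `a` and the point `0` is fixed by `a` or mapped to `1`, the elements
`v ∈ M24` with `v * a = b * v` are determined on the points `0..4` by the images of `0` and `1`.
A table `Dt` with 576 slots (index `24 * v 0 + v 1`) of elements of `M24` with the prescribed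
images then enumerates them (`conj_enum`, `conj_enum_list`).

Also: powers of packed permutations (`pwN`), equality test (`eqN`), bounded existence (`anyB`).
-/

set_option autoImplicit false

namespace Cfsg.Agent.H94

open Cfsg Cfsg.Agent.H9 Cfsg.Agent.H33
open scoped Pointwise

/-! ### small tools on packed permutations -/

/-- bounded existence -/
def anyB (f : ℕ → Bool) (n : ℕ) : Bool := !(allB (fun k => !(f k)) n)

theorem anyB_iff (f : ℕ → Bool) (n : ℕ) : anyB f n = true ↔ ∃ k < n, f k = true := by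
  unfold anyB
  constructor
  · intro h
    by_contra hcon
    have h2 : allB (fun k => !(f k)) n = true := by
      rw [allB_iff]
      intro k hk
      cases hf : f k
      · rfl
      · exact absurd ⟨k, hk, hf⟩ hcon
    rw [h2] at h
    exact Bool.false_ne_true h
  · rintro ⟨k, hk, hf⟩
    cases h2 : allB (fun k => !(f k)) n
    · rfl
    · have := (allB_iff _ _).mp h2 k hk
      rw [hf] at this
      exact absurd this (by decide)

/-- the packed identity -/
def idN : ℕ := packF (fun i => i) 24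

theorem lk_idN {i : ℕ} (hi : i < 24) : lk idN i = i := by
  unfold idN
  have h : ∀ j, (fun i : ℕ => Nat.mod i 32) j < 32 := fun j => Nat.mod_lt _ (by norm_num)
  have e : packF (fun i => i) 24 = packF (fun i : ℕ => Nat.mod i 32) 24 := by decide +kernel
  rw [e, lk_packF _ h 24 i hi]
  show i % 32 = i
  omega

theorem rep_idN : Rep idN (1 : Equiv.Perm GolayPt) := by
  intro p
  rw [lk_idN (gIdx_lt p)]
  rfl

/-- powers of a packed permutation -/
def pwN (P : ℕ) : ℕ → ℕ
  | 0 => idN
  | n + 1 => mulN P (pwN P n)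

theorem rep_pwN {P : ℕ} {g : Equiv.Perm GolayPt} (h : Rep P g) (n : ℕ) : Rep (pwN P n) (g ^ n) := by
  induction n with
  | zero => exact rep_idN
  | succ n ih =>
    rw [pow_succ']
    exact rep_mulN h ih

/-- equality of packed permutations as maps on the indices `0..23` -/
def eqN (P Q : ℕ) : Bool := allB (fun i => Nat.beq (lk P i) (lk Q i)) 24

theorem eq_of_eqN {P Q : ℕ} {g h : Equiv.Perm GolayPt} (hP : Rep P g) (hQ : Rep Q h)
    (he : eqN P Q = true) : g = h := by
  refine Equiv.ext fun p => gIdx_injective ?_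
  rw [hP, hQ]
  exact Nat.eq_of_beq_eq_true ((allB_iff _ _).mp he _ (gIdx_lt p))

theorem eqN_of {P Q : ℕ} {g : Equiv.Perm GolayPt} (hP : Rep P g) (hQ : Rep Q g) :
    eqN P Q = true := by
  unfold eqN
  rw [allB_iff]
  intro i hi
  have h1 := hP (gPt i)
  have h2 := hQ (gPt i)
  rw [gIdx_gPt hi] at h1 h2
  rw [← h1, ← h2]
  exact Nat.beq_refl _

theorem isIdP_of_rep_one {P : ℕ} (h : Rep P (1 : Equiv.Perm GolayPt)) : isIdP P = true := by
  unfold isIdP
  rw [allB_iff]
  intro i hi
  have h1 := h (gPt i)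
  rw [gIdx_gPt hi] at h1
  rw [← h1]
  show Nat.beq (gIdx (gPt i)) i = true
  rw [gIdx_gPt hi]
  exact Nat.beq_refl _

/-- `c * a = b * c` on packed permutations -/
def relN (A B C : ℕ) : Bool := allB (fun i => Nat.beq (lk C (lk A i)) (lk B (lk C i))) 24

theorem relN_of {A B C : ℕ} {a b c : Equiv.Perm GolayPt} (hA : Rep A a) (hB : Rep B b)
    (hC : Rep C c) (h : c * a = b * c) : relN A B C = true := by
  unfold relN
  rw [allB_iff]
  intro i hi
  have h1 := hA (gPt i)
  have h2 := hC (a (gPt i))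
  have h3 := hC (gPt i)
  have h4 := hB (c (gPt i))
  rw [gIdx_gPt hi] at h1 h3
  rw [h1] at h2
  rw [h3] at h4
  have h5 : c (a (gPt i)) = b (c (gPt i)) :=
    congrArg (fun f : Equiv.Perm GolayPt => f (gPt i)) h
  rw [← h2, ← h4, h5]
  exact Nat.beq_refl _

theorem rel_of_relN {A B C : ℕ} {a b c : Equiv.Perm GolayPt} (hA : Rep A a) (hB : Rep B b)
    (hC : Rep C c) (h : relN A B C = true) : c * a = b * c := by
  refine Equiv.ext fun p => gIdx_injective ?_
  show gIdx (c (a p)) = gIdx (b (c p))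
  rw [hC, hA, hB, hC]
  exact Nat.eq_of_beq_eq_true ((allB_iff _ _).mp h (gIdx p) (gIdx_lt p))

/-! ### iterates -/

/-- iterate of the index map of a packed permutation -/
def itN (P : ℕ) : ℕ → ℕ → ℕ
  | 0, i => i
  | n + 1, i => lk P (itN P n i)

theorem itN_lt {P : ℕ} {g : Equiv.Perm GolayPt} (h : Rep P g) (n : ℕ) {i : ℕ} (hi : i < 24) :
    itN P n i < 24 := by
  induction n with
  | zero => exact hi
  | succ n ih => exact Cfsg.Agent.S5614.lk_lt_of_rep h ih

theorem pow_apply_gPt {P : ℕ} {g : Equiv.Perm GolayPt} (h : Rep P g) (n : ℕ) {i : ℕ}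
    (hi : i < 24) : (g ^ n) (gPt i) = gPt (itN P n i) := by
  induction n with
  | zero => rfl
  | succ n ih =>
    rw [pow_succ', Equiv.Perm.mul_apply, ih, rep_apply h (itN_lt h n hi)]
    rfl

theorem rel_pow {a b v : Equiv.Perm GolayPt} (hrel : v * a = b * v) (n : ℕ) :
    v * a ^ n = b ^ n * v := by
  induction n with
  | zero => simp
  | succ n ih =>
    rw [pow_succ, ← mul_assoc, ih, mul_assoc, hrel, ← mul_assoc, ← pow_succ]

/-- the key relation on indices -/
theorem rel_idx {A B : ℕ} {a b v : Equiv.Perm GolayPt} (hA : Rep A a) (hB : Rep B b)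
    (hrel : v * a = b * v) (n : ℕ) {i : ℕ} (hi : i < 24) :
    gIdx (v (gPt (itN A n i))) = itN B n (gIdx (v (gPt i))) := by
  have h1 : v ((a ^ n) (gPt i)) = (b ^ n) (v (gPt i)) :=
    congrArg (fun f : Equiv.Perm GolayPt => f (gPt i)) (rel_pow hrel n)
  rw [pow_apply_gPt hA n hi] at h1
  rw [h1]
  have h2 : v (gPt i) = gPt (gIdx (v (gPt i))) := (gPt_gIdx _).symm
  rw [h2, pow_apply_gPt hB n (gIdx_lt _), gIdx_gPt (itN_lt hB n (gIdx_lt _)), ← h2]

/-! ### the table -/

/-- the prescribed image of the point `i < 5` for the index `d` -/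
def cjImg (B n2 n3 n4 d : ℕ) : ℕ → ℕ
  | 0 => d / 24
  | 1 => d % 24
  | 2 => itN B n2 (d % 24)
  | 3 => itN B n3 (d % 24)
  | _ => itN B n4 (d % 24)

/-- validity of the index `d` -/
def cjValid (A B n2 n3 n4 d : ℕ) : Bool :=
  Nat.beq (lk B (d / 24)) (bif Nat.beq (lk A 0) 0 then d / 24 else d % 24) &&
    allB (fun i => allB (fun j => Nat.beq i j ||
      !(Nat.beq (cjImg B n2 n3 n4 d i) (cjImg B n2 n3 n4 d j))) 5) 5

/-- the entry `d` of the table is an element of `M24` with the prescribed images -/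
def cjEntry (Dt DtI B n2 n3 n4 d : ℕ) : Bool :=
  chkInv (fldG Dt d) (fldG DtI d) && (chkM24 (fldG Dt d) &&
    allB (fun i => Nat.beq (lk (fldG Dt d) i) (cjImg B n2 n3 n4 d i)) 5)

theorem conj_enum {A B Dt DtI n2 n3 n4 : ℕ} {a b : Equiv.Perm GolayPt} (hA : Rep A a)
    (hB : Rep B b) (h0 : lk A 0 = 0 ∨ lk A 0 = 1)
    (h2 : itN A n2 1 = 2) (h3 : itN A n3 1 = 3) (h4 : itN A n4 1 = 4)
    (hchk : allB (fun d => !(cjValid A B n2 n3 n4 d) || cjEntry Dt DtI B n2 n3 n4 d) 576 = true)
    {v : Equiv.Perm GolayPt} (hv : v ∈ M24) (hrel : v * a = b * v) :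
    ∃ d < 576, ∃ j < 48, cjValid A B n2 n3 n4 d = true ∧
      Rep (mulN (fldG Dt d) (fldG u5 j)) v := by
  have hlt : ∀ i, gIdx (v (gPt i)) < 24 := fun i => gIdx_lt _
  obtain ⟨d, hdd⟩ : ∃ d, d = 24 * gIdx (v (gPt 0)) + gIdx (v (gPt 1)) := ⟨_, rfl⟩
  have hd : d < 576 := by
    have := hlt 0
    have := hlt 1
    omega
  have e0 : d / 24 = gIdx (v (gPt 0)) := by
    have := hlt 1
    omega
  have e1 : d % 24 = gIdx (v (gPt 1)) := by
    have := hlt 1
    omega
  have himg : ∀ i < 5, gIdx (v (gPt i)) = cjImg B n2 n3 n4 d i := by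
    intro i hi
    interval_cases i
    · exact e0.symm
    · exact e1.symm
    · show _ = itN B n2 (d % 24)
      rw [e1, ← rel_idx hA hB hrel n2 (by norm_num), h2]
    · show _ = itN B n3 (d % 24)
      rw [e1, ← rel_idx hA hB hrel n3 (by norm_num), h3]
    · show _ = itN B n4 (d % 24)
      rw [e1, ← rel_idx hA hB hrel n4 (by norm_num), h4]
  have hinj : ∀ i < 24, ∀ j < 24, gIdx (v (gPt i)) = gIdx (v (gPt j)) → i = j := by
    intro i hi j hj h
    have h1 := v.injective (gIdx_injective h)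
    have h2 := congrArg gIdx h1
    rwa [gIdx_gPt hi, gIdx_gPt hj] at h2
  have hval : cjValid A B n2 n3 n4 d = true := by
    unfold cjValid
    rw [Bool.and_eq_true]
    constructor
    · have h5 := rel_idx hA hB hrel 1 (i := 0) (by norm_num)
      have h6 : itN A 1 0 = lk A 0 := rfl
      have h7 : itN B 1 (gIdx (v (gPt 0))) = lk B (gIdx (v (gPt 0))) := rfl
      rw [h6, h7] at h5
      rw [e0, e1, ← h5]
      rcases h0 with h | h
      · rw [h]
        exact Nat.beq_refl _
      · rw [h]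
        exact Nat.beq_refl _
    · rw [allB_iff]
      intro i hi
      rw [allB_iff]
      intro j hj
      by_cases hij : i = j
      · rw [hij, Nat.beq_refl]
        rfl
      · rw [← himg i hi, ← himg j hj]
        have hne : Nat.beq (gIdx (v (gPt i))) (gIdx (v (gPt j))) = false := by
          rw [Bool.eq_false_iff]
          intro h
          exact hij (hinj i (by omega) j (by omega) (Nat.eq_of_beq_eq_true h))
        rw [hne]
        simp
  have hent := (allB_iff _ _).mp hchk d hd
  rw [hval] at hent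
  simp only [Bool.not_true, Bool.false_or] at hent
  unfold cjEntry at hent
  simp only [Bool.and_eq_true] at hent
  obtain ⟨hc1, hc2, hc3⟩ := hent
  obtain ⟨j, hj, hr⟩ := coset5 hc1 hc2 hv (fun i hi => by
    rw [Nat.eq_of_beq_eq_true ((allB_iff _ _).mp hc3 i hi), ← himg i hi]
    exact (gPt_gIdx _).symm)
  exact ⟨d, hd, j, hj, hval, hr⟩

/-- all solutions of `v * a = b * v` in `M24` lie in the list `L` -/
theorem conj_enum_list {A B Dt DtI n2 n3 n4 : ℕ} {L : List ℕ} {a b : Equiv.Perm GolayPt}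
    (hA : Rep A a) (hB : Rep B b) (h0 : lk A 0 = 0 ∨ lk A 0 = 1)
    (h2 : itN A n2 1 = 2) (h3 : itN A n3 1 = 3) (h4 : itN A n4 1 = 4)
    (hchk : allB (fun d => !(cjValid A B n2 n3 n4 d) || cjEntry Dt DtI B n2 n3 n4 d) 576 = true)
    (hL : allB (fun d => !(cjValid A B n2 n3 n4 d) || allB (fun j =>
      !(relN A B (mulN (fldG Dt d) (fldG u5 j))) || memB (mulN (fldG Dt d) (fldG u5 j)) L) 48)
      576 = true)
    {v : Equiv.Perm GolayPt} (hv : v ∈ M24) (hrel : v * a = b * v) : ∃ P ∈ L, Rep P v := by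
  obtain ⟨d, hd, j, hj, hval, hr⟩ := conj_enum hA hB h0 h2 h3 h4 hchk hv hrel
  have h5 := (allB_iff _ _).mp hL d hd
  rw [hval] at h5
  simp only [Bool.not_true, Bool.false_or] at h5
  have h6 := (allB_iff _ _).mp h5 j hj
  rw [relN_of hA hB hr hrel] at h6
  simp only [Bool.not_true, Bool.false_or] at h6
  exact ⟨_, (memB_iff _ _).mp h6, hr⟩

end Cfsg.Agent.H94
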