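import Mathlib

/-! Data for the Schur multiplier of `M₂₃` (helper94): packed permutations (5 bits per point,
120 bits per permutation).
* `m23E`: the 16 elements of an elementary abelian subgroup `E` (entry `b` is the product of the
  basis elements given by the bits of `b`);
* `m23C`, `m23CI`: elements conjugating entry `1` to entry `j` (and their inverses);
* `m23G`: an element of order `3`; `m23R`, `m23S`: generators of a dihedral group of order `8`;
* `m23K`, `m23KI`: elements conjugating entry `1` of `m23E` to `r²`, `s`, `s r`;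
* `m23A3`, `m23B3`, `m23T3`: generators of a subgroup `C₃ × S₃`. -/

set_option autoImplicit false

namespace Cfsg.Agent.H94

def m23E : ℕ := 0xbd1d6486111d4e85aa6c698a478a40bc9811d9a74a2355a9ee818a498a80bbce30a50cb35d05aa51a98a4a0a60bce29b0eae0c18d5aa87418a4909e0bb4676464173ed35a909a18a4a8a00bc13171e9664c2f5aaa3918a4409a0bd6ce8b2693d0725aa01798a468900ba02c3b9e38c9345a9b6998a480aa0bb2486d46f806765a8f4498a4889c0bba95821336d9e15aa32198a438980bc670ab6d4426435a9cf098a4608e0b9ded44032a8e895a993b18a470a20ba613a3dd5945075aacd618a408860b8daf94d88a1eb15a830718a4b0920b85127d0ed9b20e5a875898a448ac0bdab49ca307b9ac5a928398a418820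

def m23C : ℕ := 0xbbc2944cf06523612dd2698a4aa860bcdb4385368224e299917ac8aa8860b8d2c7c275b38ed59112088c58aa80bc10f88596ad26911467680ca911cbbbd2c0ce9185643315a83900ab2dc2bc1c8a0d2189db2519f3aaca460ac0bbe4d70e29a2201312cc9804aa94ebbd9b163e75a482e514693880b81106bc90f8c1361b593311d43880a0aea5bb52e9d8f584a8812c3119544619e0bb5e780669a0dcc59228a9546b0242bcdf619d34705b159255628c080905ba5c7931b3786835aab141406812c2bb2d284de7455cd58123a08c40aa25bdab49ca307b9ac5a928398a418820bdab49ca307b9ac5a928398a418820

def m23CI : ℕ := 0xbb06e921b0b24ef50a93898a40aea0bc074b350f3b2a93122e9a96508a40bbe018a0729b99458aa96948ab18e0bc1ee68e76a04f101195415424ae46b8dd19360fb0534112a83ad4660265b84f3431f64d5a332e34728a490a00ba46f3d62db4e880120e0ac4a91586bda0f8ba83932b322d0138142499a5bc02865a72a25cd112353ac0a79865bca0d9b90f0d2c3516ac888c43ad20b8cef88533ab6cc59608a10ca70242bd110b2583abda759a219140a989c4b852d84d037d6325aac7a10c2601c5bd5c7950338b5965892f814044186abdab49ca307b9ac5a928398a418820bdab49ca307b9ac5a928398a418820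

def m23G : ℕ := 0xbda2faba611a20932cf2628a4a09a0

def m23GI : ℕ := 0xbda638a2ada48275198e4aca478a00

def m23R : ℕ := 0xbda0f0a5aea311532a678ac0219644

def m23RI : ℕ := 0xbd98f484f5a422e32a4d42c4019265

def m23S : ℕ := 0xbd9b40a61179ea85aa4c7184019664

def m23K : ℕ := 0xbd2276c12e61105128d50cec35c9e0ba1a049051906131bcf52d2cb7198abba512a207209a07d133658660aeaa

def m23KI : ℕ := 0xb951630ab20c26f1aa2da258e22ce0b950663e0d50ea120276488f25c5d4b982a456915d9a7101328126f2b86c

def m23A3 : ℕ := 0xbb624330f47b94145922a8cb09ae40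

def m23A3I : ℕ := 0xba8f0186a47bad21352b8ccb432180

def m23B3 : ℕ := 0xbb60c1d692039515d92824de1308e5

def m23B3I : ℕ := 0xbaa51341952bad45b52808c079888f

def m23T3 : ℕ := 0xb9aac54232024745cdc83d8a16888f

end Cfsg.Agent.H94
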