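import Mathlib
import Cfsg.Agent.H94.StemExp

/-!
# A `2`-local criterion: `E : D₈` with one class of involutions (helper94)

`noStemExp_two_of_ED`: let `E ≤ G` be a finite subgroup all of whose nonidentity elements are
conjugate in `G` to an involution `x0` (and containing three independent elements), let `r, s`
generate a dihedral group of order `8` meeting `E` trivially, normalising `E`, whose involutions
`r²`, `s`, `s r` are conjugate to `x0`, and let `g` be an element of order `3` normalising `E`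
without fixed points, with `⟨g⟩` normalised by `r` and `s`.  Then for every finite central
extension of `G` with kernel of exponent `2` the kernel meets the derived group of the preimage of
`E ⊔ ⟨r, s⟩` trivially.
-/

set_option autoImplicit false

namespace Cfsg.Agent.H94

open Cfsg Cfsg.Agent.H41
open scoped commutatorElement

universe u

theorem comm_of_sq {M : Type*} [Group M] {a b : M} (ha : a * a = 1) (hb : b * b = 1)
    (hab : a * b * (a * b) = 1) : a * b = b * a := by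
  have h1 : b * a = a * a * (b * a) * (b * b) := by rw [ha, hb, one_mul, mul_one]
  have h2 : a * a * (b * a) * (b * b) = a * (a * b * (a * b)) * b := by group
  rw [h1, h2, hab, mul_one]

section Lift

variable {G Γ : Type*} [Group G] [Group Γ] (σ : Γ →* G)

theorem sq_eq_of_map_eq (hc : σ.ker ≤ Subgroup.center Γ) (he : ∀ a ∈ σ.ker, a * a = 1)
    {X X' : Γ} (h : σ X = σ X') : X * X = X' * X' := by
  have ha : X⁻¹ * X' ∈ σ.ker := by rw [MonoidHom.mem_ker, map_mul, map_inv, h, inv_mul_cancel]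
  obtain ⟨a, ha', rfl⟩ : ∃ a ∈ σ.ker, X' = X * a := ⟨X⁻¹ * X', ha, by group⟩
  have hcm : X * a = a * X := Subgroup.mem_center_iff.1 (hc ha') X
  have h1 : X * a * (X * a) = X * (a * X) * a := by group
  rw [h1, ← hcm]
  have h2 : X * (X * a) * a = X * X * (a * a) := by group
  rw [h2, he a ha', mul_one]

theorem sq_eq_of_conj (hσ : Function.Surjective σ) (hc : σ.ker ≤ Subgroup.center Γ)
    (he : ∀ a ∈ σ.ker, a * a = 1) {X W : Γ} (hx : σ X * σ X = 1) (hcj : IsConj (σ X) (σ W)) :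
    W * W = X * X := by
  obtain ⟨c, hcw⟩ := isConj_iff.1 hcj
  obtain ⟨C, rfl⟩ := hσ c
  have h1 : σ W = σ (C * X * C⁻¹) := by rw [map_mul, map_mul, map_inv, hcw]
  rw [sq_eq_of_map_eq σ hc he h1]
  have hk : X * X ∈ σ.ker := by rw [MonoidHom.mem_ker, map_mul, hx]
  have hcm : C * (X * X) = (X * X) * C := Subgroup.mem_center_iff.1 (hc hk) C
  have h2 : C * X * C⁻¹ * (C * X * C⁻¹) = C * (X * X) * C⁻¹ := by group
  rw [h2, hcm, mul_inv_cancel_right]

theorem swap_of_sq {c U V : Γ} (hcen : ∀ W : Γ, W * c = c * W) (hcc : c * c = 1)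
    (hU : U * U = c) (hV : V * V = c) (hUV : U * V * (U * V) = c) : U * V = c * (V * U) := by
  have h1 : (U * U) * (V * U) * (V * V) = U * (U * V * (U * V)) * V := by group
  rw [hU, hV, hUV] at h1
  have h2 : c * (V * U) * c = V * U := by
    rw [mul_assoc, hcen (V * U), ← mul_assoc, hcc, one_mul]
  have h3 : U * c * V = c * (U * V) := by rw [hcen U, mul_assoc]
  rw [h2, h3] at h1
  rw [h1, ← mul_assoc, hcc, one_mul]

end Lift

theorem noStemExp_two_of_ED {G : Type u} [Group G] (E : Subgroup G) [Finite E]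
    (x0 y y' g r s : G) (hx0 : x0 * x0 = 1)
    (hE : ∀ x ∈ E, x = 1 ∨ IsConj x0 x)
    (hx0E : x0 ∈ E) (hyE : y ∈ E) (hy'E : y' ∈ E)
    (hn1 : y ≠ 1) (hn2 : y' ≠ 1) (hn3 : x0 * y ≠ 1) (hn4 : x0 * y' ≠ 1) (hn5 : y * y' ≠ 1)
    (hn6 : x0 * (y * y') ≠ 1)
    (hr2 : IsConj x0 (r * r)) (hs : IsConj x0 s) (hsr : IsConj x0 (s * r))
    (hg : g ^ 3 = 1) (hgE : ∀ x ∈ E, g * x * g⁻¹ ∈ E) (hfix : ∀ x ∈ E, g * x = x * g → x = 1)
    (hrE : ∀ x ∈ E, r * x * r⁻¹ ∈ E) (hsE : ∀ x ∈ E, s * x * s⁻¹ ∈ E)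
    (hrg : r * g * r⁻¹ = g ∨ r * g * r⁻¹ = g⁻¹) (hsg : s * g * s⁻¹ = g ∨ s * g * s⁻¹ = g⁻¹)
    (hD : ∀ i < 4, ∀ j < 2, r ^ i * s ^ j ∈ E → i = 0 ∧ j = 0) :
    NoStemExp G (E ⊔ Subgroup.closure {r, s}) 2 := by
  intro Γ _ _ σ hσ hc he2
  have he : ∀ a ∈ σ.ker, a * a = 1 := fun a ha => by rw [← pow_two]; exact he2 a ha
  have hcen : ∀ a ∈ σ.ker, ∀ X : Γ, X * a = a * X := fun a ha X =>
    Subgroup.mem_center_iff.1 (hc ha) X
  -- lifts of the class of `x0` square to the same central element, which is trivial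
  have hstep1 : ∀ X : Γ, σ X = x0 → X * X = 1 := by
    intro X hX
    obtain ⟨Y, hY⟩ := hσ y
    obtain ⟨Y', hY'⟩ := hσ y'
    have hxx : σ X * σ X = 1 := by rw [hX, hx0]
    obtain ⟨c, hcdef⟩ : ∃ c, c = X * X := ⟨_, rfl⟩
    have hck : c ∈ σ.ker := by rw [hcdef, MonoidHom.mem_ker, map_mul, hxx]
    have hcc : c * c = 1 := he c hck
    have hccen : ∀ W : Γ, W * c = c * W := hcen c hck
    have cj : ∀ w ∈ E, w ≠ 1 → ∀ W : Γ, σ W = w → W * W = c := by
      intro w hw hw1 W hW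
      rw [hcdef]
      apply sq_eq_of_conj σ hσ hc he hxx
      rw [hX, hW]
      rcases hE w hw with h | h
      · exact absurd h hw1
      · exact h
    have hYY := cj y hyE hn1 Y hY
    have hY'Y' := cj y' hy'E hn2 Y' hY'
    have hXY := cj (x0 * y) (E.mul_mem hx0E hyE) hn3 (X * Y) (by rw [map_mul, hX, hY])
    have hXY' := cj (x0 * y') (E.mul_mem hx0E hy'E) hn4 (X * Y') (by rw [map_mul, hX, hY'])
    have hYY'2 := cj (y * y') (E.mul_mem hyE hy'E) hn5 (Y * Y') (by rw [map_mul, hY, hY'])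
    have hXYY' := cj (x0 * (y * y')) (E.mul_mem hx0E (E.mul_mem hyE hy'E)) hn6 (X * (Y * Y'))
      (by rw [map_mul, map_mul, hX, hY, hY'])
    have hA := swap_of_sq hccen hcc hcdef.symm hYY hXY
    have hB := swap_of_sq hccen hcc hcdef.symm hY'Y' hXY'
    have hC := swap_of_sq hccen hcc hcdef.symm hYY'2 hXYY'
    have h1 : X * (Y * Y') = Y * Y' * X := by
      have e1 : X * (Y * Y') = X * Y * Y' := by group
      rw [e1, hA]
      have e2 : c * (Y * X) * Y' = c * Y * (X * Y') := by group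
      rw [e2, hB]
      have e3 : c * Y * (c * (Y' * X)) = c * (Y * c) * (Y' * X) := by group
      rw [e3, hccen Y]
      have e4 : c * (c * Y) * (Y' * X) = c * c * (Y * Y' * X) := by group
      rw [e4, hcc, one_mul]
    rw [h1] at hC
    have h2 : 1 * (Y * Y' * X) = c * (Y * Y' * X) := by rw [one_mul]; exact hC
    have h3 : c = 1 := (mul_right_cancel h2).symm
    rw [← hcdef, h3]
  have hconj : ∀ W : Γ, IsConj x0 (σ W) → W * W = 1 := by
    intro W hW
    obtain ⟨X0, hX0⟩ := hσ x0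
    rw [← hstep1 X0 hX0]
    apply sq_eq_of_conj σ hσ hc he
    · rw [hX0, hx0]
    · rw [hX0]
      exact hW
  have hEt : ∀ X : Γ, σ X ∈ E → X * X = 1 := by
    intro X hX
    rcases hE _ hX with h | h
    · exact he X (MonoidHom.mem_ker.2 h)
    · exact hconj X h
  have hEtc : ∀ X Y : Γ, σ X ∈ E → σ Y ∈ E → X * Y = Y * X := by
    intro X Y hX hY
    apply comm_of_sq (hEt X hX) (hEt Y hY)
    apply hEt
    rw [map_mul]
    exact E.mul_mem hX hY
  -- the canonical lift of `g`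
  obtain ⟨Gh, hGh, hGh3⟩ : ∃ Gh : Γ, σ Gh = g ∧ Gh ^ 3 = 1 := by
    obtain ⟨G0, hG0⟩ := hσ g
    have hak : G0 ^ 3 ∈ σ.ker := by rw [MonoidHom.mem_ker, map_pow, hG0, hg]
    refine ⟨G0 * G0 ^ 3, ?_, ?_⟩
    · rw [map_mul, MonoidHom.mem_ker.1 hak, mul_one, hG0]
    · have hcm : Commute G0 (G0 ^ 3) := hcen _ hak G0
      rw [hcm.mul_pow]
      have h1 : G0 ^ 3 * (G0 ^ 3) ^ 3 = (G0 ^ 3 * G0 ^ 3) * (G0 ^ 3 * G0 ^ 3) := by group
      rw [h1, he _ hak, one_mul]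
  have huniq : ∀ W : Γ, σ W = g → W ^ 3 = 1 → W = Gh := by
    intro W hW hW3
    have hbk : Gh⁻¹ * W ∈ σ.ker := by
      rw [MonoidHom.mem_ker, map_mul, map_inv, hGh, hW, inv_mul_cancel]
    obtain ⟨b, hb, rfl⟩ : ∃ b ∈ σ.ker, W = Gh * b := ⟨Gh⁻¹ * W, hbk, by group⟩
    have hcm : Commute Gh b := hcen b hb Gh
    rw [hcm.mul_pow, hGh3, one_mul] at hW3
    have h1 : b ^ 3 = b * (b * b) := by rw [pow_succ, pow_two, mul_assoc]
    rw [h1, he b hb, mul_one] at hW3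
    rw [hW3, mul_one]
  have huniq' : ∀ W : Γ, σ W = g⁻¹ → W ^ 3 = 1 → W = Gh⁻¹ := by
    intro W hW hW3
    have h1 := huniq W⁻¹ (by rw [map_inv, hW, inv_inv]) (by rw [inv_pow, hW3, inv_one])
    rw [← h1, inv_inv]
  have hnormG : ∀ D : Γ, (σ D * g * (σ D)⁻¹ = g ∨ σ D * g * (σ D)⁻¹ = g⁻¹) →
      (D * Gh * D⁻¹ = Gh ∨ D * Gh * D⁻¹ = Gh⁻¹) := by
    intro D hD
    have h3 : (D * Gh * D⁻¹) ^ 3 = 1 := by rw [conj_pow, hGh3, mul_one, mul_inv_cancel]
    rcases hD with h | h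
    · left
      exact huniq _ (by rw [map_mul, map_mul, map_inv, hGh, h]) h3
    · right
      exact huniq' _ (by rw [map_mul, map_mul, map_inv, hGh, h]) h3
  have hgE' : ∀ x ∈ E, g⁻¹ * x * g ∈ E := by
    intro x hx
    have h1 : g⁻¹ = g * g := by
      rw [inv_eq_iff_mul_eq_one, ← pow_two, ← pow_succ']
      exact hg
    have h2 : g⁻¹ * x * g = g * (g * x * g⁻¹) * g⁻¹ := by
      have : g * (g * x * g⁻¹) * g⁻¹ = (g * g) * x * (g * g)⁻¹ := by group
      rw [this, ← h1, inv_inv]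
    rw [h2]
    exact hgE _ (hgE x hx)
  -- the complement `E0 = [E~, Gh]`
  obtain ⟨E0, hE0⟩ : ∃ E0 : Subgroup Γ, ∀ W, W ∈ E0 ↔ ∃ X, σ X ∈ E ∧ W = Gh * X * Gh⁻¹ * X⁻¹ := by
    have hφE : ∀ X : Γ, σ X ∈ E → σ (Gh * X * Gh⁻¹ * X⁻¹) ∈ E := by
      intro X hX
      rw [map_mul, map_mul, map_mul, map_inv, map_inv, hGh]
      exact E.mul_mem (hgE _ hX) (E.inv_mem hX)
    refine ⟨{ carrier := {W | ∃ X, σ X ∈ E ∧ W = Gh * X * Gh⁻¹ * X⁻¹}
              mul_mem' := ?_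
              one_mem' := ?_
              inv_mem' := ?_ }, fun W => Iff.rfl⟩
    · rintro W W' ⟨X, hX, rfl⟩ ⟨X', hX', rfl⟩
      refine ⟨X * X', by rw [map_mul]; exact E.mul_mem hX hX', ?_⟩
      have hQ : σ (Gh * X' * Gh⁻¹ * X'⁻¹) ∈ E := hφE X' hX'
      have hXi : σ X⁻¹ ∈ E := by rw [map_inv]; exact E.inv_mem hX
      have h1 : Gh * X * Gh⁻¹ * X⁻¹ * (Gh * X' * Gh⁻¹ * X'⁻¹)
          = Gh * X * Gh⁻¹ * (X⁻¹ * (Gh * X' * Gh⁻¹ * X'⁻¹)) := by group
      rw [h1, hEtc _ _ hXi hQ]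
      group
    · exact ⟨1, by rw [map_one]; exact E.one_mem, by group⟩
    · rintro W ⟨X, hX, rfl⟩
      refine ⟨X, hX, ?_⟩
      exact inv_eq_of_mul_eq_one_right (hEt _ (hφE X hX))
  have hE0E : ∀ W ∈ E0, σ W ∈ E := by
    intro W hW
    obtain ⟨X, hX, rfl⟩ := (hE0 W).1 hW
    rw [map_mul, map_mul, map_mul, map_inv, map_inv, hGh]
    exact E.mul_mem (hgE _ hX) (E.inv_mem hX)
  have hE0A : ∀ W ∈ E0, W ∈ σ.ker → W = 1 := by
    intro W hW hWk
    obtain ⟨X, hX, hWX⟩ := (hE0 W).1 hW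
    have h1 : Gh * X * Gh⁻¹ = W * X := by rw [hWX]; group
    have hWc : ∀ Z : Γ, Z * W = W * Z := hcen W hWk
    have h2 : Gh * (W * X) * Gh⁻¹ = W * (W * X) := by
      have : Gh * (W * X) * Gh⁻¹ = (Gh * W) * (X * Gh⁻¹) := by group
      rw [this, hWc Gh]
      have : W * Gh * (X * Gh⁻¹) = W * (Gh * X * Gh⁻¹) := by group
      rw [this, h1]
    have h3 : Gh * (W * (W * X)) * Gh⁻¹ = W * (W * (W * X)) := by
      have : Gh * (W * (W * X)) * Gh⁻¹ = (Gh * W) * ((W * X) * Gh⁻¹) := by group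
      rw [this, hWc Gh]
      have : W * Gh * (W * X * Gh⁻¹) = W * (Gh * (W * X) * Gh⁻¹) := by group
      rw [this, h2]
    have h4 : Gh * (Gh * (Gh * X * Gh⁻¹) * Gh⁻¹) * Gh⁻¹ = Gh ^ 3 * X * (Gh ^ 3)⁻¹ := by
      rw [pow_succ, pow_two]
      group
    rw [h1, h2, h3, hGh3, one_mul, inv_one, mul_one] at h4
    have h5 : W * (W * (W * X)) = W * W * (W * X) := by group
    rw [h5, he W hWk, one_mul] at h4
    have h6 : W * X = 1 * X := by rw [one_mul]; exact h4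
    exact mul_right_cancel h6
  have hE0surj : ∀ e ∈ E, ∃ W ∈ E0, σ W = e := by
    have hinj : Function.Injective (fun u : E => (⟨g * u.1 * g⁻¹ * u.1⁻¹,
        E.mul_mem (hgE _ u.2) (E.inv_mem u.2)⟩ : E)) := by
      intro u u' huu
      have h1 : g * u.1 * g⁻¹ * u.1⁻¹ = g * u'.1 * g⁻¹ * u'.1⁻¹ := congrArg Subtype.val huu
      have h2 : g * (u'.1⁻¹ * u.1) * g⁻¹ = u'.1⁻¹ * u.1 := by
        have e1 : g * (u'.1⁻¹ * u.1) * g⁻¹ = (g * u'.1 * g⁻¹)⁻¹ * (g * u.1 * g⁻¹ * u.1⁻¹) * u.1 := by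
          group
        rw [e1, h1]
        group
      have h3 : g * (u'.1⁻¹ * u.1) = (u'.1⁻¹ * u.1) * g := mul_inv_eq_iff_eq_mul.1 h2
      have h4 := hfix _ (E.mul_mem (E.inv_mem u'.2) u.2) h3
      apply Subtype.ext
      rw [inv_mul_eq_one] at h4
      exact h4.symm
    have hsurj := Finite.injective_iff_surjective.1 hinj
    intro e heE
    obtain ⟨u, hu⟩ := hsurj ⟨e, heE⟩
    obtain ⟨U, hU⟩ := hσ u.1
    refine ⟨Gh * U * Gh⁻¹ * U⁻¹, (hE0 _).2 ⟨U, by rw [hU]; exact u.2, rfl⟩, ?_⟩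
    rw [map_mul, map_mul, map_mul, map_inv, map_inv, hGh, hU]
    exact congrArg Subtype.val hu
  have hE0D : ∀ D : Γ, (∀ x ∈ E, σ D * x * (σ D)⁻¹ ∈ E) →
      (D * Gh * D⁻¹ = Gh ∨ D * Gh * D⁻¹ = Gh⁻¹) → ∀ W ∈ E0, D * W * D⁻¹ ∈ E0 := by
    intro D hDE hDG W hW
    obtain ⟨X, hX, rfl⟩ := (hE0 W).1 hW
    have hX' : σ (D * X * D⁻¹) ∈ E := by
      rw [map_mul, map_mul, map_inv]
      exact hDE _ hX
    have e1 : D * (Gh * X * Gh⁻¹ * X⁻¹) * D⁻¹
        = (D * Gh * D⁻¹) * (D * X * D⁻¹) * (D * Gh * D⁻¹)⁻¹ * (D * X * D⁻¹)⁻¹ := by group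
    rw [e1]
    rcases hDG with h | h
    · rw [h]
      exact (hE0 _).2 ⟨D * X * D⁻¹, hX', rfl⟩
    · rw [h, inv_inv]
      have hX'' : σ (Gh⁻¹ * (D * X * D⁻¹) * Gh) ∈ E := by
        rw [map_mul, map_mul, map_inv, hGh]
        exact hgE' _ hX'
      have e2 : Gh⁻¹ * (D * X * D⁻¹) * Gh * (D * X * D⁻¹)⁻¹
          = (Gh * (Gh⁻¹ * (D * X * D⁻¹) * Gh) * Gh⁻¹ * (Gh⁻¹ * (D * X * D⁻¹) * Gh)⁻¹)⁻¹ := by
        group
      rw [e2]
      exact E0.inv_mem ((hE0 _).2 ⟨_, hX'', rfl⟩)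
  -- the dihedral complement
  obtain ⟨R, hR⟩ := hσ r
  obtain ⟨S, hS⟩ := hσ s
  have hRR : R * R * (R * R) = 1 := hconj (R * R) (by rw [map_mul, hR]; exact hr2)
  have hR4 : R ^ 4 = 1 := by
    have : R ^ 4 = R * R * (R * R) := by
      rw [pow_succ, pow_succ, pow_two]
      simp only [mul_assoc]
    rw [this, hRR]
  have hS2 : S * S = 1 := hconj S (by rw [hS]; exact hs)
  have hSR : S * R * (S * R) = 1 := hconj (S * R) (by rw [map_mul, hS, hR]; exact hsr)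
  have hSinv : S⁻¹ = S := inv_eq_of_mul_eq_one_right hS2
  have hRinv : R⁻¹ = R ^ 3 := by
    rw [inv_eq_iff_mul_eq_one, ← pow_succ']
    exact hR4
  have hSRrel : S * R = R ^ 3 * S := by
    have h1 : (S * R)⁻¹ = S * R := inv_eq_of_mul_eq_one_right hSR
    rw [← h1, mul_inv_rev, hSinv, hRinv]
  have hform : ∀ d ∈ Subgroup.closure ({R, S} : Set Γ), ∃ i < 4, ∃ j < 2, d = R ^ i * S ^ j := by
    have stepR : ∀ d : Γ, (∃ i < 4, ∃ j < 2, d = R ^ i * S ^ j) →
        ∃ i < 4, ∃ j < 2, d * R = R ^ i * S ^ j := by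
      rintro d ⟨i, hi, j, hj, rfl⟩
      interval_cases j
      · refine ⟨(i + 1) % 4, Nat.mod_lt _ (by norm_num), 0, by norm_num, ?_⟩
        rw [pow_zero, mul_one, mul_one, ← pow_succ]
        exact pow_eq_pow_mod _ hR4
      · refine ⟨(i + 3) % 4, Nat.mod_lt _ (by norm_num), 1, by norm_num, ?_⟩
        rw [pow_one, mul_assoc, hSRrel, ← mul_assoc, ← pow_add]
        rw [pow_eq_pow_mod (i + 3) hR4]
    have stepS : ∀ d : Γ, (∃ i < 4, ∃ j < 2, d = R ^ i * S ^ j) →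
        ∃ i < 4, ∃ j < 2, d * S = R ^ i * S ^ j := by
      rintro d ⟨i, hi, j, hj, rfl⟩
      interval_cases j
      · exact ⟨i, hi, 1, by norm_num, by rw [pow_zero, mul_one, pow_one]⟩
      · exact ⟨i, hi, 0, by norm_num, by rw [pow_one, pow_zero, mul_one, mul_assoc, hS2, mul_one]⟩
    intro d hd
    induction hd using Subgroup.closure_induction_right with
    | one => exact ⟨0, by norm_num, 0, by norm_num, by simp⟩
    | mul_right x hx z hz ih =>
      rcases hz with rfl | hz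
      · exact stepR x ih
      · rw [Set.mem_singleton_iff] at hz
        rw [hz]
        exact stepS x ih
    | mul_inv_cancel x hx z hz ih =>
      rcases hz with rfl | hz
      · rw [hRinv]
        have : x * z ^ 3 = x * z * z * z := by
          rw [pow_succ, pow_two]
          simp only [mul_assoc]
        rw [this]
        exact stepR _ (stepR _ (stepR x ih))
      · rw [Set.mem_singleton_iff] at hz
        rw [hz, hSinv]
        exact stepS x ih
  have hRD := hE0D R (by rw [hR]; exact hrE) (hnormG R (by rw [hR]; exact hrg))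
  have hSD := hE0D S (by rw [hS]; exact hsE) (hnormG S (by rw [hS]; exact hsg))
  have hnorm : ∀ d ∈ Subgroup.closure ({R, S} : Set Γ), ∀ W ∈ E0, d * W * d⁻¹ ∈ E0 := by
    intro d hd
    induction hd using Subgroup.closure_induction'' with
    | mem x hx =>
      rcases hx with rfl | hx
      · exact hRD
      · rw [Set.mem_singleton_iff] at hx
        rw [hx]
        exact hSD
    | inv_mem x hx =>
      rcases hx with rfl | hx
      · intro W hW
        rw [hRinv]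
        have : x ^ 3 * W * (x ^ 3)⁻¹ = x * (x * (x * W * x⁻¹) * x⁻¹) * x⁻¹ := by
          rw [pow_succ, pow_two]
          group
        rw [this]
        exact hRD _ (hRD _ (hRD W hW))
      · rw [Set.mem_singleton_iff] at hx
        rw [hx, hSinv]
        exact hSD
    | one =>
      intro W hW
      rw [one_mul, inv_one, mul_one]
      exact hW
    | mul a b _ _ iha ihb =>
      intro W hW
      have : a * b * W * (a * b)⁻¹ = a * (b * W * b⁻¹) * a⁻¹ := by group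
      rw [this]
      exact iha _ (ihb W hW)
  obtain ⟨S0, hS0⟩ : ∃ S0 : Subgroup Γ, ∀ Z, Z ∈ S0 ↔
      ∃ W ∈ E0, ∃ d ∈ Subgroup.closure ({R, S} : Set Γ), Z = W * d := by
    refine ⟨{ carrier := {Z | ∃ W ∈ E0, ∃ d ∈ Subgroup.closure ({R, S} : Set Γ), Z = W * d}
              mul_mem' := ?_
              one_mem' := ?_
              inv_mem' := ?_ }, fun Z => Iff.rfl⟩
    · rintro Z Z' ⟨W, hW, d, hd, rfl⟩ ⟨W', hW', d', hd', rfl⟩
      refine ⟨W * (d * W' * d⁻¹), E0.mul_mem hW (hnorm d hd W' hW'), d * d',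
        Subgroup.mul_mem _ hd hd', by group⟩
    · exact ⟨1, E0.one_mem, 1, Subgroup.one_mem _, by group⟩
    · rintro Z ⟨W, hW, d, hd, rfl⟩
      refine ⟨d⁻¹ * W⁻¹ * d⁻¹⁻¹, hnorm d⁻¹ (Subgroup.inv_mem _ hd) _ (E0.inv_mem hW), d⁻¹,
        Subgroup.inv_mem _ hd, by group⟩
  have hS0A : S0 ⊓ σ.ker = ⊥ := by
    rw [eq_bot_iff]
    rintro Z ⟨hZ, hZk⟩
    obtain ⟨W, hW, d, hd, rfl⟩ := (hS0 Z).1 hZ
    obtain ⟨i, hi, j, hj, rfl⟩ := hform d hd
    have h1 : σ W * (r ^ i * s ^ j) = 1 := by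
      have := MonoidHom.mem_ker.1 hZk
      rwa [map_mul, map_mul, map_pow, map_pow, hR, hS] at this
    have h2 : r ^ i * s ^ j ∈ E := by
      have : r ^ i * s ^ j = (σ W)⁻¹ := (inv_eq_of_mul_eq_one_right h1).symm
      rw [this]
      exact E.inv_mem (hE0E W hW)
    obtain ⟨rfl, rfl⟩ := hD i hi j hj h2
    rw [pow_zero, pow_zero, mul_one, mul_one] at hZk ⊢
    rw [Subgroup.mem_bot]
    exact hE0A W hW hZk
  have hcover : ∀ X ∈ (E ⊔ Subgroup.closure {r, s}).comap σ, ∃ w ∈ S0, ∃ a ∈ σ.ker, X = w * a := by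
    have hle : E ⊔ Subgroup.closure {r, s} ≤ S0.map σ := by
      apply sup_le
      · intro e heE
        obtain ⟨W, hW, hWe⟩ := hE0surj e heE
        exact ⟨W, (hS0 W).2 ⟨W, hW, 1, Subgroup.one_mem _, by group⟩, hWe⟩
      · rw [Subgroup.closure_le]
        rintro x (rfl | hx)
        · exact ⟨R, (hS0 R).2 ⟨1, E0.one_mem, R, Subgroup.subset_closure (by simp), by group⟩, hR⟩
        · rw [Set.mem_singleton_iff] at hx
          rw [hx]
          exact ⟨S, (hS0 S).2 ⟨1, E0.one_mem, S, Subgroup.subset_closure (by simp), by group⟩, hS⟩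
    intro X hX
    obtain ⟨w, hw, hwX⟩ := hle (Subgroup.mem_comap.1 hX)
    refine ⟨w, hw, w⁻¹ * X, ?_, by group⟩
    rw [MonoidHom.mem_ker, map_mul, map_inv, hwX, inv_mul_cancel]
  exact inf_commutator_eq_bot_of_cover σ.ker S0 _ hc hS0A hcover

end Cfsg.Agent.H94
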