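import Mathlib
import Cfsg.Agent.H9.M24b
import Cfsg.Agent.H33.Orbit
import Cfsg.Agent.H94.ConjEnum
import Cfsg.Agent.H94.StemED
import Cfsg.Agent.H94.DMult23
import Cfsg.Agent.H41.M11Mult

/-!
# The Schur multiplier of `M₂₃` is trivial (helper94)

* `2`: the Sylow `2`-subgroup `E : D₈` (`E` elementary abelian of order `16`) and
  `noStemExp_two_of_ED`;
* `3`: a subgroup `C₃ × S₃` (helper41's lemma);
* the other primes divide the order only once.

Main result: `m23_stem_trivial`.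
-/

set_option autoImplicit false
set_option linter.style.haveILetI false

namespace Cfsg.Agent.H94

open Cfsg Cfsg.Agent.H9 Cfsg.Agent.H33 Cfsg.Agent.H41
open scoped Pointwise

universe u

/-! ### generalities -/

theorem dihedral_form {M : Type*} [Group M] {R S : M} (hR4 : R ^ 4 = 1) (hS2 : S * S = 1)
    (hSRrel : S * R = R ^ 3 * S) :
    ∀ d ∈ Subgroup.closure ({R, S} : Set M), ∃ i < 4, ∃ j < 2, d = R ^ i * S ^ j := by
  have hSinv : S⁻¹ = S := inv_eq_of_mul_eq_one_right hS2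
  have hRinv : R⁻¹ = R ^ 3 := by
    rw [inv_eq_iff_mul_eq_one, ← pow_succ']
    exact hR4
  have stepR : ∀ d : M, (∃ i < 4, ∃ j < 2, d = R ^ i * S ^ j) →
      ∃ i < 4, ∃ j < 2, d * R = R ^ i * S ^ j := by
    rintro d ⟨i, hi, j, hj, rfl⟩
    interval_cases j
    · refine ⟨(i + 1) % 4, Nat.mod_lt _ (by norm_num), 0, by norm_num, ?_⟩
      rw [pow_zero, mul_one, mul_one, ← pow_succ]
      exact pow_eq_pow_mod _ hR4
    · refine ⟨(i + 3) % 4, Nat.mod_lt _ (by norm_num), 1, by norm_num, ?_⟩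
      rw [pow_one, mul_assoc, hSRrel, ← mul_assoc, ← pow_add]
      rw [pow_eq_pow_mod (i + 3) hR4]
  have stepS : ∀ d : M, (∃ i < 4, ∃ j < 2, d = R ^ i * S ^ j) →
      ∃ i < 4, ∃ j < 2, d * S = R ^ i * S ^ j := by
    rintro d ⟨i, hi, j, hj, rfl⟩
    interval_cases j
    · exact ⟨i, hi, 1, by norm_num, by rw [pow_zero, mul_one, pow_one]⟩
    · exact ⟨i, hi, 0, by norm_num, by rw [pow_one, pow_zero, mul_one, mul_assoc, hS2, mul_one]⟩
  intro d hd
  induction hd using Subgroup.closure_induction_right with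
  | one => exact ⟨0, by norm_num, 0, by norm_num, by simp⟩
  | mul_right x hx z hz ih =>
    rcases hz with rfl | hz
    · exact stepR x ih
    · rw [Set.mem_singleton_iff] at hz
      rw [hz]
      exact stepS x ih
  | mul_inv_cancel x hx z hz ih =>
    rcases hz with rfl | hz
    · rw [hRinv]
      have : x * z ^ 3 = x * z * z * z := by
        rw [pow_succ, pow_two]
        simp only [mul_assoc]
      rw [this]
      exact stepR _ (stepR _ (stepR x ih))
    · rw [Set.mem_singleton_iff] at hz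
      rw [hz, hSinv]
      exact stepS x ih

theorem isPGroup_two_closure_dihedral {M : Type*} [Group M] [Finite M] {a b : M}
    (ha : a ^ 4 = 1) (hb : b * b = 1) (hba : b * a = a ^ 3 * b) :
    IsPGroup 2 (Subgroup.closure ({a, b} : Set M)) := by
  haveI : Fact (Nat.Prime 2) := ⟨Nat.prime_two⟩
  have hA : IsPGroup 2 (Subgroup.zpowers a) := by
    have hd : orderOf a ∣ 2 ^ 2 := orderOf_dvd_of_pow_eq_one ha
    have hcard : Nat.card (Subgroup.zpowers a) ∣ 2 ^ 2 := by rw [Nat.card_zpowers]; exact hd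
    obtain ⟨k, -, hk⟩ := (Nat.dvd_prime_pow Nat.prime_two).1 hcard
    exact IsPGroup.of_card hk
  have hB : IsPGroup 2 (Subgroup.zpowers b) := by
    have hd : orderOf b ∣ 2 ^ 1 := orderOf_dvd_of_pow_eq_one (by rw [pow_one, pow_two, hb])
    have hcard : Nat.card (Subgroup.zpowers b) ∣ 2 ^ 1 := by rw [Nat.card_zpowers]; exact hd
    obtain ⟨k, -, hk⟩ := (Nat.dvd_prime_pow Nat.prime_two).1 hcard
    exact IsPGroup.of_card hk
  have hnorm : Subgroup.zpowers b ≤ Subgroup.normalizer (Subgroup.zpowers a : Set M) := by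
    rw [Subgroup.zpowers_le]
    apply Subgroup.mem_normalizer_fintype
    intro x hx
    obtain ⟨k, rfl⟩ := Subgroup.mem_zpowers_iff.1 hx
    have h2 : b * a * b⁻¹ = a ^ 3 := by rw [hba, mul_inv_cancel_right]
    rw [← conj_zpow, h2]
    exact Subgroup.zpow_mem _ (Subgroup.pow_mem _ (Subgroup.mem_zpowers a) 3) k
  have hBA := IsPGroup.to_sup_of_normal_right' hB hA hnorm
  apply hBA.to_le
  rw [Subgroup.closure_le]
  rintro x (rfl | rfl)
  · exact Subgroup.mem_sup_right (Subgroup.mem_zpowers _)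
  · exact Subgroup.mem_sup_left (Subgroup.mem_zpowers _)

theorem card_ge_of_distinct {α : Type*} [Finite α] (f : ℕ → α) (n : ℕ)
    (hinj : ∀ a < n, ∀ b < n, f a = f b → a = b) : n ≤ Nat.card α := by
  have h : Function.Injective (fun i : Fin n => f i.1) :=
    fun i j hij => Fin.ext (hinj i.1 i.2 j.1 j.2 hij)
  have := Nat.card_le_card_of_injective _ h
  rwa [Nat.card_fin] at this

/-- the closure of a subgroup `C_m × D_{2n}` (`m`, `n` odd) has trivial multiplier -/
theorem noStem_closure_cyclic_mul_dihedral {G : Type u} [Group G] (a b t : G)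
    (hab : a * b = b * a) (hat : a * t = t * a) (m n : ℕ) (hm : Odd m) (hn : Odd n)
    (ham : a ^ m = 1) (hbn : b ^ n = 1) (ht : t ^ 2 = 1) (hinv : t * b * t⁻¹ = b⁻¹) :
    NoStem (Subgroup.closure ({a, b, t} : Set G)) := by
  have hA : a ∈ Subgroup.closure ({a, b, t} : Set G) := Subgroup.subset_closure (by simp)
  have hB : b ∈ Subgroup.closure ({a, b, t} : Set G) := Subgroup.subset_closure (by simp)
  have hT : t ∈ Subgroup.closure ({a, b, t} : Set G) := Subgroup.subset_closure (by simp)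
  apply noStem_of_cyclic_mul_dihedral_odd (⟨a, hA⟩ : Subgroup.closure ({a, b, t} : Set G))
    ⟨b, hB⟩ ⟨t, hT⟩ ?_ (Subtype.ext hab) (Subtype.ext hat) m n hm hn (Subtype.ext ham)
    (Subtype.ext hbn) (Subtype.ext ht) (Subtype.ext hinv)
  have h := Subgroup.closure_closure_coe_preimage (k := ({a, b, t} : Set G))
  have e : ((↑) : Subgroup.closure ({a, b, t} : Set G) → G) ⁻¹' {a, b, t} =
      {(⟨a, hA⟩ : Subgroup.closure ({a, b, t} : Set G)), ⟨b, hB⟩, ⟨t, hT⟩} := by
    ext x
    constructor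
    · intro hx
      rcases hx with h | h | h
      · exact Or.inl (Subtype.ext h)
      · exact Or.inr (Or.inl (Subtype.ext h))
      · exact Or.inr (Or.inr (Subtype.ext h))
    · intro hx
      rcases hx with h | h | h
      · exact Or.inl (congrArg Subtype.val h)
      · exact Or.inr (Or.inl (congrArg Subtype.val h))
      · exact Or.inr (Or.inr (congrArg Subtype.val h))
  rw [e] at h
  exact h

theorem nine_dvd_card_closure {G : Type*} [Group G] [Finite G] (a b t : G) (hab : a * b = b * a)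
    (ha : a ^ 3 = 1) (hb : b ^ 3 = 1) (ha1 : a ≠ 1) (hb1 : b ≠ 1) (hba : b ≠ a)
    (hba2 : b ≠ a ^ 2) : 3 ^ 2 ∣ Nat.card (Subgroup.closure ({a, b, t} : Set G)) := by
  classical
  haveI : Fact (Nat.Prime 3) := ⟨Nat.prime_three⟩
  have hoa : orderOf a = 3 := orderOf_eq_prime ha ha1
  have hnot : b ∉ Subgroup.zpowers a := by
    intro h
    rw [mem_zpowers_iff_mem_range_orderOf, hoa] at h
    have h3 : Finset.range 3 = {0, 1, 2} := by decide
    rw [h3] at h
    simp only [Finset.image_insert, Finset.image_singleton, Finset.mem_insert,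
      Finset.mem_singleton, pow_zero, pow_one] at h
    rcases h with h | h | h
    · exact hb1 h
    · exact hba h
    · exact hba2 h
  have hP : IsPGroup 3 (Subgroup.closure {a, b}) :=
    isPGroup_closure_pair_of_commute 3 a b hab ha hb
  have hle : Subgroup.zpowers a ≤ Subgroup.closure {a, b} := by
    rw [Subgroup.zpowers_le]
    exact Subgroup.subset_closure (by simp)
  have hne : Subgroup.zpowers a ≠ Subgroup.closure {a, b} := by
    intro h
    apply hnot
    rw [h]
    exact Subgroup.subset_closure (by simp)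
  have h1 := pow_succ_dvd_card_of_ne hP hle hne 1 (by rw [Nat.card_zpowers, hoa, pow_one])
  have h2 : Subgroup.closure {a, b} ≤ Subgroup.closure ({a, b, t} : Set G) := by
    apply Subgroup.closure_mono
    intro x hx
    rcases hx with rfl | rfl
    · simp
    · simp
  exact h1.trans (Subgroup.card_dvd_of_le h2)

/-! ### packed elements of `M₂₃` -/

theorem gPt23' : gPt 23 = (none : GolayPt) := by decide

theorem mem_sporM23 {g : Equiv.Perm GolayPt} :
    g ∈ Spor.M23 ↔ g ∈ M24 ∧ g (gPt 23) = gPt 23 := by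
  rw [gPt23']
  exact Iff.rfl

theorem card_sporM23' : Nat.card Spor.M23 = 10200960 := by
  have e : (MulAction.stabilizer M24 (none : GolayPt)).map M24.subtype = Spor.M23 := by
    ext g
    constructor
    · rintro ⟨h, hh, rfl⟩
      exact ⟨h.2, hh⟩
    · rintro ⟨hg, h1⟩
      exact ⟨⟨g, hg⟩, h1, rfl⟩
  rw [← e, Subgroup.card_map_of_injective M24.subtype_injective]
  exact card_stabilizer_point _

/-- validity of a packed element of `M₂₃` with packed inverse -/
def ok23 (P Q : ℕ) : Bool := chkInv P Q && (chkM24 P && Nat.beq (lk P 23) 23)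

theorem ok23_spec {P Q : ℕ} (h : ok23 P Q = true) :
    chkInv P Q = true ∧ chkM24 P = true ∧ lk P 23 = 23 := by
  unfold ok23 at h
  simp only [Bool.and_eq_true] at h
  exact ⟨h.1, h.2.1, Nat.eq_of_beq_eq_true h.2.2⟩

/-- the element of `M₂₃` given by packed data (the identity if the data is invalid) -/
noncomputable def mk23 (P Q : ℕ) : ↥Spor.M23 :=
  if h : ok23 P Q = true then
    ⟨permOf P Q (ok23_spec h).1, mem_sporM23.mpr ⟨permOf_mem_M24 P Q _ (ok23_spec h).2.1,
      (rep_apply (rep_permOf P Q _) (by norm_num)).trans (congrArg gPt (ok23_spec h).2.2)⟩⟩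
  else 1

theorem rep_mk23 {P Q : ℕ} (h : ok23 P Q = true) : Rep P (mk23 P Q : Equiv.Perm GolayPt) := by
  unfold mk23
  rw [dif_pos h]
  exact rep_permOf P Q (ok23_spec h).1

theorem mk23_mul {A AI B BI C CI : ℕ} (hA : ok23 A AI = true) (hB : ok23 B BI = true)
    (hC : ok23 C CI = true) (h : eqN (mulN A B) C = true) :
    mk23 A AI * mk23 B BI = mk23 C CI :=
  Subtype.ext (eq_of_eqN (rep_mulN (rep_mk23 hA) (rep_mk23 hB)) (rep_mk23 hC) h)

theorem mk23_rel {A AI B BI C CI : ℕ} (hA : ok23 A AI = true) (hB : ok23 B BI = true)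
    (hC : ok23 C CI = true) (h : relN A B C = true) :
    mk23 C CI * mk23 A AI = mk23 B BI * mk23 C CI :=
  Subtype.ext (rel_of_relN (rep_mk23 hA) (rep_mk23 hB) (rep_mk23 hC) h)

theorem mk23_one {A AI : ℕ} (hA : ok23 A AI = true) (h : isIdP A = true) : mk23 A AI = 1 :=
  Subtype.ext (eq_one_of_isIdP (rep_mk23 hA) h)

theorem eq_one_of_rep23 {P : ℕ} {x : ↥Spor.M23} (h : Rep P (x : Equiv.Perm GolayPt))
    (hP : isIdP P = true) : x = 1 :=
  Subtype.ext (eq_one_of_isIdP h hP)

theorem eq_of_rep23 {P Q : ℕ} {x y : ↥Spor.M23} (hx : Rep P (x : Equiv.Perm GolayPt))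
    (hy : Rep Q (y : Equiv.Perm GolayPt)) (h : eqN P Q = true) : x = y :=
  Subtype.ext (eq_of_eqN hx hy h)

theorem eqN_of_rep23 {P Q : ℕ} {x y : ↥Spor.M23} (hx : Rep P (x : Equiv.Perm GolayPt))
    (hy : Rep Q (y : Equiv.Perm GolayPt)) (h : x = y) : eqN P Q = true := by
  rw [← h] at hy
  exact eqN_of hx hy

theorem rep_mul23 {P Q : ℕ} {x y : ↥Spor.M23} (hx : Rep P (x : Equiv.Perm GolayPt))
    (hy : Rep Q (y : Equiv.Perm GolayPt)) : Rep (mulN P Q) ((x * y : ↥Spor.M23) : Equiv.Perm GolayPt) :=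
  rep_mulN hx hy

theorem rep_pow23 {P : ℕ} {x : ↥Spor.M23} (hx : Rep P (x : Equiv.Perm GolayPt)) (n : ℕ) :
    Rep (pwN P n) ((x ^ n : ↥Spor.M23) : Equiv.Perm GolayPt) := by
  rw [Subgroup.coe_pow]
  exact rep_pwN hx n

/-! ### the `2`-local data -/

noncomputable def eG (j : ℕ) : ↥Spor.M23 := mk23 (fldG m23E j) (fldG m23E j)
noncomputable def cG (j : ℕ) : ↥Spor.M23 := mk23 (fldG m23C j) (fldG m23CI j)
noncomputable def kG (j : ℕ) : ↥Spor.M23 := mk23 (fldG m23K j) (fldG m23KI j)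
noncomputable def gG : ↥Spor.M23 := mk23 m23G m23GI
noncomputable def rG : ↥Spor.M23 := mk23 m23R m23RI
noncomputable def sG : ↥Spor.M23 := mk23 m23S m23S

theorem eOK : allB (fun j => ok23 (fldG m23E j) (fldG m23E j)) 16 = true := by decide +kernel
theorem cOK : allB (fun j => ok23 (fldG m23C j) (fldG m23CI j)) 16 = true := by decide +kernel
theorem kOK : allB (fun j => ok23 (fldG m23K j) (fldG m23KI j)) 3 = true := by decide +kernel
theorem gOK : ok23 m23G m23GI = true := by decide +kernel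
theorem rOK : ok23 m23R m23RI = true := by decide +kernel
theorem sOK : ok23 m23S m23S = true := by decide +kernel

theorem eok {j : ℕ} (hj : j < 16) : ok23 (fldG m23E j) (fldG m23E j) = true :=
  (allB_iff _ _).mp eOK j hj

theorem rep_e {j : ℕ} (hj : j < 16) : Rep (fldG m23E j) (eG j : Equiv.Perm GolayPt) :=
  rep_mk23 (eok hj)

theorem rep_g : Rep m23G (gG : Equiv.Perm GolayPt) := rep_mk23 gOK
theorem rep_r : Rep m23R (rG : Equiv.Perm GolayPt) := rep_mk23 rOK
theorem rep_s : Rep m23S (sG : Equiv.Perm GolayPt) := rep_mk23 sOK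

theorem eMulB : allB (fun a => allB (fun b =>
    eqN (mulN (fldG m23E a) (fldG m23E b)) (fldG m23E (a ^^^ b))) 16) 16 = true := by
  decide +kernel

theorem xor_lt16 : ∀ a < 16, ∀ b < 16, a ^^^ b < 16 := by decide

theorem eG_mul {a b : ℕ} (ha : a < 16) (hb : b < 16) : eG a * eG b = eG (a ^^^ b) :=
  mk23_mul (eok ha) (eok hb) (eok (xor_lt16 a ha b hb))
    ((allB_iff _ _).mp ((allB_iff _ _).mp eMulB a ha) b hb)

theorem eG_zero : eG 0 = 1 := mk23_one (eok (by norm_num)) (by decide +kernel)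

theorem eG_sq {a : ℕ} (ha : a < 16) : eG a * eG a = 1 := by
  rw [eG_mul ha ha, Nat.xor_self, eG_zero]

/-- the elementary abelian subgroup of order `16` -/
noncomputable def EE : Subgroup ↥Spor.M23 where
  carrier := {x | ∃ j < 16, x = eG j}
  mul_mem' := by
    rintro _ _ ⟨a, ha, rfl⟩ ⟨b, hb, rfl⟩
    exact ⟨a ^^^ b, xor_lt16 a ha b hb, eG_mul ha hb⟩
  one_mem' := ⟨0, by norm_num, eG_zero.symm⟩
  inv_mem' := by
    rintro _ ⟨a, ha, rfl⟩
    exact ⟨a, ha, inv_eq_of_mul_eq_one_right (eG_sq ha)⟩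

theorem eG_mem {j : ℕ} (hj : j < 16) : eG j ∈ EE := ⟨j, hj, rfl⟩

theorem eDistB : allB (fun a => allB (fun b =>
    Nat.beq a b || !(eqN (fldG m23E a) (fldG m23E b))) 16) 16 = true := by decide +kernel

theorem eG_inj : ∀ a < 16, ∀ b < 16, eG a = eG b → a = b := by
  intro a ha b hb h
  have h1 := (allB_iff _ _).mp ((allB_iff _ _).mp eDistB a ha) b hb
  rw [Bool.or_eq_true] at h1
  rcases h1 with h1 | h1
  · exact Nat.eq_of_beq_eq_true h1
  · rw [eqN_of_rep23 (rep_e ha) (rep_e hb) h] at h1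
    exact absurd h1 (by decide)

theorem eConjB : allB (fun j => Nat.beq j 0 ||
    relN (fldG m23E 1) (fldG m23E j) (fldG m23C j)) 16 = true := by decide +kernel

theorem eG_conj {j : ℕ} (hj : j < 16) (h0 : j ≠ 0) : IsConj (eG 1) (eG j) := by
  have h := (allB_iff _ _).mp eConjB j hj
  rw [Bool.or_eq_true] at h
  rcases h with h | h
  · exact absurd (Nat.eq_of_beq_eq_true h) h0
  · rw [isConj_iff]
    refine ⟨cG j, ?_⟩
    rw [mul_inv_eq_iff_eq_mul]
    exact mk23_rel (eok (by norm_num)) (eok hj) ((allB_iff _ _).mp cOK j hj) h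

theorem EE_conj : ∀ x ∈ EE, x = 1 ∨ IsConj (eG 1) x := by
  rintro _ ⟨j, hj, rfl⟩
  by_cases h0 : j = 0
  · left
    rw [h0]
    exact eG_zero
  · right
    exact eG_conj hj h0

theorem eG_ne_one {j : ℕ} (hj : j < 16) (h0 : j ≠ 0) : eG j ≠ 1 := by
  intro h
  rw [← eG_zero] at h
  exact h0 (eG_inj j hj 0 (by norm_num) h)

/-- `D` normalises `E` -/
def normB (D : ℕ) : Bool :=
  allB (fun j => anyB (fun k => relN (fldG m23E j) (fldG m23E k) D) 16) 16

theorem norm_of {D DI : ℕ} (hD : ok23 D DI = true) (h : normB D = true) :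
    ∀ x ∈ EE, mk23 D DI * x * (mk23 D DI)⁻¹ ∈ EE := by
  rintro _ ⟨j, hj, rfl⟩
  obtain ⟨k, hk, hr⟩ := (anyB_iff _ _).mp ((allB_iff _ _).mp h j hj)
  refine ⟨k, hk, ?_⟩
  rw [mul_inv_eq_iff_eq_mul]
  exact mk23_rel (eok hj) (eok hk) hD hr

theorem gNormB : normB m23G = true := by decide +kernel
theorem rNormB : normB m23R = true := by decide +kernel
theorem sNormB : normB m23S = true := by decide +kernel

theorem gFixB : allB (fun j => Nat.beq j 0 ||
    !(relN (fldG m23E j) (fldG m23E j) m23G)) 16 = true := by decide +kernel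

theorem g_fix : ∀ x ∈ EE, gG * x = x * gG → x = 1 := by
  rintro _ ⟨j, hj, rfl⟩ hcomm
  have h := (allB_iff _ _).mp gFixB j hj
  rw [Bool.or_eq_true] at h
  rcases h with h | h
  · rw [Nat.eq_of_beq_eq_true h]
    exact eG_zero
  · have h1 : relN (fldG m23E j) (fldG m23E j) m23G = true :=
      relN_of (rep_e hj) (rep_e hj) rep_g (congrArg Subtype.val hcomm)
    rw [h1] at h
    exact absurd h (by decide)

theorem g_pow : gG ^ 3 = 1 := eq_one_of_rep23 (rep_pow23 rep_g 3) (by decide +kernel)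

theorem r_pow : rG ^ 4 = 1 := eq_one_of_rep23 (rep_pow23 rep_r 4) (by decide +kernel)

theorem s_sq : sG * sG = 1 := eq_one_of_rep23 (rep_mul23 rep_s rep_s) (by decide +kernel)

theorem sr_rel : sG * rG = rG ^ 3 * sG :=
  eq_of_rep23 (rep_mul23 rep_s rep_r) (rep_mul23 (rep_pow23 rep_r 3) rep_s) (by decide +kernel)

theorem rg_rel : rG * gG * rG⁻¹ = gG⁻¹ := by
  have h : gG * (rG * gG) = rG :=
    eq_of_rep23 (rep_mul23 rep_g (rep_mul23 rep_r rep_g)) rep_r (by decide +kernel)
  rw [mul_inv_eq_iff_eq_mul, eq_inv_mul_iff_mul_eq]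
  exact h

theorem sg_rel : sG * gG * sG⁻¹ = gG := by
  rw [mul_inv_eq_iff_eq_mul]
  exact Subtype.ext (rel_of_relN rep_g rep_g rep_s (by decide +kernel))

theorem kConjB : (relN (fldG m23E 1) (mulN m23R m23R) (fldG m23K 0) &&
    (relN (fldG m23E 1) m23S (fldG m23K 1) &&
      relN (fldG m23E 1) (mulN m23S m23R) (fldG m23K 2))) = true := by decide +kernel

theorem rep_k {j : ℕ} (hj : j < 3) : Rep (fldG m23K j) (kG j : Equiv.Perm GolayPt) :=
  rep_mk23 ((allB_iff _ _).mp kOK j hj)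

theorem conj_rr : IsConj (eG 1) (rG * rG) := by
  have h := kConjB
  simp only [Bool.and_eq_true] at h
  rw [isConj_iff]
  refine ⟨kG 0, ?_⟩
  rw [mul_inv_eq_iff_eq_mul]
  exact Subtype.ext (rel_of_relN (rep_e (by norm_num)) (rep_mul23 rep_r rep_r)
    (rep_k (by norm_num)) h.1)

theorem conj_s : IsConj (eG 1) sG := by
  have h := kConjB
  simp only [Bool.and_eq_true] at h
  rw [isConj_iff]
  refine ⟨kG 1, ?_⟩
  rw [mul_inv_eq_iff_eq_mul]
  exact Subtype.ext (rel_of_relN (rep_e (by norm_num)) rep_s (rep_k (by norm_num)) h.2.1)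

theorem conj_sr : IsConj (eG 1) (sG * rG) := by
  have h := kConjB
  simp only [Bool.and_eq_true] at h
  rw [isConj_iff]
  refine ⟨kG 2, ?_⟩
  rw [mul_inv_eq_iff_eq_mul]
  exact Subtype.ext (rel_of_relN (rep_e (by norm_num)) (rep_mul23 rep_s rep_r)
    (rep_k (by norm_num)) h.2.2)

theorem rep_rs (i j : ℕ) :
    Rep (mulN (pwN m23R i) (pwN m23S j)) ((rG ^ i * sG ^ j : ↥Spor.M23) : Equiv.Perm GolayPt) :=
  rep_mul23 (rep_pow23 rep_r i) (rep_pow23 rep_s j)

theorem dDisjB : allB (fun i => allB (fun j => (Nat.beq i 0 && Nat.beq j 0) ||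
    allB (fun k => !(eqN (mulN (pwN m23R i) (pwN m23S j)) (fldG m23E k))) 16) 2) 4 = true := by
  decide +kernel

theorem d_disj : ∀ i < 4, ∀ j < 2, rG ^ i * sG ^ j ∈ EE → i = 0 ∧ j = 0 := by
  rintro i hi j hj ⟨k, hk, hx⟩
  have h := (allB_iff _ _).mp ((allB_iff _ _).mp dDisjB i hi) j hj
  rw [Bool.or_eq_true] at h
  rcases h with h | h
  · rw [Bool.and_eq_true] at h
    exact ⟨Nat.eq_of_beq_eq_true h.1, Nat.eq_of_beq_eq_true h.2⟩
  · have h1 := (allB_iff _ _).mp h k hk
    rw [eqN_of_rep23 (rep_rs i j) (rep_e hk) hx] at h1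
    exact absurd h1 (by decide)

theorem dDistB : allB (fun a => allB (fun b => Nat.beq a b ||
    !(eqN (mulN (pwN m23R (a / 2)) (pwN m23S (a % 2)))
      (mulN (pwN m23R (b / 2)) (pwN m23S (b % 2))))) 8) 8 = true := by decide +kernel

theorem noStemExp_m23_two : NoStemExp ↥Spor.M23 (EE ⊔ Subgroup.closure {rG, sG}) 2 := by
  have h1 : (1 : ℕ) ^^^ 2 = 3 := by decide
  have h2 : (1 : ℕ) ^^^ 4 = 5 := by decide
  have h3 : (2 : ℕ) ^^^ 4 = 6 := by decide
  have h4 : (1 : ℕ) ^^^ 6 = 7 := by decide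
  apply noStemExp_two_of_ED EE (eG 1) (eG 2) (eG 4) gG rG sG (eG_sq (by norm_num)) EE_conj
    (eG_mem (by norm_num)) (eG_mem (by norm_num)) (eG_mem (by norm_num))
    (eG_ne_one (by norm_num) (by norm_num)) (eG_ne_one (by norm_num) (by norm_num))
  · rw [eG_mul (by norm_num) (by norm_num), h1]
    exact eG_ne_one (by norm_num) (by norm_num)
  · rw [eG_mul (by norm_num) (by norm_num), h2]
    exact eG_ne_one (by norm_num) (by norm_num)
  · rw [eG_mul (by norm_num) (by norm_num), h3]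
    exact eG_ne_one (by norm_num) (by norm_num)
  · rw [eG_mul (by norm_num) (by norm_num), h3, eG_mul (by norm_num) (by norm_num), h4]
    exact eG_ne_one (by norm_num) (by norm_num)
  · exact conj_rr
  · exact conj_s
  · exact conj_sr
  · exact g_pow
  · exact norm_of gOK gNormB
  · exact g_fix
  · exact norm_of rOK rNormB
  · exact norm_of sOK sNormB
  · exact Or.inr rg_rel
  · exact Or.inl sg_rel
  · exact d_disj

theorem index_two_m23 : ¬ 2 ∣ (EE ⊔ Subgroup.closure {rG, sG}).index := by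
  haveI : Fact (Nat.Prime 2) := ⟨Nat.prime_two⟩
  apply not_dvd_index_of_pow_dvd_card _ 2 7 _ (by rw [card_sporM23']; norm_num)
  have hE2 : IsPGroup 2 EE := by
    intro x
    refine ⟨1, ?_⟩
    obtain ⟨j, hj, hx⟩ := x.2
    apply Subtype.ext
    rw [pow_one, Subgroup.coe_pow, Subgroup.coe_one, hx, pow_two]
    exact eG_sq hj
  have hD2 : IsPGroup 2 (Subgroup.closure ({rG, sG} : Set ↥Spor.M23)) :=
    isPGroup_two_closure_dihedral r_pow s_sq sr_rel
  have hnorm : Subgroup.closure ({rG, sG} : Set ↥Spor.M23) ≤ Subgroup.normalizer (EE : Set ↥Spor.M23) := by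
    rw [Subgroup.closure_le]
    rintro x (rfl | rfl)
    · exact Subgroup.mem_normalizer_fintype (norm_of rOK rNormB)
    · exact Subgroup.mem_normalizer_fintype (norm_of sOK sNormB)
  have hK : IsPGroup 2 (EE ⊔ Subgroup.closure ({rG, sG} : Set ↥Spor.M23) : Subgroup ↥Spor.M23) :=
    IsPGroup.to_sup_of_normal_left' hE2 hD2 hnorm
  obtain ⟨n, hn⟩ := IsPGroup.iff_card.1 hK
  rw [hn]
  apply pow_dvd_pow
  -- the cardinality is at least `128`
  have hcE : 16 ≤ Nat.card EE :=
    card_ge_of_distinct (fun j => if h : j < 16 then (⟨eG j, eG_mem h⟩ : EE) else 1) 16 (by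
      intro a ha b hb hab
      rw [dif_pos ha, dif_pos hb] at hab
      exact eG_inj a ha b hb (congrArg Subtype.val hab))
  have hcD : 8 ≤ Nat.card (Subgroup.closure ({rG, sG} : Set ↥Spor.M23)) :=
    card_ge_of_distinct (fun a => (⟨rG ^ (a / 2) * sG ^ (a % 2),
      Subgroup.mul_mem _ (Subgroup.pow_mem _ (Subgroup.subset_closure (by simp)) _)
        (Subgroup.pow_mem _ (Subgroup.subset_closure (by simp)) _)⟩ :
        Subgroup.closure ({rG, sG} : Set ↥Spor.M23))) 8 (by
      intro a ha b hb hab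
      have h1 := (allB_iff _ _).mp ((allB_iff _ _).mp dDistB a ha) b hb
      rw [Bool.or_eq_true] at h1
      rcases h1 with h1 | h1
      · exact Nat.eq_of_beq_eq_true h1
      · rw [eqN_of_rep23 (rep_rs _ _) (rep_rs _ _) (congrArg Subtype.val hab)] at h1
        exact absurd h1 (by decide))
  have hdisj : ∀ x : ↥Spor.M23, x ∈ EE → x ∈ Subgroup.closure ({rG, sG} : Set ↥Spor.M23) → x = 1 := by
    intro x hxE hxD
    obtain ⟨i, hi, j, hj, rfl⟩ := dihedral_form r_pow s_sq sr_rel x hxD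
    obtain ⟨rfl, rfl⟩ := d_disj i hi j hj hxE
    rw [pow_zero, pow_zero, mul_one]
  have hinj : Function.Injective (fun q : EE × Subgroup.closure ({rG, sG} : Set ↥Spor.M23) =>
      (⟨q.1.1 * q.2.1, Subgroup.mul_mem _ (Subgroup.mem_sup_left q.1.2)
        (Subgroup.mem_sup_right q.2.2)⟩ :
        (EE ⊔ Subgroup.closure ({rG, sG} : Set ↥Spor.M23) : Subgroup ↥Spor.M23))) := by
    rintro ⟨e, d⟩ ⟨e', d'⟩ h
    have h1 : e.1 * d.1 = e'.1 * d'.1 := congrArg Subtype.val h
    have h2 : e'.1⁻¹ * e.1 = d'.1 * d.1⁻¹ := by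
      rw [inv_mul_eq_iff_eq_mul, ← mul_assoc, ← h1, mul_inv_cancel_right]
    have h3 : e'.1⁻¹ * e.1 = 1 :=
      hdisj _ (EE.mul_mem (EE.inv_mem e'.2) e.2)
        (by rw [h2]; exact Subgroup.mul_mem _ d'.2 (Subgroup.inv_mem _ d.2))
    have h4 : d'.1 * d.1⁻¹ = 1 := by rw [← h2, h3]
    have h5 : e = e' := Subtype.ext (inv_mul_eq_one.1 h3).symm
    have h6 : d = d' := Subtype.ext (mul_inv_eq_one.1 h4).symm
    rw [h5, h6]
  have hcard := Nat.card_le_card_of_injective _ hinj
  rw [Nat.card_prod, hn] at hcard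
  have h128 : 2 ^ 7 ≤ 2 ^ n := by
    calc 2 ^ 7 = 16 * 8 := by norm_num
      _ ≤ Nat.card EE * Nat.card (Subgroup.closure ({rG, sG} : Set ↥Spor.M23)) :=
        Nat.mul_le_mul hcE hcD
      _ ≤ 2 ^ n := hcard
  exact (Nat.pow_le_pow_iff_right (by norm_num)).1 h128

/-! ### the prime `3` -/

noncomputable def aG : ↥Spor.M23 := mk23 m23A3 m23A3I
noncomputable def bG : ↥Spor.M23 := mk23 m23B3 m23B3I
noncomputable def tG : ↥Spor.M23 := mk23 m23T3 m23T3

theorem aOK : ok23 m23A3 m23A3I = true := by decide +kernel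
theorem bOK : ok23 m23B3 m23B3I = true := by decide +kernel
theorem tOK : ok23 m23T3 m23T3 = true := by decide +kernel

theorem rep_a : Rep m23A3 (aG : Equiv.Perm GolayPt) := rep_mk23 aOK
theorem rep_b : Rep m23B3 (bG : Equiv.Perm GolayPt) := rep_mk23 bOK
theorem rep_t : Rep m23T3 (tG : Equiv.Perm GolayPt) := rep_mk23 tOK

theorem ne_of_rep23 {P Q : ℕ} {x y : ↥Spor.M23} (hx : Rep P (x : Equiv.Perm GolayPt))
    (hy : Rep Q (y : Equiv.Perm GolayPt)) (h : eqN P Q = false) : x ≠ y := by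
  intro he
  rw [eqN_of_rep23 hx hy he] at h
  exact absurd h (by decide)

theorem rep_one23 : Rep idN ((1 : ↥Spor.M23) : Equiv.Perm GolayPt) := rep_idN

theorem ab_comm : aG * bG = bG * aG :=
  eq_of_rep23 (rep_mul23 rep_a rep_b) (rep_mul23 rep_b rep_a) (by decide +kernel)

theorem at_comm : aG * tG = tG * aG :=
  eq_of_rep23 (rep_mul23 rep_a rep_t) (rep_mul23 rep_t rep_a) (by decide +kernel)

theorem a_pow : aG ^ 3 = 1 := eq_one_of_rep23 (rep_pow23 rep_a 3) (by decide +kernel)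

theorem b_pow : bG ^ 3 = 1 := eq_one_of_rep23 (rep_pow23 rep_b 3) (by decide +kernel)

theorem t_pow : tG ^ 2 = 1 := eq_one_of_rep23 (rep_pow23 rep_t 2) (by decide +kernel)

theorem tb_rel : tG * bG * tG⁻¹ = bG⁻¹ := by
  have h : bG * (tG * bG) = tG :=
    eq_of_rep23 (rep_mul23 rep_b (rep_mul23 rep_t rep_b)) rep_t (by decide +kernel)
  rw [mul_inv_eq_iff_eq_mul, eq_inv_mul_iff_mul_eq]
  exact h

theorem index_three_m23 : ¬ 3 ∣ (Subgroup.closure ({aG, bG, tG} : Set ↥Spor.M23)).index := by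
  apply not_dvd_index_of_pow_dvd_card _ 3 2 _ (by rw [card_sporM23']; norm_num)
  exact nine_dvd_card_closure aG bG tG ab_comm a_pow b_pow
    (ne_of_rep23 rep_a rep_one23 (by decide +kernel))
    (ne_of_rep23 rep_b rep_one23 (by decide +kernel))
    (ne_of_rep23 rep_b rep_a (by decide +kernel))
    (ne_of_rep23 rep_b (rep_pow23 rep_a 2) (by decide +kernel))

/-! ### the multiplier -/

/-- Every finite stem extension of `M₂₃` is trivial. -/
theorem m23_stem_trivial (Γ : Type) [Group Γ] [Finite Γ] (σ : Γ →* ↥Spor.M23)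
    (hσ : IsStemExtension σ) : σ.ker = ⊥ := by
  apply stem_ker_eq_bot_exp _ Γ σ hσ
  intro p hp
  haveI : Fact p.Prime := ⟨hp⟩
  by_cases h2 : p = 2
  · subst h2
    exact ⟨_, noStemExp_m23_two, index_two_m23⟩
  by_cases h3 : p = 3
  · subst h3
    exact ⟨_, NoStemExp.of_noStemIn ((noStem_closure_cyclic_mul_dihedral aG bG tG ab_comm at_comm
      3 3 (by decide) (by decide) a_pow b_pow t_pow tb_rel).noStemIn _) 3, index_three_m23⟩
  · obtain ⟨H, hH, hidx⟩ := exists_noStemIn_zpowers (G := ↥Spor.M23) p (by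
      rw [card_sporM23']
      intro hdvd
      have h1 : p ∣ 10200960 := (dvd_pow_self p two_ne_zero).trans hdvd
      have hN : (10200960 : ℕ) = 2 ^ 7 * 3 ^ 2 * 5 * 7 * 11 * 23 := by norm_num
      rw [hN] at h1
      rcases (Nat.Prime.dvd_mul hp).1 h1 with h1 | h1
      · rcases (Nat.Prime.dvd_mul hp).1 h1 with h1 | h1
        · rcases (Nat.Prime.dvd_mul hp).1 h1 with h1 | h1
          · rcases (Nat.Prime.dvd_mul hp).1 h1 with h1 | h1
            · rcases (Nat.Prime.dvd_mul hp).1 h1 with h1 | h1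
              · exact h2 ((Nat.prime_dvd_prime_iff_eq hp Nat.prime_two).1 (hp.dvd_of_dvd_pow h1))
              · exact h3 ((Nat.prime_dvd_prime_iff_eq hp Nat.prime_three).1
                  (hp.dvd_of_dvd_pow h1))
            · have h5 : p = 5 := (Nat.prime_dvd_prime_iff_eq hp (by norm_num)).1 h1
              subst h5
              revert hdvd
              norm_num
          · have h7 : p = 7 := (Nat.prime_dvd_prime_iff_eq hp (by norm_num)).1 h1
            subst h7
            revert hdvd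
            norm_num
        · have h11 : p = 11 := (Nat.prime_dvd_prime_iff_eq hp (by norm_num)).1 h1
          subst h11
          revert hdvd
          norm_num
      · have h23 : p = 23 := (Nat.prime_dvd_prime_iff_eq hp (by norm_num)).1 h1
        subst h23
        revert hdvd
        norm_num)
    exact ⟨H, NoStemExp.of_noStemIn hH p, hidx⟩

theorem m23_multiplier : HasCyclicSchurMultiplier ↥Spor.M23 1 :=
  hasCyclicSchurMultiplier_one_of_ker m23_stem_trivial

end Cfsg.Agent.H94
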