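import Mathlib
import Cfsg.Agent.H94.Ext23a
import Cfsg.Agent.H94.Coset
import Cfsg.Agent.H9.M12
import Cfsg.Agent.H94.Mult23

/-!
# The non-split extension of `M₂₃` by the cocode module: the group (helper94)

`C0` is the space of code words vanishing at the extra point.  `Big` is the group of pairs
`(π, f)`, `π ∈ M₂₃`, `f : C0 → 𝔽₂`, with `(π, f)(π', f') = (ππ', f' + f ∘ π')`, and `XE` its
subgroup of pairs with `f(d + e) = f(d) + f(e) + φ(πd, πe) + φ(d, e)`, for the loop cocycle `φ`
(`Phi`).  Over the identity these are the additive `f`, i.e. the linear forms on `C0`.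
-/

set_option autoImplicit false

namespace Cfsg.Agent.H94

open Cfsg Cfsg.Agent.H9 Cfsg.Agent.H33

/-! ### words and masks -/

/-- a mask of a word -/
noncomputable def mask (w : GolayPt → ZMod 2) : ℕ := Classical.choose (exists_mask (support₂ w))

theorem mask_lt (w : GolayPt → ZMod 2) : mask w < 2 ^ 24 :=
  (Classical.choose_spec (exists_mask (support₂ w))).1

theorem dec_mask (w : GolayPt → ZMod 2) : dec (mask w) = w := by
  apply support₂_inj
  rw [support₂_dec]
  exact (Classical.choose_spec (exists_mask (support₂ w))).2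

theorem mask_dec {n : ℕ} (hn : n < 2 ^ 24) : mask (dec n) = n := by
  apply fs_inj (mask_lt _) hn
  rw [← support₂_dec, dec_mask, support₂_dec]

/-- the index (bits `12 … 22`) of a word -/
noncomputable def idx (w : GolayPt → ZMod 2) : ℕ := idxN (mask w)

theorem idx_dec {n : ℕ} (hn : n < 2 ^ 24) : idx (dec n) = idxN n := by
  rw [idx, mask_dec hn]

theorem idxN_cw {k : ℕ} (hk : k < 2048) : idxN (cw k) = k := by
  have h : cw k >>> 12 = k := cw_shift k (by omega)
  show (cw k >>> 12) % 2048 = k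
  rw [h]
  exact Nat.mod_eq_of_lt hk

theorem idx_cw {k : ℕ} (hk : k < 2048) : idx (dec (cw k)) = k := by
  rw [idx_dec (cw_lt k), idxN_cw hk]

/-- the loop cocycle -/
noncomputable def Phi (d e : GolayPt → ZMod 2) : ZMod 2 :=
  ∑ i, dec (Nat.shiftLeft (ltf (idx d)) 12) i * e i

theorem Phi_add (d e e' : GolayPt → ZMod 2) : Phi d (e + e') = Phi d e + Phi d e' := by
  simp only [Phi, Pi.add_apply, mul_add, Finset.sum_add_distrib]

theorem Phi_zero_right (d : GolayPt → ZMod 2) : Phi d 0 = 0 := by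
  simp [Phi]

theorem Phi_dec (d : GolayPt → ZMod 2) (b : ℕ) :
    Phi d (dec b) = ((pcT (Nat.land (Nat.shiftLeft (ltf (idx d)) 12) b) : ℕ) : ZMod 2) :=
  sum_dec_mul _ _

theorem ltf_zero : ltf 0 = 0 := by decide +kernel

theorem Phi_zero_left (e : GolayPt → ZMod 2) : Phi 0 e = 0 := by
  have h : idx (0 : GolayPt → ZMod 2) = 0 := by
    rw [← dec_zero, idx_dec (by norm_num)]
    rfl
  have h2 : Nat.shiftLeft 0 12 = 0 := by decide
  simp only [Phi, h, ltf_zero, h2, dec_zero, Pi.zero_apply, zero_mul, Finset.sum_const_zero]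

/-! ### the space `C0` -/

/-- the words of the code vanishing at the extra point -/
def C0 : Submodule (ZMod 2) (GolayPt → ZMod 2) where
  carrier := {w | w ∈ golayCode ∧ w none = 0}
  zero_mem' := ⟨golayCode.zero_mem, rfl⟩
  add_mem' := fun {a b} ha hb =>
    ⟨golayCode.add_mem ha.1 hb.1, by rw [Pi.add_apply, ha.2, hb.2, add_zero]⟩
  smul_mem' := fun c {a} ha =>
    ⟨golayCode.smul_mem c ha.1, by rw [Pi.smul_apply, ha.2, smul_zero]⟩

theorem mem_C0 {w : GolayPt → ZMod 2} : w ∈ C0 ↔ w ∈ golayCode ∧ w none = 0 := Iff.rfl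

theorem gIdx_none : gIdx (none : GolayPt) = 23 := by decide

theorem dec_none (n : ℕ) : dec n none = if n.testBit 23 = true then 1 else 0 := by
  simp only [dec, gIdx_none]

theorem bit23_cw {k : ℕ} (hk : k < 4096) : (cw k).testBit 23 = decide (2048 ≤ k) := by
  have h := cw_shift k hk
  have h1 : (cw k >>> 12).testBit 11 = (cw k).testBit (12 + 11) := Nat.testBit_shiftRight _
  rw [h] at h1
  rw [show (23 : ℕ) = 12 + 11 from rfl, ← h1, Nat.testBit_eq_decide_div_mod_eq]
  congr 1
  apply propext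
  omega

theorem dec_cw_mem_C0 {k : ℕ} (hk : k < 2048) : dec (cw k) ∈ C0 := by
  refine ⟨dec_cw_mem k, ?_⟩
  rw [dec_none, bit23_cw (by omega)]
  simp [Nat.not_le.mpr hk]

theorem exists_of_mem_C0 {w : GolayPt → ZMod 2} (hw : w ∈ C0) : ∃ k < 2048, w = dec (cw k) := by
  obtain ⟨k, hk, rfl⟩ := (mem_golayCode_iff w).mp hw.1
  refine ⟨k, ?_, rfl⟩
  have h := hw.2
  rw [dec_none, bit23_cw hk] at h
  by_contra hcon
  rw [if_pos (by simpa using Nat.le_of_not_lt hcon)] at h
  exact one_ne_zero h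

/-- induction over `C0` along the basis -/
theorem C0_induction {p : ↥C0 → Prop} (h0 : p 0)
    (hs : ∀ (d : ↥C0) (i : ℕ) (hi : i < 11), p d →
      p (d + ⟨dec (cw (2 ^ i)), dec_cw_mem_C0 (Nat.pow_lt_pow_right (by norm_num) hi)⟩)) :
    ∀ d : ↥C0, p d := by
  have key : ∀ k < 2048, ∀ h : dec (cw k) ∈ C0, p ⟨dec (cw k), h⟩ := by
    apply xor_induction
    · intro h
      have e : (⟨dec (cw 0), h⟩ : ↥C0) = 0 := Subtype.ext (by
        show dec (cw 0) = (0 : GolayPt → ZMod 2)
        rw [cw_zero, dec_zero])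
      rw [e]
      exact h0
    · intro k hk i hi ih h
      have e : (⟨dec (cw (k ^^^ 2 ^ i)), h⟩ : ↥C0) = ⟨dec (cw k), dec_cw_mem_C0 hk⟩ +
          ⟨dec (cw (2 ^ i)), dec_cw_mem_C0 (Nat.pow_lt_pow_right (by norm_num) hi)⟩ :=
        Subtype.ext (by
          show dec (cw (k ^^^ 2 ^ i)) = dec (cw k) + dec (cw (2 ^ i))
          rw [cw_xor, dec_xor])
      rw [e]
      exact hs _ i hi (ih _)
  intro d
  obtain ⟨k, hk, e⟩ := exists_of_mem_C0 d.2
  have := key k hk (e ▸ d.2)
  convert this using 1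
  exact Subtype.ext e

/-! ### the action of `M₂₃` on `C0` -/

theorem permLin_mem_golay {g : Equiv.Perm GolayPt} (hg : g ∈ M24) {w : GolayPt → ZMod 2}
    (hw : w ∈ golayCode) : permLin g w ∈ golayCode := by
  rw [mem_golayCode_iff_support, support₂_permLin]
  exact smul_mem_supports hg ((mem_golayCode_iff_support w).mp hw)

theorem permLin_apply (g : Equiv.Perm GolayPt) (w : GolayPt → ZMod 2) (p : GolayPt) :
    permLin g w p = w (g.symm p) := rfl

/-- the action of `M₂₃` on `C0` -/
def act (g : ↥Spor.M23) (d : ↥C0) : ↥C0 :=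
  ⟨permLin g.1 d.1, permLin_mem_golay g.2.1 d.2.1, by
    have h : g.1 none = none := g.2.2
    rw [permLin_apply, (Equiv.symm_apply_eq g.1).mpr h.symm]
    exact d.2.2⟩

theorem act_coe (g : ↥Spor.M23) (d : ↥C0) : (act g d : GolayPt → ZMod 2) = permLin g.1 d.1 := rfl

theorem act_one (d : ↥C0) : act 1 d = d := Subtype.ext rfl

theorem act_mul (g h : ↥Spor.M23) (d : ↥C0) : act (g * h) d = act g (act h d) := Subtype.ext rfl

theorem act_add (g : ↥Spor.M23) (d e : ↥C0) : act g (d + e) = act g d + act g e :=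
  Subtype.ext (map_add (permLin g.1) d.1 e.1)

theorem act_zero (g : ↥Spor.M23) : act g 0 = 0 := Subtype.ext (map_zero (permLin g.1))

theorem act_inv_act (g : ↥Spor.M23) (d : ↥C0) : act g⁻¹ (act g d) = d := by
  rw [← act_mul, inv_mul_cancel, act_one]

theorem act_act_inv (g : ↥Spor.M23) (d : ↥C0) : act g (act g⁻¹ d) = d := by
  rw [← act_mul, mul_inv_cancel, act_one]

/-! ### the big group -/

/-- pairs `(π, f)` -/
structure Big where
  /-- the permutation -/
  p : ↥Spor.M23
  /-- the function -/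
  f : ↥C0 → ZMod 2

theorem Big.ext' {a b : Big} (hp : a.p = b.p) (hf : a.f = b.f) : a = b := by
  cases a; cases b; cases hp; cases hf; rfl

theorem z2_add_self (a : ZMod 2) : a + a = 0 := CharTwo.add_self_eq_zero a

noncomputable instance : Group Big where
  mul a b := ⟨a.p * b.p, fun d => b.f d + a.f (act b.p d)⟩
  one := ⟨1, fun _ => 0⟩
  inv a := ⟨a.p⁻¹, fun d => a.f (act a.p⁻¹ d)⟩
  mul_assoc a b c := by
    refine Big.ext' (mul_assoc a.p b.p c.p) ?_
    funext d
    show c.f d + (b.f (act c.p d) + a.f (act b.p (act c.p d))) =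
      (c.f d + b.f (act c.p d)) + a.f (act (b.p * c.p) d)
    rw [act_mul, add_assoc]
  one_mul a := by
    refine Big.ext' (one_mul a.p) ?_
    funext d
    show a.f d + 0 = a.f d
    rw [add_zero]
  mul_one a := by
    refine Big.ext' (mul_one a.p) ?_
    funext d
    show 0 + a.f (act 1 d) = a.f d
    rw [act_one, zero_add]
  inv_mul_cancel a := by
    refine Big.ext' (inv_mul_cancel a.p) ?_
    funext d
    show a.f d + a.f (act a.p⁻¹ (act a.p d)) = 0
    rw [act_inv_act, z2_add_self]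

theorem Big.mul_p (a b : Big) : (a * b).p = a.p * b.p := rfl

theorem Big.mul_f (a b : Big) (d : ↥C0) : (a * b).f d = b.f d + a.f (act b.p d) := rfl

theorem Big.one_p : (1 : Big).p = 1 := rfl

theorem Big.one_f (d : ↥C0) : (1 : Big).f d = 0 := rfl

theorem Big.inv_p (a : Big) : a⁻¹.p = a.p⁻¹ := rfl

theorem Big.inv_f (a : Big) (d : ↥C0) : a⁻¹.f d = a.f (act a.p⁻¹ d) := rfl

instance : Finite Big := by
  have : Finite ↥Spor.M23 := inferInstance
  have hinj : Function.Injective (fun a : Big => (a.p, a.f)) := by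
    intro a b h
    exact Big.ext' (congrArg Prod.fst h) (congrArg Prod.snd h)
  exact Finite.of_injective _ hinj

/-- the defect of the cocycle under a permutation -/
noncomputable def cdef (g : ↥Spor.M23) (d e : ↥C0) : ZMod 2 :=
  Phi (act g d).1 (act g e).1 + Phi d.1 e.1

theorem cdef_add (g : ↥Spor.M23) (d e e' : ↥C0) : cdef g d (e + e') = cdef g d e + cdef g d e' := by
  unfold cdef
  rw [act_add]
  show Phi _ ((act g e).1 + (act g e').1) + Phi _ (e.1 + e'.1) = _
  rw [Phi_add, Phi_add]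
  ring

theorem cdef_zero_right (g : ↥Spor.M23) (d : ↥C0) : cdef g d 0 = 0 := by
  unfold cdef
  rw [act_zero]
  show Phi _ 0 + Phi _ 0 = 0
  rw [Phi_zero_right, Phi_zero_right, add_zero]

theorem cdef_zero_left (g : ↥Spor.M23) (e : ↥C0) : cdef g 0 e = 0 := by
  unfold cdef
  rw [act_zero]
  show Phi 0 _ + Phi 0 _ = 0
  rw [Phi_zero_left, Phi_zero_left, add_zero]

theorem cdef_one (d e : ↥C0) : cdef 1 d e = 0 := by
  unfold cdef
  rw [act_one, act_one, z2_add_self]

theorem cdef_mul (g h : ↥Spor.M23) (d e : ↥C0) :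
    cdef (g * h) d e = cdef g (act h d) (act h e) + cdef h d e := by
  unfold cdef
  rw [act_mul, act_mul]
  have := z2_add_self (Phi (act h d).1 (act h e).1)
  linear_combination -this

/-- the subgroup of the pairs compatible with the cocycle -/
noncomputable def XE : Subgroup Big where
  carrier := {a | ∀ d e : ↥C0, a.f (d + e) = a.f d + a.f e + cdef a.p d e}
  mul_mem' := by
    intro a b ha hb d e
    rw [Big.mul_f, Big.mul_f, Big.mul_f, Big.mul_p, cdef_mul, hb d e, act_add, ha]
    ring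
  one_mem' := by
    intro d e
    rw [Big.one_f, Big.one_f, Big.one_f, Big.one_p, cdef_one]
    ring
  inv_mem' := by
    intro a ha d e
    rw [Big.inv_f, Big.inv_f, Big.inv_f, Big.inv_p, act_add, ha]
    have h : cdef a.p (act a.p⁻¹ d) (act a.p⁻¹ e) = cdef a.p⁻¹ d e := by
      have h1 := cdef_mul a.p a.p⁻¹ d e
      rw [mul_inv_cancel, cdef_one] at h1
      have := z2_add_self (cdef a.p⁻¹ d e)
      linear_combination -h1 - this
    rw [h]

theorem mem_XE {a : Big} : a ∈ XE ↔ ∀ d e : ↥C0, a.f (d + e) = a.f d + a.f e + cdef a.p d e :=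
  Iff.rfl

/-- the projection onto `M₂₃` -/
noncomputable def projX : ↥XE →* ↥Spor.M23 where
  toFun a := a.1.p
  map_one' := rfl
  map_mul' _ _ := rfl

theorem projX_apply (a : ↥XE) : projX a = a.1.p := rfl

end Cfsg.Agent.H94
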