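import Mathlib
import Cfsg.Agent.H94.Ext23b
import Cfsg.Agent.S2063

/-!
# The non-split extension of `M₂₃` by the cocode module: the projection is onto (helper94)

* `cdef_dec`: the defect of the cocycle on code words given by indices, for a packed permutation;
* `mem_XE_of_basis`: membership in `XE` from the conditions against the basis vectors;
* `lift_mem`: a kernel-checked bit table gives an element of `XE` over a packed permutation;
* `projX_surjective`.
-/

set_option autoImplicit false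

namespace Cfsg.Agent.H94

open Cfsg Cfsg.Agent.H9 Cfsg.Agent.H33

theorem cdef_dec {g : ↥Spor.M23} {P : ℕ} (hP : Rep P (g : Equiv.Perm GolayPt)) {j k : ℕ}
    (hj : j < 2048) (hd : dec (cw j) ∈ C0) (he : dec (cw k) ∈ C0) :
    cdef g ⟨dec (cw j), hd⟩ ⟨dec (cw k), he⟩ = ((cN P j k : ℕ) : ZMod 2) := by
  unfold cdef
  have e1 : ((act g ⟨dec (cw j), hd⟩ : ↥C0) : GolayPt → ZMod 2) = dec (imgN P (cw j)) :=
    permLin_dec hP _
  have e2 : ((act g ⟨dec (cw k), he⟩ : ↥C0) : GolayPt → ZMod 2) = dec (imgN P (cw k)) :=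
    permLin_dec hP _
  rw [e1, e2]
  show Phi (dec (imgN P (cw j))) (dec (imgN P (cw k))) + Phi (dec (cw j)) (dec (cw k)) = _
  rw [Phi_dec, Phi_dec, idx_dec (imgN_lt_of_rep hP _), idx_cw hj]
  unfold cN iaN
  rw [cwN_eq, cwN_eq]
  exact (Nat.cast_add _ _).symm

/-- the basis vectors of `C0` -/
noncomputable def bv (i : ℕ) : ↥C0 :=
  if h : i < 11 then ⟨dec (cw (2 ^ i)), dec_cw_mem_C0 (Nat.pow_lt_pow_right (by norm_num) h)⟩ else 0

theorem bv_coe {i : ℕ} (hi : i < 11) : (bv i : GolayPt → ZMod 2) = dec (cw (2 ^ i)) := by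
  unfold bv
  rw [dif_pos hi]

theorem C0_induction' {p : ↥C0 → Prop} (h0 : p 0)
    (hs : ∀ (d : ↥C0) (i : ℕ), i < 11 → p d → p (d + bv i)) : ∀ d : ↥C0, p d := by
  apply C0_induction h0
  intro d i hi hd
  have := hs d i hi hd
  unfold bv at this
  rwa [dif_pos hi] at this

theorem z2_eq_zero_of_eq_add (a b : ZMod 2) (h : b = a + b) : a = 0 := by
  revert a b; decide

theorem mem_XE_of_basis (a : Big)
    (h1 : ∀ (d : ↥C0) (i : ℕ), i < 11 → a.f (d + bv i) = a.f d + a.f (bv i) + cdef a.p d (bv i))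
    (h2 : ∀ (d : ↥C0) (i' : ℕ), i' < 11 → ∀ i : ℕ, i < 11 →
      cdef a.p (d + bv i') (bv i) = cdef a.p d (bv i) + cdef a.p (bv i') (bv i)) : a ∈ XE := by
  have hA : ∀ (e d : ↥C0) (i : ℕ), i < 11 →
      cdef a.p (d + e) (bv i) = cdef a.p d (bv i) + cdef a.p e (bv i) := by
    intro e
    induction e using C0_induction' with
    | h0 =>
      intro d i hi
      rw [add_zero, cdef_zero_left, add_zero]
    | hs e i' hi' ih =>
      intro d i hi
      rw [← add_assoc, h2 _ i' hi' i hi, ih d i hi, h2 e i' hi' i hi, add_assoc]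
  have hf0 : a.f 0 = 0 := by
    have h := h1 0 0 (by norm_num)
    rw [zero_add, cdef_zero_left, add_zero] at h
    exact z2_eq_zero_of_eq_add _ _ h
  have hB : ∀ (e d : ↥C0), a.f (d + e) = a.f d + a.f e + cdef a.p d e := by
    intro e
    induction e using C0_induction' with
    | h0 =>
      intro d
      rw [add_zero, hf0, cdef_zero_right, add_zero, add_zero]
    | hs e i hi ih =>
      intro d
      rw [← add_assoc, h1 _ i hi, ih d, hA e d i hi, h1 e i hi, cdef_add]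
      ring
  intro d e
  exact hB e d

/-- the function given by a bit table -/
noncomputable def liftF (F : ℕ) : ↥C0 → ZMod 2 := fun d => ((F >>> idx d.1 : ℕ) : ZMod 2)

theorem z2_eq_of_sum4 (a b c d : ZMod 2) (h : a + b + c + d = 0) : a = b + c + d := by
  revert a b c d; decide

theorem z2_eq_of_sum3 (a b c : ZMod 2) (h : a + b + c = 0) : a = b + c := by
  revert a b c; decide

theorem pow_lt_2048 {i : ℕ} (hi : i < 11) : 2 ^ i < 2048 :=
  Nat.pow_lt_pow_right (by norm_num) hi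

theorem xor_lt_2048 {j k : ℕ} (hj : j < 2048) (hk : k < 2048) : j ^^^ k < 2048 :=
  Nat.xor_lt_two_pow (n := 11) hj hk

theorem lift_mem {g : ↥Spor.M23} {P F : ℕ} (hP : Rep P (g : Equiv.Perm GolayPt))
    (hL : LiftOK P F) : (⟨g, liftF F⟩ : Big) ∈ XE := by
  apply mem_XE_of_basis
  · intro d i hi
    obtain ⟨j, hj, e⟩ := exists_of_mem_C0 d.2
    have hd : d = ⟨dec (cw j), dec_cw_mem_C0 hj⟩ := Subtype.ext e
    have hb : bv i = ⟨dec (cw (2 ^ i)), dec_cw_mem_C0 (pow_lt_2048 hi)⟩ := Subtype.ext (bv_coe hi)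
    have hs : ((d + bv i : ↥C0) : GolayPt → ZMod 2) = dec (cw (j ^^^ 2 ^ i)) := by
      show d.1 + (bv i).1 = _
      rw [e, bv_coe hi, cw_xor, dec_xor]
    show ((F >>> idx (d + bv i : ↥C0).1 : ℕ) : ZMod 2) =
      ((F >>> idx d.1 : ℕ) : ZMod 2) + ((F >>> idx (bv i).1 : ℕ) : ZMod 2) + cdef g d (bv i)
    rw [hs, e, bv_coe hi, idx_cw (xor_lt_2048 hj (pow_lt_2048 hi)), idx_cw hj,
      idx_cw (pow_lt_2048 hi), hd, hb, cdef_dec hP hj]
    apply z2_eq_of_sum4
    have h := hL.1 j hj i hi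
    have h' : ((F >>> (j ^^^ 2 ^ i) + F >>> j + F >>> (2 ^ i) + cN P j (2 ^ i) : ℕ) : ZMod 2) = 0 := by
      rw [ZMod.natCast_eq_zero_iff]
      exact Nat.dvd_of_mod_eq_zero h
    push_cast at h'
    exact h'
  · intro d i' hi' i hi
    obtain ⟨j, hj, e⟩ := exists_of_mem_C0 d.2
    have hd : d = ⟨dec (cw j), dec_cw_mem_C0 hj⟩ := Subtype.ext e
    have hb : bv i = ⟨dec (cw (2 ^ i)), dec_cw_mem_C0 (pow_lt_2048 hi)⟩ := Subtype.ext (bv_coe hi)
    have hb' : bv i' = ⟨dec (cw (2 ^ i')), dec_cw_mem_C0 (pow_lt_2048 hi')⟩ :=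
      Subtype.ext (bv_coe hi')
    have hs : (d + bv i' : ↥C0) =
        ⟨dec (cw (j ^^^ 2 ^ i')), dec_cw_mem_C0 (xor_lt_2048 hj (pow_lt_2048 hi'))⟩ := by
      apply Subtype.ext
      show d.1 + (bv i').1 = dec (cw (j ^^^ 2 ^ i'))
      rw [e, bv_coe hi', cw_xor, dec_xor]
    rw [hs, hb, cdef_dec hP (xor_lt_2048 hj (pow_lt_2048 hi')), hd, cdef_dec hP hj, hb',
      cdef_dec hP (pow_lt_2048 hi')]
    apply z2_eq_of_sum3
    have h := hL.2 j hj i' hi' i hi
    have h' : ((cN P (j ^^^ 2 ^ i') (2 ^ i) + cN P j (2 ^ i) + cN P (2 ^ i') (2 ^ i) : ℕ) :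
        ZMod 2) = 0 := by
      rw [ZMod.natCast_eq_zero_iff]
      exact Nat.dvd_of_mod_eq_zero h
    push_cast at h'
    exact h'

/-- the lifts of the three generators -/
noncomputable def aT : Big := ⟨⟨tE, Cfsg.Agent.S2063.tE_mem23⟩, liftF x23fT⟩

noncomputable def aY : Big := ⟨⟨yE, Cfsg.Agent.S2063.yE_mem23⟩, liftF x23fY⟩

noncomputable def aD : Big := ⟨⟨cubeTwist, Cfsg.Agent.S2063.dE_mem23⟩, liftF x23fD⟩

theorem aT_mem : aT ∈ XE := lift_mem (g := ⟨tE, Cfsg.Agent.S2063.tE_mem23⟩) rT liftOK_T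

theorem aY_mem : aY ∈ XE := lift_mem (g := ⟨yE, Cfsg.Agent.S2063.yE_mem23⟩) rY liftOK_Y

theorem aD_mem : aD ∈ XE := lift_mem (g := ⟨cubeTwist, Cfsg.Agent.S2063.dE_mem23⟩) rD liftOK_D

theorem projX_surjective : Function.Surjective projX := by
  intro g
  have key : ∀ y ∈ Subgroup.closure Cfsg.Agent.S2063.gen3, ∀ h : y ∈ Spor.M23,
      ∃ a : ↥XE, projX a = ⟨y, h⟩ := by
    intro y hy
    induction hy using Subgroup.closure_induction with
    | mem y hy =>
      intro h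
      simp only [Cfsg.Agent.S2063.gen3, Set.mem_insert_iff, Set.mem_singleton_iff] at hy
      rcases hy with rfl | rfl | rfl
      · exact ⟨⟨aT, aT_mem⟩, rfl⟩
      · exact ⟨⟨aY, aY_mem⟩, rfl⟩
      · exact ⟨⟨aD, aD_mem⟩, rfl⟩
    | one =>
      intro h
      exact ⟨1, Subtype.ext rfl⟩
    | mul a b ha hb iha ihb =>
      intro h
      obtain ⟨x, hx⟩ := iha (Cfsg.Agent.S2063.closure_le_M23 ha)
      obtain ⟨y, hy⟩ := ihb (Cfsg.Agent.S2063.closure_le_M23 hb)
      exact ⟨x * y, by rw [map_mul, hx, hy]; rfl⟩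
    | inv a ha iha =>
      intro h
      obtain ⟨x, hx⟩ := iha (Cfsg.Agent.S2063.closure_le_M23 ha)
      exact ⟨x⁻¹, by rw [map_inv, hx]; rfl⟩
  exact key g.1 (Cfsg.Agent.S2063.M23_le g.2) g.2

end Cfsg.Agent.H94
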