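import Mathlib
import Cfsg.Agent.H94.Ext23c

/-!
# The non-split extension of `M₂₃` by the cocode module: the kernel (helper94)

* `thB w`: the element `(1, ⟨w, ·⟩)` of `XE`; `theta`: the additive map onto the kernel of `projX`;
* `theta_surjective`, `theta_eq_zero_iff`, `theta_conj`.
-/

set_option autoImplicit false

namespace Cfsg.Agent.H94

open Cfsg Cfsg.Agent.H9 Cfsg.Agent.H33

/-- the linear form on `C0` given by a word -/
def dotf (w : GolayPt → ZMod 2) : ↥C0 → ZMod 2 := fun d => ∑ i, w i * d.1 i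

theorem dotf_add_right (w : GolayPt → ZMod 2) (d e : ↥C0) :
    dotf w (d + e) = dotf w d + dotf w e := by
  show ∑ i, w i * (d.1 + e.1) i = _
  simp only [dotf, Pi.add_apply, mul_add, Finset.sum_add_distrib]

theorem dotf_add_left (w w' : GolayPt → ZMod 2) (d : ↥C0) :
    dotf (w + w') d = dotf w d + dotf w' d := by
  simp only [dotf, Pi.add_apply, add_mul, Finset.sum_add_distrib]

/-- the element of the kernel given by a word -/
noncomputable def thB (w : GolayPt → ZMod 2) : Big := ⟨1, dotf w⟩

theorem thB_mem (w : GolayPt → ZMod 2) : thB w ∈ XE := by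
  intro d e
  show dotf w (d + e) = dotf w d + dotf w e + cdef 1 d e
  rw [cdef_one, add_zero, dotf_add_right]

theorem thB_add (w w' : GolayPt → ZMod 2) : thB (w + w') = thB w * thB w' := by
  refine Big.ext' (one_mul (1 : ↥Spor.M23)).symm ?_
  funext d
  show dotf (w + w') d = dotf w' d + dotf w (act 1 d)
  rw [act_one, dotf_add_left, add_comm]

/-- the element of the kernel of the projection given by a word -/
noncomputable def thK (w : GolayPt → ZMod 2) : ↥(projX.ker) :=
  ⟨⟨thB w, thB_mem w⟩, MonoidHom.mem_ker.mpr rfl⟩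

theorem thK_add (w w' : GolayPt → ZMod 2) : thK (w + w') = thK w * thK w' :=
  Subtype.ext (Subtype.ext (thB_add w w'))

theorem thK_coe (w : GolayPt → ZMod 2) : ((thK w : ↥(projX.ker)) : ↥XE).1 = thB w := rfl

/-- the additive map from the words onto the kernel of the projection -/
noncomputable def theta : (GolayPt → ZMod 2) →+ Additive ↥(projX.ker) :=
  AddMonoidHom.mk' (fun w => Additive.ofMul (thK w)) (fun w w' => by
    rw [thK_add]
    rfl)

theorem theta_apply (w : GolayPt → ZMod 2) : theta w = Additive.ofMul (thK w) := rfl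

theorem theta_coe (w : GolayPt → ZMod 2) : (((theta w).toMul : ↥(projX.ker)) : ↥XE).1 = thB w := rfl

theorem theta_surjective : Function.Surjective theta := by
  intro n
  have ha : (n.toMul.1.1 : Big) ∈ XE := n.toMul.1.2
  have hk : (n.toMul.1.1 : Big).p = 1 := MonoidHom.mem_ker.mp n.toMul.2
  have hadd : ∀ d e : ↥C0, (n.toMul.1.1 : Big).f (d + e) =
      (n.toMul.1.1 : Big).f d + (n.toMul.1.1 : Big).f e := by
    intro d e
    have h := ha d e
    rw [hk, cdef_one, add_zero] at h
    exact h
  obtain ⟨g, hg⟩ := LinearMap.exists_extend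
    ((AddMonoidHom.mk' (n.toMul.1.1 : Big).f hadd).toZModLinearMap 2)
  refine ⟨fun p => g (fun j => if p = j then 1 else 0), ?_⟩
  apply Additive.toMul.injective
  apply Subtype.ext
  apply Subtype.ext
  refine Big.ext' hk.symm ?_
  funext d
  have h1 : g d.1 = (n.toMul.1.1 : Big).f d := by
    have := LinearMap.congr_fun hg d
    exact this
  show ∑ i, g (fun j => if i = j then 1 else 0) * d.1 i = (n.toMul.1.1 : Big).f d
  rw [← h1, LinearMap.pi_apply_eq_sum_univ g d.1]
  apply Finset.sum_congr rfl
  intro i _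
  rw [smul_eq_mul, mul_comm]

/-! ### the kernel of `theta` -/

theorem dual_chk : allB (fun m => Nat.beq m 0 || !(allB (fun i =>
    Nat.beq (Nat.mod (pcT (Nat.land m (cwN (Nat.pow 2 i)))) 2) 0) 12)) 4096 = true := by
  decide +kernel

/-- the code contains its dual -/
theorem mem_golay_of_orth {v : GolayPt → ZMod 2}
    (h : ∀ c ∈ golayCode, ∑ i, v i * c i = 0) : v ∈ golayCode := by
  have hn := mask_lt v
  have hv := dec_mask v
  set n := mask v with hn_def
  have hk : n >>> 12 < 4096 := by
    rw [Nat.shiftRight_eq_div_pow]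
    omega
  have hr : n ^^^ cw (n >>> 12) < 4096 := by
    have h1 : (n ^^^ cw (n >>> 12)) >>> 12 = 0 := by
      rw [Nat.shiftRight_xor_distrib, cw_shift _ hk, Nat.xor_self]
    rw [Nat.shiftRight_eq_div_pow] at h1
    have h2 := (Nat.div_eq_zero_iff.mp h1)
    rcases h2 with h2 | h2
    · norm_num at h2
    · exact h2
  have horth : ∀ k : ℕ, ∑ i, dec (n ^^^ cw (n >>> 12)) i * dec (cw k) i = 0 := by
    intro k
    rw [dec_xor]
    simp only [Pi.add_apply, add_mul, Finset.sum_add_distrib]
    rw [hv, h _ (dec_cw_mem k), golay_self_orth _ _ (dec_cw_mem _) (dec_cw_mem k), add_zero]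
  have hc := (allB_iff _ _).mp dual_chk _ hr
  rw [Bool.or_eq_true] at hc
  rcases hc with hc | hc
  · have h0 : n ^^^ cw (n >>> 12) = 0 := Nat.eq_of_beq_eq_true hc
    have e : n = cw (n >>> 12) := Nat.xor_eq_zero_iff.mp h0
    rw [← hv, e]
    exact dec_cw_mem _
  · exfalso
    have hall : allB (fun i => Nat.beq (Nat.mod (pcT (Nat.land (n ^^^ cw (n >>> 12))
        (cwN (Nat.pow 2 i)))) 2) 0) 12 = true := by
      rw [allB_iff]
      intro i _
      have h3 := horth (2 ^ i)
      rw [sum_dec_mul, ZMod.natCast_eq_zero_iff] at h3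
      rw [cwN_eq]
      have h4 : Nat.mod (pcT (Nat.land (n ^^^ cw (n >>> 12)) (cw (Nat.pow 2 i)))) 2 = 0 :=
        Nat.mod_eq_zero_of_dvd h3
      rw [h4]
      rfl
    rw [hall] at hc
    exact Bool.noConfusion hc

theorem xor_2048 : ∀ k < 4096, 2048 ≤ k → k ^^^ 2048 < 2048 := by
  have h : allB (fun k => Nat.blt k 2048 || Nat.blt (Nat.xor k 2048) 2048) 4096 = true := by
    decide +kernel
  intro k hk h2
  have h1 := (allB_iff _ _).mp h k hk
  rw [Bool.or_eq_true] at h1
  rcases h1 with h1 | h1
  · have : k < 2048 := by simpa [Nat.blt_eq] using h1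
    omega
  · simpa [Nat.blt_eq] using h1

theorem z2_cases (a : ZMod 2) : a = 0 ∨ a = 1 := by
  revert a; decide

theorem sum_single_mul (c : GolayPt → ZMod 2) (s : ZMod 2) :
    ∑ i, (s • (Pi.single none 1 : GolayPt → ZMod 2)) i * c i = s * c none := by
  rw [Finset.sum_eq_single none]
  · simp
  · intro b _ hb
    simp [Pi.single_apply, hb]
  · intro h
    exact absurd (Finset.mem_univ _) h

theorem dotf_eq_zero_iff (w : GolayPt → ZMod 2) :
    (∀ d : ↥C0, dotf w d = 0) ↔
      (w ∈ golayCode ∨ w + Pi.single none 1 ∈ golayCode) := by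
  constructor
  · intro hw
    have hb : dec (cw 2048) ∈ golayCode := dec_cw_mem _
    have hb1 : dec (cw 2048) none = 1 := by
      rw [dec_none, bit23_cw (by norm_num)]
      simp
    set s : ZMod 2 := ∑ i, w i * dec (cw 2048) i with hs
    have key : ∀ c ∈ golayCode,
        ∑ i, (w + s • (Pi.single none 1 : GolayPt → ZMod 2)) i * c i = 0 := by
      intro c hc
      have e1 : ∑ i, (w + s • (Pi.single none 1 : GolayPt → ZMod 2)) i * c i =
          ∑ i, w i * c i + s * c none := by
        rw [← sum_single_mul c s, ← Finset.sum_add_distrib]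
        apply Finset.sum_congr rfl
        intro i _
        rw [Pi.add_apply, add_mul]
      rw [e1]
      obtain ⟨k, hk, rfl⟩ := (mem_golayCode_iff c).mp hc
      by_cases h2 : k < 2048
      · have h3 := hw ⟨dec (cw k), dec_cw_mem_C0 h2⟩
        have h4 : dec (cw k) none = 0 := (dec_cw_mem_C0 h2).2
        have h3' : ∑ i, w i * dec (cw k) i = 0 := h3
        rw [h3', h4, mul_zero, add_zero]
      · have h5 := xor_2048 k hk (Nat.le_of_not_lt h2)
        have e2 : cw k = cw (k ^^^ 2048) ^^^ cw 2048 := by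
          rw [← cw_xor, Nat.xor_assoc, Nat.xor_self, Nat.xor_zero]
        have h3 := hw ⟨dec (cw (k ^^^ 2048)), dec_cw_mem_C0 h5⟩
        have h3' : ∑ i, w i * dec (cw (k ^^^ 2048)) i = 0 := h3
        have h4 : dec (cw (k ^^^ 2048)) none = 0 := (dec_cw_mem_C0 h5).2
        rw [e2, dec_xor]
        simp only [Pi.add_apply, mul_add, Finset.sum_add_distrib]
        rw [h3', h4, hb1, ← hs, zero_add, mul_zero, zero_add, mul_one, z2_add_self]
    have hmem := mem_golay_of_orth key
    rcases z2_cases s with h0 | h1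
    · left
      rw [h0, zero_smul, add_zero] at hmem
      exact hmem
    · right
      rw [h1, one_smul] at hmem
      exact hmem
  · rintro (hw | hw) d
    · exact golay_self_orth w d.1 hw d.2.1
    · have h1 := golay_self_orth _ d.1 hw d.2.1
      have h2 := sum_single_mul d.1 1
      rw [one_smul, d.2.2, mul_zero] at h2
      show ∑ i, w i * d.1 i = 0
      have e : ∑ i, w i * d.1 i = ∑ i, (w + Pi.single none 1 : GolayPt → ZMod 2) i * d.1 i +
          ∑ i, (Pi.single none 1 : GolayPt → ZMod 2) i * d.1 i := by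
        rw [← Finset.sum_add_distrib]
        apply Finset.sum_congr rfl
        intro i _
        rw [Pi.add_apply, add_mul, add_assoc, z2_add_self, add_zero]
      rw [e, h1, h2, add_zero]

theorem theta_eq_zero_iff (w : GolayPt → ZMod 2) :
    theta w = 0 ↔ (w ∈ golayCode ∨ w + Pi.single none 1 ∈ golayCode) := by
  rw [← dotf_eq_zero_iff]
  constructor
  · intro h d
    have h1 : thB w = 1 := by
      have h2 : ((theta w).toMul : ↥(projX.ker)) = 1 := by
        rw [h]
        rfl
      rw [← theta_coe, h2]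
      rfl
    have h3 := congrArg (fun a : Big => a.f d) h1
    exact h3
  · intro h
    apply Additive.toMul.injective
    apply Subtype.ext
    apply Subtype.ext
    refine Big.ext' rfl ?_
    funext d
    exact h d

/-- conjugation by an element of `XE` on the kernel is the coordinate permutation -/
theorem theta_conj (a : ↥XE) (w : GolayPt → ZMod 2) :
    (((theta (w ∘ ⇑((projX a : Equiv.Perm GolayPt))⁻¹)).toMul : ↥(projX.ker)) : ↥XE) =
      a * (((theta w).toMul : ↥(projX.ker)) : ↥XE) * a⁻¹ := by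
  apply Subtype.ext
  show thB (w ∘ ⇑((projX a : Equiv.Perm GolayPt))⁻¹) = a.1 * thB w * a.1⁻¹
  refine Big.ext' ?_ ?_
  · show (1 : ↥Spor.M23) = a.1.p * 1 * a.1.p⁻¹
    rw [mul_one, mul_inv_cancel]
  · funext d
    show dotf (w ∘ ⇑((projX a : Equiv.Perm GolayPt))⁻¹) d =
      a.1.f (act a.1.p⁻¹ d) + (dotf w (act a.1.p⁻¹ d) + a.1.f (act 1 (act a.1.p⁻¹ d)))
    rw [act_one, add_comm (dotf w _), ← add_assoc, z2_add_self, zero_add]
    show ∑ i, w ((a.1.p : Equiv.Perm GolayPt)⁻¹ i) * d.1 i =
      ∑ i, w i * d.1 ((a.1.p⁻¹ : ↥Spor.M23).1.symm i)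
    rw [← Equiv.sum_comp (a.1.p : Equiv.Perm GolayPt)]
    apply Finset.sum_congr rfl
    intro i _
    have h1 : ((a.1.p : Equiv.Perm GolayPt))⁻¹ ((a.1.p : Equiv.Perm GolayPt) i) = i :=
      Equiv.symm_apply_apply _ i
    rw [h1]
    rfl

end Cfsg.Agent.H94
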