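import Mathlib
import Cfsg.Agent.H94.Ext23d

/-!
# The non-split extension of `M₂₃` by the cocode module: no complement (helper94)

A quaternion subgroup `⟨x, y⟩` of `M₂₃` (`x² = y²`, `xyx = y`) has no lift to `XE` satisfying the
same two relations: evaluating the relations at two code words and using the cocycle condition
gives `0 = 1`.  Hence the kernel of `projX` has no complement: `no_complement`.
-/

set_option autoImplicit false

namespace Cfsg.Agent.H94

open Cfsg Cfsg.Agent.H9 Cfsg.Agent.H33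

/-- the code word of index `k` as an element of `C0` -/
noncomputable def cwC (k : ℕ) : ↥C0 :=
  if h : k < 2048 then ⟨dec (cw k), dec_cw_mem_C0 h⟩ else 0

theorem cwC_eq {k : ℕ} (hk : k < 2048) : cwC k = ⟨dec (cw k), dec_cw_mem_C0 hk⟩ := by
  unfold cwC
  rw [dif_pos hk]

theorem cwC_coe {k : ℕ} (hk : k < 2048) : (cwC k : GolayPt → ZMod 2) = dec (cw k) := by
  rw [cwC_eq hk]

theorem cwC_add {j k : ℕ} (hj : j < 2048) (hk : k < 2048) : cwC j + cwC k = cwC (j ^^^ k) := by
  apply Subtype.ext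
  show (cwC j).1 + (cwC k).1 = (cwC (j ^^^ k)).1
  rw [cwC_coe hj, cwC_coe hk, cwC_coe (xor_lt_2048 hj hk), cw_xor, dec_xor]

theorem act_cwC {g : ↥Spor.M23} {P : ℕ} (hP : Rep P (g : Equiv.Perm GolayPt)) {j k : ℕ}
    (hj : j < 2048) (hk : k < 2048) (h : imgN P (cwN j) = cwN k) : act g (cwC j) = cwC k := by
  apply Subtype.ext
  rw [act_coe, cwC_coe hj, cwC_coe hk, permLin_dec hP, ← cwN_eq j, h, cwN_eq]

theorem cdef_cwC {g : ↥Spor.M23} {P : ℕ} (hP : Rep P (g : Equiv.Perm GolayPt)) {j k : ℕ}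
    (hj : j < 2048) (hk : k < 2048) : cdef g (cwC j) (cwC k) = ((cN P j k : ℕ) : ZMod 2) := by
  rw [cwC_eq hj, cwC_eq hk]
  exact cdef_dec hP hj _ _

/-! ### the quaternion subgroup -/

theorem okX : ok23 x23X x23XI = true := by decide +kernel

theorem okY : ok23 x23Y x23YI = true := by decide +kernel

/-- the generators of the quaternion subgroup -/
noncomputable def xM : ↥Spor.M23 := mk23 x23X x23XI

noncomputable def yM : ↥Spor.M23 := mk23 x23Y x23YI

theorem repX : Rep x23X (xM : Equiv.Perm GolayPt) := rep_mk23 okX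

theorem repY : Rep x23Y (yM : Equiv.Perm GolayPt) := rep_mk23 okY

theorem xM_sq : xM * xM = yM * yM :=
  eq_of_rep23 (rep_mul23 repX repX) (rep_mul23 repY repY) (by decide +kernel)

theorem xM_yM : xM * yM * xM = yM :=
  eq_of_rep23 (rep_mul23 (rep_mul23 repX repY) repX) repY (by decide +kernel)

theorem img1 : imgN x23X (cwN 16) = cwN 1552 := by decide +kernel

theorem img2 : imgN x23Y (cwN 16) = cwN 225 := by decide +kernel

theorem img3 : imgN x23X (cwN 65) = cwN 176 := by decide +kernel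

theorem img4 : imgN x23Y (cwN 176) = cwN 1601 := by decide +kernel

theorem cert_odd : (cN x23X 16 1552 + cN x23X 1536 65 + cN x23Y 16 225 + cN x23Y 241 176) % 2 = 1 := by
  decide +kernel

theorem z2_two : (2 : ZMod 2) = 0 := by decide

/-- no pair of elements of `XE` over `x`, `y` satisfies the two relations -/
theorem no_lift (A B : Big) (hA : A ∈ XE) (hB : B ∈ XE) (hAp : A.p = xM) (hBp : B.p = yM)
    (h1 : A * A = B * B) (h2 : A * B * A = B) : False := by
  have R2 : A.f (cwC 16) + A.f (cwC 1552) = B.f (cwC 16) + B.f (cwC 225) := by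
    have h := congrArg (fun a : Big => a.f (cwC 16)) h1
    simp only [Big.mul_f] at h
    rw [hAp, hBp, act_cwC repX (by norm_num) (by norm_num) img1,
      act_cwC repY (by norm_num) (by norm_num) img2] at h
    exact h
  have R3 : A.f (cwC 65) + (B.f (cwC 176) + A.f (cwC 1601)) = B.f (cwC 65) := by
    have h := congrArg (fun a : Big => a.f (cwC 65)) h2
    simp only [Big.mul_f, Big.mul_p] at h
    rw [hAp, hBp, act_cwC repX (by norm_num) (by norm_num) img3,
      act_cwC repY (by norm_num) (by norm_num) img4] at h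
    exact h
  have e1 : cwC 16 + cwC 1552 = cwC 1536 := cwC_add (by norm_num) (by norm_num)
  have e2 : cwC 1536 + cwC 65 = cwC 1601 := cwC_add (by norm_num) (by norm_num)
  have e3 : cwC 16 + cwC 225 = cwC 241 := cwC_add (by norm_num) (by norm_num)
  have e4 : cwC 241 + cwC 176 = cwC 65 := cwC_add (by norm_num) (by norm_num)
  have c1 := hA (cwC 16) (cwC 1552)
  have c2 := hA (cwC 1536) (cwC 65)
  have c3 := hB (cwC 16) (cwC 225)
  have c4 := hB (cwC 241) (cwC 176)
  rw [e1, hAp, cdef_cwC repX (by norm_num) (by norm_num)] at c1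
  rw [e2, hAp, cdef_cwC repX (by norm_num) (by norm_num)] at c2
  rw [e3, hBp, cdef_cwC repY (by norm_num) (by norm_num)] at c3
  rw [e4, hBp, cdef_cwC repY (by norm_num) (by norm_num)] at c4
  have hz : ((cN x23X 16 1552 : ℕ) : ZMod 2) + ((cN x23X 1536 65 : ℕ) : ZMod 2) +
      ((cN x23Y 16 225 : ℕ) : ZMod 2) + ((cN x23Y 241 176 : ℕ) : ZMod 2) = 0 := by
    linear_combination -c1 - c2 - c3 - c4 - R2 - R3 +
      (A.f (cwC 1601) - B.f (cwC 16) - B.f (cwC 225)) * z2_two
  have hz' : ((cN x23X 16 1552 + cN x23X 1536 65 + cN x23Y 16 225 + cN x23Y 241 176 : ℕ) :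
      ZMod 2) = 0 := by
    push_cast
    exact hz
  rw [ZMod.natCast_eq_zero_iff] at hz'
  have := cert_odd
  omega

/-- the kernel of the projection has no complement -/
theorem no_complement (H : Subgroup ↥XE) (h1 : H ⊓ projX.ker = ⊥) (h2 : H ⊔ projX.ker = ⊤) :
    False := by
  have hex : ∀ g : ↥Spor.M23, ∃ h ∈ H, projX h = g := by
    intro g
    obtain ⟨e, he⟩ := projX_surjective g
    have hmem : e ∈ H ⊔ projX.ker := by
      rw [h2]
      exact Subgroup.mem_top e
    obtain ⟨y, hy, z, hz, hyz⟩ := Subgroup.mem_sup_of_normal_right.mp hmem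
    refine ⟨y, hy, ?_⟩
    rw [← he, ← hyz, map_mul, MonoidHom.mem_ker.mp hz, mul_one]
  have hinj : ∀ a ∈ H, ∀ b ∈ H, projX a = projX b → a = b := by
    intro a ha b hb hab
    have hm : a⁻¹ * b ∈ H ⊓ projX.ker := by
      refine Subgroup.mem_inf.mpr ⟨H.mul_mem (H.inv_mem ha) hb, MonoidHom.mem_ker.mpr ?_⟩
      rw [map_mul, map_inv, hab, inv_mul_cancel]
    rw [h1, Subgroup.mem_bot] at hm
    exact (inv_mul_eq_one.mp hm)
  obtain ⟨X, hX, hXp⟩ := hex xM
  obtain ⟨Y, hY, hYp⟩ := hex yM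
  have r1 : X * X = Y * Y := by
    apply hinj _ (H.mul_mem hX hX) _ (H.mul_mem hY hY)
    rw [map_mul, map_mul, hXp, hYp, xM_sq]
  have r2 : X * Y * X = Y := by
    apply hinj _ (H.mul_mem (H.mul_mem hX hY) hX) _ hY
    rw [map_mul, map_mul, hXp, hYp, xM_yM]
  exact no_lift X.1 Y.1 X.2 Y.2 hXp hYp (congrArg Subtype.val r1) (congrArg Subtype.val r2)

end Cfsg.Agent.H94
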