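import Mathlib
import Cfsg.Agent.H88.X23Defs
import Cfsg.Agent.H1.Gaschutz

/-!
# S2649 team project (helper88): the extension side `X23-ESIDE` (helper94)

From correct data for a subgroup `P = {elt gen e | e < 128}` of `M₂₃` and three fusion elements,
and the combinatorial core, every extension of `M₂₃` by the code module `C0` splits.
-/

set_option autoImplicit false

namespace Cfsg.Agent.H94.X23

open Cfsg Cfsg.Agent.H9 Cfsg.Agent.H94 Cfsg.Agent.H88.X23

universe u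

/-! ### `elt` -/

/-- partial products of `elt` -/
def eltP {M : Type*} [Monoid M] (x : ℕ → M) (m e : ℕ) : M :=
  ((List.range m).map (fun i => if e.testBit i then x i else 1)).prod

theorem eltP_succ {M : Type*} [Monoid M] (x : ℕ → M) (m e : ℕ) :
    eltP x (m + 1) e = eltP x m e * (if e.testBit m then x m else 1) := by
  unfold eltP
  rw [List.range_succ, List.map_append, List.prod_append]
  simp

theorem elt_eq_eltP {M : Type*} [Monoid M] (x : ℕ → M) (e : ℕ) : elt x e = eltP x 7 e := rfl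

theorem eltP_zero {M : Type*} [Monoid M] (x : ℕ → M) : ∀ m : ℕ, eltP x m 0 = 1
  | 0 => rfl
  | m + 1 => by
    rw [eltP_succ, eltP_zero x m, Nat.zero_testBit]
    simp

theorem elt_zero {M : Type*} [Monoid M] (x : ℕ → M) : elt x 0 = 1 := eltP_zero x 7

theorem eltP_add_le {M : Type*} [Monoid M] (x : ℕ → M) (k a : ℕ) (ha : a < 2 ^ k) :
    ∀ m : ℕ, m ≤ k → eltP x m (a + 2 ^ k) = eltP x m a
  | 0, _ => rfl
  | m + 1, h => by
    have h1 : (a + 2 ^ k).testBit m = a.testBit m := by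
      rw [add_comm]
      exact Nat.testBit_two_pow_add_gt (by omega) a
    rw [eltP_succ, eltP_succ, eltP_add_le x k a ha m (by omega), h1]

theorem eltP_add_gt {M : Type*} [Monoid M] (x : ℕ → M) (k a : ℕ) (ha : a < 2 ^ k) :
    ∀ m : ℕ, k < m → eltP x m (a + 2 ^ k) = eltP x m a * x k
  | 0, h => absurd h (by omega)
  | m + 1, h => by
    rw [eltP_succ, eltP_succ]
    have ha' : a.testBit m = false :=
      Nat.testBit_lt_two_pow (lt_of_lt_of_le ha (Nat.pow_le_pow_right (by norm_num) (by omega)))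
    rcases Nat.lt_or_ge k m with h' | h'
    · rw [eltP_add_gt x k a ha m h']
      have h2 : (a + 2 ^ k).testBit m = false := by
        apply Nat.testBit_lt_two_pow
        calc a + 2 ^ k < 2 ^ k + 2 ^ k := by omega
          _ = 2 ^ (k + 1) := by ring
          _ ≤ 2 ^ m := Nat.pow_le_pow_right (by norm_num) (by omega)
      rw [h2, ha']
      simp
    · have hm : m = k := by omega
      subst hm
      rw [eltP_add_le x m a ha m le_rfl, ha']
      have h2 : (a + 2 ^ m).testBit m = true := by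
        rw [add_comm, Nat.testBit_two_pow_add_eq, ha']
        rfl
      rw [h2]
      simp

theorem elt_add_pow {M : Type*} [Monoid M] (x : ℕ → M) (k a : ℕ) (hk : k < 7) (ha : a < 2 ^ k) :
    elt x (a + 2 ^ k) = elt x a * x k :=
  eltP_add_gt x k a ha 7 hk

theorem elt_pow {M : Type*} [Monoid M] (x : ℕ → M) (k : ℕ) (hk : k < 7) : elt x (2 ^ k) = x k := by
  have h := elt_add_pow x k 0 hk (by positivity)
  rwa [zero_add, elt_zero, one_mul] at h

theorem map_elt {M M' : Type*} [Monoid M] [Monoid M'] (f : M →* M') (x : ℕ → M) (e : ℕ) :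
    f (elt x e) = elt (fun i => f (x i)) e := by
  unfold elt
  rw [map_list_prod, List.map_map]
  congr 1
  apply List.map_congr_left
  intro i _
  simp only [Function.comp]
  split_ifs
  · rfl
  · exact map_one f

/-! ### bits -/

theorem mapply_lt (M : ℕ → ℕ) (c : ℕ) (h : ∀ i < 11, M i < 2048) : mapply M c < 2048 := by
  unfold mapply
  have key : ∀ l : List ℕ, (∀ i ∈ l, i < 11) →
      l.foldr (fun i acc => (if c.testBit i then M i else 0) ^^^ acc) 0 < 2 ^ 11 := by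
    intro l
    induction l with
    | nil => intro _; norm_num
    | cons i l ih =>
      intro hl
      rw [List.foldr_cons]
      apply Nat.xor_lt_two_pow
      · split_ifs
        · exact h i (hl i (List.mem_cons_self ..))
        · norm_num
      · exact ih (fun j hj => hl j (List.mem_cons_of_mem _ hj))
  exact key _ (fun i hi => List.mem_range.1 hi)

theorem xor_rearr {a b f g w : ℕ} (h : a ^^^ b ^^^ f = g ^^^ w) : f ^^^ g = a ^^^ b ^^^ w := by
  apply Nat.eq_of_testBit_eq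
  intro i
  have h' := congrArg (fun n : ℕ => n.testBit i) h
  simp only [Nat.testBit_xor] at h' ⊢
  revert h'
  cases a.testBit i <;> cases b.testBit i <;> cases f.testBit i <;> cases g.testBit i <;>
    cases w.testBit i <;> decide

theorem xor_cancel3 (x u : ℕ) : x ^^^ (x ^^^ u) = u := by
  rw [← Nat.xor_assoc, Nat.xor_self, Nat.zero_xor]

/-! ### the abstract step: a complement of `N` over `P` -/

theorem exists_compl_P {E : Type*} [Group E] [Finite E] {M : Type*} [Group M]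
    (N : Subgroup E) [hN : N.Normal] (π : E →* M) (hker : ∀ x, x ∈ N ↔ π x = 1)
    (hsurj : Function.Surjective π)
    (gen fus : ℕ → M) (MUL : ℕ → ℕ → ℕ) (MC GC : ℕ → ℕ → ℕ) (RL : ℕ → List ℕ) (cj : ℕ → ℕ → ℕ)
    (h1 : ∀ a < 128, ∀ b < 128, MUL a b < 128 ∧ elt gen a * elt gen b = elt gen (MUL a b))
    (h2 : ∀ a < 128, ∀ b < 128, elt gen a = elt gen b → a = b)
    (h7 : ∀ t < 3, ∀ r ∈ RL t,
      r < 128 ∧ cj t r < 128 ∧ fus t * elt gen r = elt gen (cj t r) * fus t)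
    (h8 : ∀ t < 3, ∀ r1 ∈ RL t, ∀ r2 ∈ RL t, MUL r1 r2 ∈ RL t)
    (h9 : ∀ (F : ℕ → ℕ → ℕ) (W : ℕ → ℕ → ℕ), CoreHyp MUL MC GC RL cj F W → CoreConcl MUL MC F)
    (code : E → ℕ)
    (k1 : ∀ x, code x < 2048)
    (k2 : ∀ x ∈ N, ∀ y ∈ N, code (x * y) = code x ^^^ code y)
    (k3 : ∀ x ∈ N, ∀ y ∈ N, code x = code y → x = y)
    (k4 : ∀ c < 2048, ∃ x ∈ N, code x = c)
    (k5 : ∀ a < 128, ∀ g, π g = elt gen a → ∀ x ∈ N,
      code (g * x * g⁻¹) = mapply (MC a) (code x))
    (k6 : ∀ t < 3, ∀ g, π g = fus t → ∀ x ∈ N, code (g * x * g⁻¹) = mapply (GC t) (code x)) :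
    ∃ A : Subgroup E, A ⊓ N = ⊥ ∧ (∀ x ∈ A, ∃ e < 128, π x = elt gen e) ∧
      (∀ e < 128, ∃ x ∈ A, π x = elt gen e) := by
  classical
  choose gh hgh using fun i => hsurj (gen i)
  choose γ hγ using fun t => hsurj (fus t)
  obtain ⟨s, hs⟩ : ∃ s : ℕ → E, ∀ e, s e = elt gh e := ⟨_, fun _ => rfl⟩
  have hπs : ∀ e, π (s e) = elt gen e := by
    intro e
    rw [hs, map_elt]
    congr 1
    funext i
    exact hgh i
  have hs0 : s 0 = 1 := by rw [hs, elt_zero]
  have hg0 : elt gen 0 = 1 := elt_zero gen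
  have hM : ∀ a < 128, ∀ b < 128, MUL a b < 128 := fun a ha b hb => (h1 a ha b hb).1
  have hMe : ∀ a < 128, ∀ b < 128, elt gen a * elt gen b = elt gen (MUL a b) :=
    fun a ha b hb => (h1 a ha b hb).2
  have hM00 : MUL 0 0 = 0 := by
    apply h2 _ (hM 0 (by norm_num) 0 (by norm_num)) 0 (by norm_num)
    rw [← hMe 0 (by norm_num) 0 (by norm_num), hg0, one_mul]
  have hpow : ∀ k < 7, ∀ a < 2 ^ k, 2 ^ k < 128 ∧ a < 128 ∧ a + 2 ^ k < 128 := by
    intro k hk a ha
    have h6 : 2 ^ k ≤ 2 ^ 6 := Nat.pow_le_pow_right (by norm_num) (by omega)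
    norm_num at h6
    omega
  have hMpow : ∀ k < 7, ∀ a < 2 ^ k, MUL a (2 ^ k) = a + 2 ^ k := by
    intro k hk a ha
    obtain ⟨hk2, ha2, hak⟩ := hpow k hk a ha
    apply h2 _ (hM a ha2 _ hk2) _ hak
    rw [← hMe a ha2 _ hk2, elt_add_pow gen k a hk ha, elt_pow gen k hk]
  have hMassoc : ∀ a < 128, ∀ b < 128, ∀ c < 128, MUL (MUL a b) c = MUL a (MUL b c) := by
    intro a ha b hb c hc
    apply h2 _ (hM _ (hM a ha b hb) c hc) _ (hM a ha _ (hM b hb c hc))
    rw [← hMe _ (hM a ha b hb) c hc, ← hMe a ha b hb, ← hMe a ha _ (hM b hb c hc),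
      ← hMe b hb c hc, mul_assoc]
  obtain ⟨nn, hnn⟩ : ∃ nn : ℕ → ℕ → E, ∀ a b, nn a b = s a * s b * (s (MUL a b))⁻¹ :=
    ⟨_, fun _ _ => rfl⟩
  have hnnN : ∀ a < 128, ∀ b < 128, nn a b ∈ N := by
    intro a ha b hb
    rw [hker, hnn, map_mul, map_mul, map_inv, hπs, hπs, hπs, hMe a ha b hb, mul_inv_cancel]
  obtain ⟨F, hF⟩ : ∃ F : ℕ → ℕ → ℕ, ∀ a b, F a b = code (nn a b) := ⟨_, fun _ _ => rfl⟩
  obtain ⟨ww, hww⟩ : ∃ ww : ℕ → ℕ → E,
      ∀ t r, ww t r = γ t * s r * (γ t)⁻¹ * (s (cj t r))⁻¹ := ⟨_, fun _ _ => rfl⟩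
  have hwwN : ∀ t < 3, ∀ r ∈ RL t, ww t r ∈ N := by
    intro t ht r hr
    obtain ⟨hr1, hr2, hr3⟩ := h7 t ht r hr
    rw [hker, hww, map_mul, map_mul, map_mul, map_inv, map_inv, hπs, hπs, hγ, hr3]
    group
  obtain ⟨W, hW⟩ : ∃ W : ℕ → ℕ → ℕ, ∀ t r, W t r = code (ww t r) := ⟨_, fun _ _ => rfl⟩
  have code_one : code 1 = 0 := by
    have h := k2 1 (one_mem N) 1 (one_mem N)
    rw [mul_one, Nat.xor_self] at h
    exact h
  have hcore : CoreHyp MUL MC GC RL cj F W := by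
    refine ⟨fun a b => by rw [hF]; exact k1 _, fun t r => by rw [hW]; exact k1 _, ?_, ?_, ?_, ?_⟩
    · have h : nn 0 0 = 1 := by
        rw [hnn, hM00, hs0]
        group
      rw [hF, h, code_one]
    · intro k hk a ha
      have h : nn a (2 ^ k) = 1 := by
        rw [hnn, hMpow k hk a ha, hs, hs, hs, elt_add_pow gh k a hk ha, elt_pow gh k hk]
        group
      rw [hF, h, code_one]
    · intro a ha b hb c hc
      have e : nn a b * nn (MUL a b) c = (s a * nn b c * (s a)⁻¹) * nn a (MUL b c) := by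
        rw [hnn, hnn, hnn, hnn, hMassoc a ha b hb c hc]
        group
      have e1 := congrArg code e
      rw [k2 _ (hnnN a ha b hb) _ (hnnN _ (hM a ha b hb) c hc),
        k2 _ (hN.conj_mem _ (hnnN b hb c hc) (s a)) _ (hnnN a ha _ (hM b hb c hc)),
        k5 a ha (s a) (hπs a) _ (hnnN b hb c hc)] at e1
      rw [hF, hF, hF, hF]
      exact e1.symm
    · intro t ht r1 hr1 r2 hr2
      obtain ⟨hr1a, hc1, e1⟩ := h7 t ht r1 hr1
      obtain ⟨hr2a, hc2, e2⟩ := h7 t ht r2 hr2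
      have hr12 := h8 t ht r1 hr1 r2 hr2
      obtain ⟨hr12a, hc12, e12⟩ := h7 t ht _ hr12
      have hcj : cj t (MUL r1 r2) = MUL (cj t r1) (cj t r2) := by
        apply h2 _ hc12 _ (hM _ hc1 _ hc2)
        rw [← hMe _ hc1 _ hc2]
        have a1 : elt gen (cj t r1) = fus t * elt gen r1 * (fus t)⁻¹ := by
          rw [e1]
          group
        have a2 : elt gen (cj t r2) = fus t * elt gen r2 * (fus t)⁻¹ := by
          rw [e2]
          group
        have a12 : elt gen (cj t (MUL r1 r2)) = fus t * elt gen (MUL r1 r2) * (fus t)⁻¹ := by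
          rw [e12]
          group
        rw [a1, a2, a12, ← hMe r1 hr1a r2 hr2a]
        group
      have e : ww t r1 * (s (cj t r1) * ww t r2 * (s (cj t r1))⁻¹) * nn (cj t r1) (cj t r2)
          = (γ t * nn r1 r2 * (γ t)⁻¹) * ww t (MUL r1 r2) := by
        rw [hww, hww, hww, hnn, hnn, hcj]
        group
      have e' := congrArg code e
      rw [k2 _ (N.mul_mem (hwwN t ht r1 hr1) (hN.conj_mem _ (hwwN t ht r2 hr2) _)) _
          (hnnN _ hc1 _ hc2),
        k2 _ (hwwN t ht r1 hr1) _ (hN.conj_mem _ (hwwN t ht r2 hr2) _),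
        k5 _ hc1 _ (hπs _) _ (hwwN t ht r2 hr2),
        k2 _ (hN.conj_mem _ (hnnN r1 hr1a r2 hr2a) _) _ (hwwN t ht _ hr12),
        k6 t ht _ (hγ t) _ (hnnN r1 hr1a r2 hr2a)] at e'
      rw [hF, hF, hW, hW, hW]
      exact xor_rearr e'
  obtain ⟨U, hU, hFU⟩ := h9 F W hcore
  choose ν hνN hνc using fun e => k4 (U e) (hU e)
  obtain ⟨σ, hσ⟩ : ∃ σ : ℕ → E, ∀ e, σ e = ν e * s e := ⟨_, fun _ => rfl⟩
  have hπσ : ∀ e, π (σ e) = elt gen e := by
    intro e
    rw [hσ, map_mul, (hker _).1 (hνN e), one_mul, hπs]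
  have hσmul : ∀ a < 128, ∀ b < 128, σ a * σ b = σ (MUL a b) := by
    intro a ha b hb
    have hx1 : ν a * (s a * ν b * (s a)⁻¹) ∈ N := N.mul_mem (hνN a) (hN.conj_mem _ (hνN b) _)
    have e : ν a * (s a * ν b * (s a)⁻¹) * nn a b = ν (MUL a b) := by
      apply k3 _ (N.mul_mem hx1 (hnnN a ha b hb)) _ (hνN _)
      rw [k2 _ hx1 _ (hnnN a ha b hb), k2 _ (hνN a) _ (hN.conj_mem _ (hνN b) _),
        k5 a ha _ (hπs a) _ (hνN b), hνc, hνc, hνc]
      have h := hFU a ha b hb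
      rw [hF] at h
      rw [h]
      exact xor_cancel3 _ _
    rw [hσ, hσ, hσ, ← e, hnn]
    group
  have hσ0 : σ 0 = 1 := by
    have h := hσmul 0 (by norm_num) 0 (by norm_num)
    rw [hM00] at h
    exact mul_eq_left.1 h
  let A : Subgroup E :=
    { carrier := {x | ∃ e < 128, x = σ e}
      mul_mem' := by
        rintro x y ⟨a, ha, rfl⟩ ⟨b, hb, rfl⟩
        exact ⟨MUL a b, hM a ha b hb, hσmul a ha b hb⟩
      one_mem' := ⟨0, by norm_num, hσ0.symm⟩
      inv_mem' := by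
        rintro x ⟨a, ha, rfl⟩
        have hp : ∀ j : ℕ, ∃ e < 128, (σ a) ^ j = σ e := by
          intro j
          induction j with
          | zero => exact ⟨0, by norm_num, by rw [pow_zero, hσ0]⟩
          | succ j ih =>
            obtain ⟨e, he, h⟩ := ih
            exact ⟨MUL e a, hM e he a ha, by rw [pow_succ, h, hσmul e he a ha]⟩
        obtain ⟨e, he, h⟩ := hp (orderOf (σ a) - 1)
        refine ⟨e, he, ?_⟩
        rw [← h]
        apply inv_eq_of_mul_eq_one_right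
        rw [← pow_succ', Nat.sub_add_cancel (orderOf_pos _), pow_orderOf_eq_one] }
  refine ⟨A, ?_, ?_, ?_⟩
  · rw [eq_bot_iff]
    intro x hx
    obtain ⟨⟨e, he, rfl⟩, hxN⟩ := Subgroup.mem_inf.1 hx
    rw [Subgroup.mem_bot]
    have h : elt gen e = elt gen 0 := by rw [← hπσ, (hker _).1 hxN, hg0]
    have he0 := h2 e he 0 (by norm_num) h
    rw [he0, hσ0]
  · rintro x ⟨e, he, rfl⟩
    exact ⟨e, he, hπσ e⟩
  · intro e he
    exact ⟨σ e, ⟨e, he, rfl⟩, hπσ e⟩

/-! ### the extension side -/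

theorem eside : StESide.{u} := by
  intro gen fus MUL MC GC RL cj h1 h2 h3 h4 h5 h6 h7 h8 h9 E _ _ N hN φ ψ hinj hrange hψ
  classical
  let π : E →* ↥Spor.M23 := φ.toMonoidHom.comp (QuotientGroup.mk' N)
  have hπ : ∀ g, π g = φ (QuotientGroup.mk g) := fun g => rfl
  have hker : ∀ x, x ∈ N ↔ π x = 1 := by
    intro x
    rw [hπ, ← QuotientGroup.eq_one_iff (N := N) x]
    constructor
    · intro h
      rw [h, map_one]
    · intro h
      exact φ.injective (by rw [h, map_one])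
  have hsurj : Function.Surjective π := by
    intro m
    obtain ⟨q, rfl⟩ := φ.surjective m
    obtain ⟨g, rfl⟩ := QuotientGroup.mk_surjective q
    exact ⟨g, rfl⟩
  obtain ⟨ψC, hψC, hψC'⟩ : ∃ ψC : E → (GolayPt → ZMod 2),
      (∀ x (h : x ∈ N), ψC x = ψ (Additive.ofMul ⟨x, h⟩)) ∧ (∀ x, x ∉ N → ψC x = 0) :=
    ⟨fun x => if h : x ∈ N then ψ (Additive.ofMul ⟨x, h⟩) else 0, fun x h => dif_pos h,
      fun x h => dif_neg h⟩
  have hC0 : ∀ x, ψC x ∈ C0 := by
    intro x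
    by_cases h : x ∈ N
    · rw [hψC x h]
      exact (hrange _).1 ⟨_, rfl⟩
    · rw [hψC' x h]
      exact C0.zero_mem
  obtain ⟨code, hcode⟩ : ∃ code : E → ℕ, ∀ x, code x = idx (ψC x) := ⟨_, fun _ => rfl⟩
  have hcd : ∀ x, code x < 2048 ∧ ψC x = dec (cw (code x)) := by
    intro x
    obtain ⟨k, hk, e⟩ := exists_of_mem_C0 (hC0 x)
    have h : code x = k := by rw [hcode, e, idx_cw hk]
    rw [h]
    exact ⟨hk, e⟩
  have hcode_eq : ∀ x k, k < 2048 → ψC x = dec (cw k) → code x = k := by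
    intro x k hk e
    rw [hcode, e, idx_cw hk]
  have hadd : ∀ x ∈ N, ∀ y ∈ N, ψC (x * y) = ψC x + ψC y := by
    intro x hx y hy
    rw [hψC _ (N.mul_mem hx hy), hψC x hx, hψC y hy, ← map_add]
    rfl
  have k2 : ∀ x ∈ N, ∀ y ∈ N, code (x * y) = code x ^^^ code y := by
    intro x hx y hy
    apply hcode_eq _ _ (xor_lt_2048 (hcd x).1 (hcd y).1)
    rw [hadd x hx y hy, cw_xor, dec_xor, ← (hcd x).2, ← (hcd y).2]
  have k3 : ∀ x ∈ N, ∀ y ∈ N, code x = code y → x = y := by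
    intro x hx y hy h
    have e : ψC x = ψC y := by rw [(hcd x).2, (hcd y).2, h]
    rw [hψC x hx, hψC y hy] at e
    have e2 := hinj e
    exact congrArg (fun n : Additive ↥N => (Additive.toMul n : ↥N).1) e2
  have k4 : ∀ c < 2048, ∃ x ∈ N, code x = c := by
    intro c hc
    obtain ⟨a, ha⟩ := (hrange (dec (cw c))).2 (dec_cw_mem_C0 hc)
    refine ⟨(Additive.toMul a : ↥N).1, (Additive.toMul a : ↥N).2, ?_⟩
    apply hcode_eq _ _ hc
    rw [hψC _ (Additive.toMul a : ↥N).2]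
    exact ha
  have hconj : ∀ (g : E) (x : E) (_ : x ∈ N), ψC (g * x * g⁻¹) = permLin (π g).1 (ψC x) := by
    intro g x hx
    rw [hψC _ (hN.conj_mem x hx g), hψC x hx]
    exact hψ g ⟨x, hx⟩
  have kconj : ∀ (m : ↥Spor.M23) (g : E), π g = m → ∀ x ∈ N, ∀ j' < 2048,
      act m (cwC (code x)) = cwC j' → code (g * x * g⁻¹) = j' := by
    intro m g hg x hx j' hj' h
    apply hcode_eq _ _ hj'
    rw [hconj g x hx, hg, ← cwC_coe hj', ← h, act_coe, cwC_coe (hcd x).1, ← (hcd x).2]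
  have k5 : ∀ a < 128, ∀ g, π g = elt gen a → ∀ x ∈ N,
      code (g * x * g⁻¹) = mapply (MC a) (code x) := by
    intro a ha g hg x hx
    exact kconj _ g hg x hx _ (mapply_lt _ _ (h3 a ha)) (h5 a ha _ (hcd x).1)
  have k6 : ∀ t < 3, ∀ g, π g = fus t → ∀ x ∈ N,
      code (g * x * g⁻¹) = mapply (GC t) (code x) := by
    intro t ht g hg x hx
    exact kconj _ g hg x hx _ (mapply_lt _ _ (h4 t ht)) (h6 t ht _ (hcd x).1)
  obtain ⟨A, hA1, hA2, hA3⟩ := exists_compl_P N π hker hsurj gen fus MUL MC GC RL cj h1 h2 h7 h8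
    h9 code (fun x => (hcd x).1) k2 k3 k4 k5 k6
  -- `N` is an abelian 2-group
  haveI : IsMulCommutative ↥N := ⟨⟨fun a b => by
    have h : Additive.ofMul (a * b) = Additive.ofMul (b * a) :=
      hinj (by rw [ofMul_mul, ofMul_mul, map_add, map_add, add_comm])
    exact h⟩⟩
  have hN2 : IsPGroup 2 ↥N := by
    intro n
    refine ⟨1, ?_⟩
    have h : Additive.ofMul (n ^ 2 ^ 1) = Additive.ofMul (1 : ↥N) := by
      apply hinj
      rw [pow_one, pow_two, ofMul_mul, map_add, ofMul_one, map_zero]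
      exact CharTwo.add_self_eq_zero _
    exact h
  haveI : Fact (Nat.Prime 2) := ⟨Nat.prime_two⟩
  obtain ⟨k, hk⟩ := IsPGroup.iff_card.1 hN2
  -- the index of `N ⊔ A`
  have hkerπ : π.ker = N := by
    ext x
    rw [MonoidHom.mem_ker, hker]
  have hidx : (N ⊔ A).index = (A.map π).index := by
    rw [sup_comm, ← hkerπ, ← Subgroup.comap_map_eq, Subgroup.index_comap_of_surjective _ hsurj]
  have hmemP : ∀ y : ↥Spor.M23, y ∈ A.map π ↔ ∃ e < 128, y = elt gen e := by
    intro y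
    constructor
    · rintro ⟨x, hx, rfl⟩
      obtain ⟨e, he, h⟩ := hA2 x hx
      exact ⟨e, he, h⟩
    · rintro ⟨e, he, rfl⟩
      obtain ⟨x, hx, h⟩ := hA3 e he
      exact ⟨x, hx, h⟩
  have hcardP : Nat.card ↥(A.map π) = 128 := by
    have hb : Function.Bijective
        (fun e : Fin 128 => (⟨elt gen e.1, (hmemP _).2 ⟨e.1, e.2, rfl⟩⟩ : ↥(A.map π))) := by
      constructor
      · intro a b hab
        exact Fin.ext (h2 a.1 a.2 b.1 b.2 (congrArg Subtype.val hab))
      · rintro ⟨y, hy⟩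
        obtain ⟨e, he, rfl⟩ := (hmemP y).1 hy
        exact ⟨⟨e, he⟩, rfl⟩
    rw [← Nat.card_eq_of_bijective _ hb, Nat.card_eq_fintype_card, Fintype.card_fin]
  have hindex : (A.map π).index = 79695 := by
    have h := Subgroup.index_mul_card (A.map π)
    rw [hcardP, card_sporM23'] at h
    omega
  have hcop : (Nat.card ↥N).Coprime (N ⊔ A).index := by
    rw [hk, hidx, hindex]
    exact Nat.Coprime.pow_left k (by norm_num)
  obtain ⟨H, hH⟩ := Cfsg.Agent.H1.gaschutz_exists N (N ⊔ A) le_sup_left hcop A le_sup_right hA1 rfl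
  refine ⟨H, ?_, ?_⟩
  · rw [inf_comm]
    exact hH.disjoint.eq_bot
  · rw [sup_comm]
    exact hH.sup_eq_top

example : Cfsg.Agent.H88.X23.StESide.{u} := eside

end Cfsg.Agent.H94.X23
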