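import Mathlib
import Cfsg.Agent.H88.X23DExt
import Cfsg.Agent.H89.X23Bits

/-!
# S2651 team project (helper88): the dual code of a word, piece `X23-DCODE` (helper94)
-/

set_option autoImplicit false

namespace Cfsg.Agent.H94.X23D

open Cfsg Cfsg.Agent.H9 Cfsg.Agent.H94 Cfsg.Agent.H88.X23 Cfsg.Agent.H88.X23D Cfsg.Agent.H89.X23

theorem z2_dec_add (x y : ZMod 2) :
    decide (x + y = 1) = xor (decide (x = 1)) (decide (y = 1)) := by
  revert x y
  decide

theorem z2_ne_one {x : ZMod 2} (h : decide (x = 1) = false) : x = 0 := by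
  revert x
  decide

theorem pdot_comm (n a b : ℕ) : pdot n a b = pdot n b a := by
  rw [pdot_eq, pdot_eq]
  apply xb_congr
  intro i _
  exact Bool.and_comm _ _

theorem pdot_two_pow (c r : ℕ) (hr : r < 11) : pdot 11 c (2 ^ r) = c.testBit r := by
  rw [pdot_comm, ← testBit_eq_pdot c r hr]

theorem pdot_xor_right (n a b b' : ℕ) :
    pdot n a (b ^^^ b') = xor (pdot n a b) (pdot n a b') := by
  rw [pdot_comm, pdot_xor_left, pdot_comm n b a, pdot_comm n b' a]

theorem pdot_zero_right (n a : ℕ) : pdot n a 0 = false := by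
  rw [pdot_comm, pdot_zero_left]

theorem cwC_zero' : cwC 0 = 0 := by
  apply Subtype.ext
  rw [cwC_coe (by norm_num)]
  show dec (cw 0) = 0
  rw [cw_zero, dec_zero]

theorem cwC_inj' {j k : ℕ} (hj : j < 2048) (hk : k < 2048) (h : cwC j = cwC k) : j = k := by
  have h1 : (cwC j : GolayPt → ZMod 2) = (cwC k : GolayPt → ZMod 2) := by rw [h]
  rw [cwC_coe hj, cwC_coe hk] at h1
  have h2 := congrArg idx h1
  rwa [idx_cw hj, idx_cw hk] at h2

theorem exists_cwC (d : ↥C0) : ∃ k < 2048, d = cwC k := by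
  obtain ⟨k, hk, e⟩ := exists_of_mem_C0 d.2
  exact ⟨k, hk, Subtype.ext (by rw [cwC_coe hk]; exact e)⟩

theorem dotf_zero (w : GolayPt → ZMod 2) : dotf w (0 : ↥C0) = 0 := by
  show ∑ i, w i * (0 : ↥C0).1 i = 0
  simp

theorem dcode_eq (w : GolayPt → ZMod 2) : dcode w = xn (List.range 11)
    (fun i => if decide (dotf w (cwC (2 ^ i)) = 1) then 2 ^ i else 0) := rfl

theorem dcode_testBit (w : GolayPt → ZMod 2) (i : ℕ) (hi : i < 11) :
    (dcode w).testBit i = decide (dotf w (cwC (2 ^ i)) = 1) := by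
  rw [dcode_eq, xn_ind_testBit (List.range 11) List.nodup_range
    (fun k => decide (dotf w (cwC (2 ^ k)) = 1)) i]
  simp [hi]

theorem dcode_lt (w : GolayPt → ZMod 2) : dcode w < 2048 := by
  rw [dcode_eq]
  exact xn_ind_lt _

theorem testBit_ge {c i : ℕ} (hc : c < 2048) (hi : 11 ≤ i) : c.testBit i = false :=
  Nat.testBit_lt_two_pow (lt_of_lt_of_le hc (by
    calc 2048 = 2 ^ 11 := by norm_num
      _ ≤ 2 ^ i := Nat.pow_le_pow_right (by norm_num) hi))

theorem eq_of_bits {a b : ℕ} (ha : a < 2048) (hb : b < 2048)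
    (h : ∀ r < 11, a.testBit r = b.testBit r) : a = b := by
  apply Nat.eq_of_testBit_eq
  intro i
  by_cases hi : i < 11
  · exact h i hi
  · rw [testBit_ge ha (by omega), testBit_ge hb (by omega)]

/-- the dual code computes all pairings with code words -/
theorem dcode_pair (w : GolayPt → ZMod 2) :
    ∀ j < 2048, pdot 11 (dcode w) j = decide (dotf w (cwC j) = 1) := by
  refine xor_induction (p := fun j => pdot 11 (dcode w) j = decide (dotf w (cwC j) = 1)) ?_ ?_
  · show pdot 11 (dcode w) 0 = decide (dotf w (cwC 0) = 1)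
    rw [pdot_zero_right, cwC_zero', dotf_zero]
    decide
  · intro k hk i hi ih
    show pdot 11 (dcode w) (k ^^^ 2 ^ i) = decide (dotf w (cwC (k ^^^ 2 ^ i)) = 1)
    have ih' : pdot 11 (dcode w) k = decide (dotf w (cwC k) = 1) := ih
    rw [pdot_xor_right, pdot_two_pow _ _ hi, dcode_testBit w i hi, ih',
      ← cwC_add hk (pow_lt_2048 hi), dotf_add_right, z2_dec_add]

theorem dcode_add (v w : GolayPt → ZMod 2) : dcode (v + w) = dcode v ^^^ dcode w := by
  apply eq_of_bits (dcode_lt _) (xor_lt_2048 (dcode_lt v) (dcode_lt w))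
  intro r hr
  rw [Nat.testBit_xor, dcode_testBit _ r hr, dcode_testBit _ r hr, dcode_testBit _ r hr,
    dotf_add_left, z2_dec_add]

theorem dcode_eq_zero_iff (w : GolayPt → ZMod 2) :
    dcode w = 0 ↔ (w ∈ golayCode ∨ w + Pi.single none 1 ∈ golayCode) := by
  rw [← dotf_eq_zero_iff]
  constructor
  · intro h d
    obtain ⟨k, hk, rfl⟩ := exists_cwC d
    have h1 := dcode_pair w k hk
    rw [h, pdot_zero_left] at h1
    exact z2_ne_one h1.symm
  · intro h
    apply eq_zero_of_bits _ (dcode_lt w)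
    intro r hr
    rw [dcode_testBit w r hr, h]
    decide

theorem dcode_onto (c : ℕ) (hc : c < 2048) : ∃ w : GolayPt → ZMod 2, dcode w = c := by
  classical
  obtain ⟨f, hf⟩ : ∃ f : ↥C0 → ZMod 2, ∀ k < 2048, f (cwC k) = if pdot 11 c k then 1 else 0 := by
    refine ⟨fun d => if pdot 11 c (idx d.1) then 1 else 0, ?_⟩
    intro k hk
    show (if pdot 11 c (idx (cwC k).1) then (1 : ZMod 2) else 0) = _
    rw [cwC_coe hk, idx_cw hk]
  have hadd : ∀ d e : ↥C0, f (d + e) = f d + f e := by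
    intro d e
    obtain ⟨j, hj, rfl⟩ := exists_cwC d
    obtain ⟨k, hk, rfl⟩ := exists_cwC e
    rw [cwC_add hj hk, hf _ (xor_lt_2048 hj hk), hf j hj, hf k hk, pdot_xor_right]
    cases pdot 11 c j <;> cases pdot 11 c k <;> decide
  obtain ⟨g, hg⟩ := LinearMap.exists_extend ((AddMonoidHom.mk' f hadd).toZModLinearMap 2)
  refine ⟨fun p => g (fun j => if p = j then 1 else 0), ?_⟩
  have hdot : ∀ d : ↥C0, dotf (fun p => g (fun j => if p = j then 1 else 0)) d = f d := by
    intro d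
    have h1 : g d.1 = f d := by
      have := LinearMap.congr_fun hg d
      exact this
    show ∑ i, g (fun j => if i = j then 1 else 0) * d.1 i = f d
    rw [← h1, LinearMap.pi_apply_eq_sum_univ g d.1]
    apply Finset.sum_congr rfl
    intro i _
    rw [smul_eq_mul, mul_comm]
  apply eq_of_bits (dcode_lt _) hc
  intro r hr
  rw [dcode_testBit _ r hr, hdot, hf _ (pow_lt_2048 hr), pdot_two_pow c r hr]
  cases c.testBit r <;> decide

theorem dotf_act (σ : ↥Spor.M23) (w : GolayPt → ZMod 2) (d : ↥C0) :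
    dotf (w ∘ ⇑((σ : Equiv.Perm GolayPt)⁻¹)) (act σ d) = dotf w d := by
  show ∑ i, w ((σ : Equiv.Perm GolayPt)⁻¹ i) * d.1 ((σ : Equiv.Perm GolayPt)⁻¹ i) =
    ∑ i, w i * d.1 i
  exact Equiv.sum_comp ((σ : Equiv.Perm GolayPt)⁻¹) (fun i => w i * d.1 i)

theorem dcode_conj (σ : ↥Spor.M23) (Mc Md : ℕ → ℕ)
    (hMc : ∀ j < 2048, act σ (cwC j) = cwC (mapply Mc j))
    (hpair : ∀ c < 2048, ∀ j, pdot 11 (mapply Md c) (mapply Mc j) = pdot 11 c j)
    (hMd : ∀ i < 11, Md i < 2048) (w : GolayPt → ZMod 2) :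
    dcode (w ∘ ⇑((σ : Equiv.Perm GolayPt)⁻¹)) = mapply Md (dcode w) := by
  have hlt : ∀ j < 2048, mapply Mc j < 2048 := by
    intro j hj
    by_contra hcon
    have h1 := hMc j hj
    have h2 : cwC (mapply Mc j) = 0 := by
      unfold cwC
      rw [dif_neg hcon]
    rw [h2] at h1
    have h3 : cwC j = 0 := by
      have h5 := congrArg (act σ⁻¹) h1
      rwa [act_inv_act, act_zero] at h5
    have h4 : j = 0 := cwC_inj' hj (by norm_num) (h3.trans cwC_zero'.symm)
    subst h4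
    exact hcon (by rw [mapply_zero]; norm_num)
  have hsurj : ∀ k < 2048, ∃ j < 2048, mapply Mc j = k := by
    intro k hk
    obtain ⟨j, hj, e⟩ := exists_cwC (act σ⁻¹ (cwC k))
    refine ⟨j, hj, ?_⟩
    have h1 := hMc j hj
    rw [← e, act_act_inv] at h1
    exact (cwC_inj' hk (hlt j hj) h1).symm
  have key : ∀ j < 2048, pdot 11 (dcode (w ∘ ⇑((σ : Equiv.Perm GolayPt)⁻¹))) (mapply Mc j) =
      pdot 11 (dcode w) j := by
    intro j hj
    rw [dcode_pair _ _ (hlt j hj), ← hMc j hj, dotf_act, dcode_pair w j hj]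
  apply eq_of_bits (dcode_lt _) (mapply_lt _ _ hMd)
  intro r hr
  obtain ⟨j, hj, e⟩ := hsurj (2 ^ r) (pow_lt_2048 hr)
  rw [← pdot_two_pow _ r hr, ← pdot_two_pow (mapply Md (dcode w)) r hr, ← e, key j hj,
    hpair _ (dcode_lt w) j]

theorem dcode_ok : StDcode :=
  ⟨dcode_lt, dcode_add, dcode_eq_zero_iff, dcode_onto, dcode_conj⟩

example : Cfsg.Agent.H88.X23D.StDcode := dcode_ok

end Cfsg.Agent.H94.X23D
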