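import Mathlib
import Cfsg.Agent.H94.X23DCode

/-!
# S2651 team project (helper88): the code on the normal subgroup coming from `θ` (helper94)

From the data of S2651 (`θ` from the words onto `N`, with kernel `golayCode + ⟨e_none⟩`, compatible
with conjugation) we get a function `code : E → ℕ` identifying `N` with the 11-bit numbers, with
`code (θ w) = dcode w`, on which an element of `E` over `σ ∈ M₂₃` acts by any matrix `Md` dual to
the matrix `Mc` of `σ` on the code module.
-/

set_option autoImplicit false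

namespace Cfsg.Agent.H94.X23D

open Cfsg Cfsg.Agent.H9 Cfsg.Agent.H94 Cfsg.Agent.H88.X23 Cfsg.Agent.H88.X23D Cfsg.Agent.H89.X23

universe u

theorem word_add_self (w : GolayPt → ZMod 2) : w + w = 0 := by
  funext p
  exact CharTwo.add_self_eq_zero (w p)

theorem theta_eq_iff {A : Type*} [AddGroup A] (θ : (GolayPt → ZMod 2) →+ A)
    (hker : ∀ w : GolayPt → ZMod 2,
      θ w = 0 ↔ (w ∈ golayCode ∨ w + Pi.single none 1 ∈ golayCode))
    (v w : GolayPt → ZMod 2) : θ v = θ w ↔ dcode v = dcode w := by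
  have h2 : θ w + θ w = 0 := by rw [← map_add, word_add_self, map_zero]
  have h1 : θ v = θ w ↔ θ (v + w) = 0 := by
    rw [map_add]
    constructor
    · intro h
      rw [h, h2]
    · intro h
      have h3 : θ v + θ w + θ w = θ w := by rw [h, zero_add]
      rw [add_assoc, h2, add_zero] at h3
      exact h3
  rw [h1, hker, ← dcode_eq_zero_iff, dcode_add, Nat.xor_eq_zero_iff]

theorem theta_code {E : Type u} [Group E] [Finite E] (N : Subgroup E) [hN : N.Normal]
    (φ : E ⧸ N ≃* ↥Cfsg.Spor.M23) (θ : (Cfsg.GolayPt → ZMod 2) →+ Additive ↥N)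
    (hsurj : Function.Surjective θ)
    (hker : ∀ w : Cfsg.GolayPt → ZMod 2,
      θ w = 0 ↔ (w ∈ Cfsg.golayCode ∨ w + Pi.single none 1 ∈ Cfsg.golayCode))
    (hθ : ∀ (g : E) (w : Cfsg.GolayPt → ZMod 2),
      ((θ (w ∘ ⇑(((φ (QuotientGroup.mk g) : ↥Cfsg.Spor.M23) : Equiv.Perm Cfsg.GolayPt)⁻¹))).toMul : E)
        = g * ((θ w).toMul : E) * g⁻¹) :
    ∃ code : E → ℕ,
      (∀ x, code x < 2048) ∧
      (∀ w : GolayPt → ZMod 2, code ((θ w).toMul : E) = dcode w) ∧
      (∀ x ∈ N, ∀ y ∈ N, code (x * y) = code x ^^^ code y) ∧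
      (∀ x ∈ N, ∀ y ∈ N, code x = code y → x = y) ∧
      (∀ c < 2048, ∃ x ∈ N, code x = c) ∧
      (∀ (σ : ↥Spor.M23) (Mc Md : ℕ → ℕ),
        (∀ j < 2048, act σ (cwC j) = cwC (mapply Mc j)) →
        (∀ c < 2048, ∀ j, pdot 11 (mapply Md c) (mapply Mc j) = pdot 11 c j) →
        (∀ i < 11, Md i < 2048) →
        ∀ g : E, φ (QuotientGroup.mk g) = σ → ∀ x ∈ N,
          code (g * x * g⁻¹) = mapply Md (code x)) := by
  classical
  -- a word over each element of `N`
  have hex : ∀ x : E, x ∈ N → ∃ w : GolayPt → ZMod 2, ((θ w).toMul : E) = x := by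
    intro x hx
    obtain ⟨w, hw⟩ := hsurj (Additive.ofMul ⟨x, hx⟩)
    exact ⟨w, by rw [hw]; rfl⟩
  have hval : ∀ v w : GolayPt → ZMod 2, ((θ v).toMul : E) = ((θ w).toMul : E) → θ v = θ w := by
    intro v w h
    have h1 : (θ v).toMul = (θ w).toMul := Subtype.ext h
    exact Additive.toMul.injective h1
  let code : E → ℕ := fun x => if h : x ∈ N then dcode (hex x h).choose else 0
  have hcode : ∀ w : GolayPt → ZMod 2, code ((θ w).toMul : E) = dcode w := by
    intro w
    have hx : ((θ w).toMul : E) ∈ N := (θ w).toMul.2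
    show (if h : ((θ w).toMul : E) ∈ N then dcode (hex _ h).choose else 0) = dcode w
    rw [dif_pos hx]
    exact (theta_eq_iff θ hker _ _).1 (hval _ _ (hex _ hx).choose_spec)
  have hmul : ∀ v w : GolayPt → ZMod 2,
      ((θ (v + w)).toMul : E) = ((θ v).toMul : E) * ((θ w).toMul : E) := by
    intro v w
    rw [map_add]
    rfl
  refine ⟨code, ?_, hcode, ?_, ?_, ?_, ?_⟩
  · intro x
    show (if h : x ∈ N then dcode (hex x h).choose else 0) < 2048
    split_ifs
    · exact dcode_lt _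
    · norm_num
  · intro x hx y hy
    obtain ⟨v, rfl⟩ := hex x hx
    obtain ⟨w, rfl⟩ := hex y hy
    rw [← hmul, hcode, hcode, hcode, dcode_add]
  · intro x hx y hy h
    obtain ⟨v, rfl⟩ := hex x hx
    obtain ⟨w, rfl⟩ := hex y hy
    rw [hcode, hcode] at h
    rw [(theta_eq_iff θ hker v w).2 h]
  · intro c hc
    obtain ⟨w, hw⟩ := dcode_onto c hc
    exact ⟨((θ w).toMul : E), (θ w).toMul.2, by rw [hcode, hw]⟩
  · intro σ Mc Md hMc hpair hMd g hg x hx
    obtain ⟨w, rfl⟩ := hex x hx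
    rw [← hθ g w, hcode, hcode, hg]
    exact dcode_conj σ Mc Md hMc hpair hMd w

end Cfsg.Agent.H94.X23D
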