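import Mathlib
import Cfsg.Agent.H88.X23RepDefs
import Cfsg.Agent.H89.X23Bits
import Cfsg.Agent.H94.X23ESide

/-!
# S2649 team project (helper88): the data piece `X23-REP` (helper94)

The generated tables describe a subgroup of order 128 of `M₂₃`, its action on the code module
and three fusion elements.
-/

set_option autoImplicit false

namespace Cfsg.Agent.H94.X23

open Cfsg Cfsg.Agent.H9 Cfsg.Agent.H33 Cfsg.Agent.H94 Cfsg.Agent.H88.X23

/-- packed generators -/
def pgN (i : ℕ) : ℕ := pgL.getD i 0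

def pgiN (i : ℕ) : ℕ := pgiL.getD i 0

/-- packed fusion elements -/
def pfN (t : ℕ) : ℕ := pfL.getD t 0

def pfiN (t : ℕ) : ℕ := pfiL.getD t 0

/-- the generators of `P` -/
noncomputable def genM (i : ℕ) : ↥Spor.M23 := mk23 (pgN i) (pgiN i)

/-- the fusion elements -/
noncomputable def fusM (t : ℕ) : ↥Spor.M23 := mk23 (pfN t) (pfiN t)

theorem ok_gen : allB (fun i => ok23 (pgN i) (pgiN i)) 7 = true := by decide +kernel

theorem ok_fus : allB (fun i => ok23 (pfN i) (pfiN i)) 3 = true := by decide +kernel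

theorem rep_gen {i : ℕ} (hi : i < 7) : Rep (pgN i) ((genM i : ↥Spor.M23) : Equiv.Perm GolayPt) :=
  rep_mk23 ((allB_iff _ _).mp ok_gen i hi)

theorem rep_fus {t : ℕ} (ht : t < 3) : Rep (pfN t) ((fusM t : ↥Spor.M23) : Equiv.Perm GolayPt) :=
  rep_mk23 ((allB_iff _ _).mp ok_fus t ht)

/-- partial products of packed generators (specification) -/
def eltNP : ℕ → ℕ → ℕ
  | 0, _ => idN
  | m + 1, e => mulN (eltNP m e) (if e.testBit m then pgN m else idN)

theorem rep_eltNP (e : ℕ) : ∀ m : ℕ, m ≤ 7 →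
    Rep (eltNP m e) ((eltP genM m e : ↥Spor.M23) : Equiv.Perm GolayPt)
  | 0, _ => rep_one23
  | m + 1, h => by
    rw [eltP_succ]
    show Rep (mulN (eltNP m e) (if e.testBit m then pgN m else idN)) _
    apply rep_mul23 (rep_eltNP e m (by omega))
    split_ifs
    · exact rep_gen (by omega)
    · exact rep_one23

theorem rep_elt (e : ℕ) : Rep (eltNP 7 e) ((elt genM e : ↥Spor.M23) : Equiv.Perm GolayPt) := by
  rw [elt_eq_eltP]
  exact rep_eltNP e 7 le_rfl

/-- the packed elements of `P`: 120 bits per entry -/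
def eTab : ℕ := 0xbc93445a2760daf592b38180a70825bb142b0e2881cc05ba44ab52f2d033b8e4244cc0a962f5c0ee20596551a9b9d94b11a994e205d50570603788caba0942a836ac0d258e6e4b4e060a2fbd9c29bc23955ac59c855190985220ba2024d9b339023595ca9440cad0cfbdab450cc4438275ccaf64530909a0ba6547b9a7616285c013206aab08c3ba982014c884e365d5247064f1d1a7bc8627aa20aa4c85918e834f69d025bb0f403e29929b65ba05a990320833b9114930d6abc255a4ee1c660509b0bbac2641a3900335a9053c4897d0d5bc1021d4333bda95c80a299ccb5224bd6d43c824400ca5b12f9b4b018a2eb94744382c3a4cf5900a836b3b0a32bcce2b1430429a05b92fa9a441d22cba4a2429b50482f5c196244ee9d0c3baa74b3cd24b0205d60374505209a7bbe142b235b11b258ce049a6e50828b82a29c2321b8cc59d09534857d036bbc824d4c79c2235940c905cab51a8b81d4549a8256275cd30604af188d6b8cb47d8cc3c8285c2aa24413709a9b9e6200db0430365d64f745242d0cab95227cc3500da8590f68198e55232bcd540103249cd65b903ab60578a2cbc1f4929b5b22255a660184ee608c4bd40263cd21da335a88938505851aeb91e21da279a0c95c9cc2b40aad030bb81438e28259aa5b0b09992f90835ba6542562c395b0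5a2ca799d300823ba98274a3044cd55d86f034a44d027bc86281cd5026245a2767854e651a5bb0f4aa1b24aa2e5d883005e5808d3b91141cc35b3cc9595409358e38a30bbac239032181aa5cde961a0545235bc1022b9a79bc325a6cc1c6aa050c4bd6d4994c82002c5a8703c64f489aebc934801ac38e245bdca406d3a88c5bb142aa4d041e2e580afb0464951b3b8e4223235014d05bd564366e3d029b9d94742324cdb5581e3b18854082aba09449cd5b40235c9802c54e989afbd9c2521b21d4275b2099c5e5250c0ba20290027991a558eac49aca7522fbdab462428238d359e505346f28a20b8cb420027648d05a1d37b6caa8a29b9e6272428831b55d8a40186f9522ab9522831a0a8c245a14e7c6763d0d2bcd54ac0c991c2e5d9e504483409acbc1f419e36aa1a95958e9194098824bd4023a223958ca5ce05635e92502eb91e2280d33a2325a6aa186cc751b0bb8149a5a445a2c5aa4f38470288d5b9474854c7624245bed3445ca009b2bcce2ac9a88282e58064b44af4d0ccba4a221c20ac9b05be6e4195665223baa7472029930d558085b35e380a27bbe144cdb6a92235c94e28580388c8b82a2510c393a275b1e598609451b6bbc8293a333c0c558eca4b6ac05028b81d461624455b359c6f51a5048836b94747822a9a5a85c1cc21ac7a8832bcce20262f228d65d4b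0734689502cba4a27b0d674a2859155806603d1a3baa74041a32b2365b9f2a8489408c7bbe1491c20710c55a5951b55698a28b82a2620292b9b35aa12399e325236bbc82181ac540295caa72c6d3750c8b81d43a4d07d42a5b2489c464289b6b8cb4455aa9ca2f592cc805c7008c9b9e62b48cf232205b870a84a84d1aab952241e3670ccf5c2752354065032bcd54b222329da05d492719e98082cbc1f42ccc07203258d554c596389a4bd402991a92d82c59df254603450ceb91e24b82c521a3596c791ab305230bb814514307d8c75cc686364448a35bc9347d43350cc85c2c7235cc00a25bb1420482479db65d468718b04d233b8e4279daeb14285926084555650c9b9d94020c51cc365b889ac5f2809aaba09494e2e041a55a556199953882fbd9c2612254d4d35a9e33b61245020ba2021b8ca612295cad3286a7051afbdab4395af83a2a5b06498648488c0ba654400d35142f591c7846cca89a3ba982b25a47cc205b8a8ac470950c7bc8624302eb25af5c14021a753d225bb0f4b40251a8c05d5e97349240a33b911429dae03e3258d9648555988d0bbac29a0c54822c59e03505f2251b5bc1024822a63cc3596b3936c775024bd6d45262f801a75ce44618682882eb8cb483a33549a45bc0741aacb0829b9e62a96247b0ce58128b36501d02ab9522228ceb0e305bd80404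f59d1b2bcd5473da519e3558209b0512208ccbc1f44b02e020c35c8f62b67550a24bd402540254d9a75b103998927d22eb91e2955aa6202558c134c5c7b50d0bb814648cf8583359d24544a8189b5b9474259b3526305a2a77840c708d2bcce270cc47aa355da48005302d1acba4a284e2eb48c45a0e07b59555023baa74a92251b1ae5d90901a1278827bbe141a8ce0102959676944f5609a8b82a23bda54b82a5cc8364512850d6bbc822d82a641b25a5d319807ad228b81d498c2f854cc5a8a43b52890a36ba6548582a994c45beac4340770a23ba982a8c2f24dae58250b19282d227bc86224db6724305bcf544580550c5bb0f4710c32a83558112b4609789b3b91144aa2073da35ca75298f660830bbac253e29280c75b0929b50385035bc102958cc53e2558dc748413ad1a4bd6d460db07823359ca850524908cebc934238ca98c305a00c7c6a7b09a5bb142715af21c355d930046481d0d3b8e4282836715a45a195798e09d229b9d94abc232ccce5da120350920a2aba0941b1a074229594f590676508cfbd9c23c0c92d62a5cd12604837d1a0ba2022d62c510d25a4071b5d3b502fbdab49ca307b9ac5a928398a418820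

def sTab : ℕ := 0x714b3525ea63e00abe40b0c6799493541f5b106eb486c98c87521f6b2076724aa549ec6120eac25500d27616133c1150112ea96533a50a9bc8073ca0aa64a3c90c9908e740b50492c60e073a11602136aca4c38d079a096720b60252a64a0c3910e04135015336260a3bd0003d20a8e47395139c095710aeb246a9c88c511eeb4075748ac50de762216aa25670ca7515f364215a924eb14739a48a53de0b3c60

/-- the packed element of index `e` (table) -/
def eT (e : ℕ) : ℕ := Nat.mod (Nat.shiftRight eTab (Nat.mul 120 e)) (Nat.pow 2 120)

/-- the signature (images of the points 0 and 3) of the element of index `e` -/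
def sT (e : ℕ) : ℕ := Nat.mod (Nat.shiftRight sTab (Nat.mul 10 e)) 1024

/-- the product computed one generator at a time -/
def mulIter (a b : ℕ) : ℕ :=
  (List.range 7).foldl (fun acc i => if b.testBit i then mulT acc (2 ^ i) else acc) a

theorem chk_e : allB (fun e => Nat.beq (eT e) (eltNP 7 e)) 128 = true := by decide +kernel

theorem chk_gen : allB (fun a => allB (fun k =>
    Nat.beq (mulN (eT a) (pgN k)) (eT (mulT a (Nat.pow 2 k)))) 7) 128 = true := by decide +kernel

theorem chk_iter : allB (fun a => allB (fun b =>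
    Nat.beq (mulT a b) (mulIter a b)) 128) 128 = true := by decide +kernel

theorem chk_sig : allB (fun e =>
    Nat.beq (sT e) (Nat.add (lk (eT e) 0) (Nat.mul 32 (lk (eT e) 3)))) 128 = true := by
  decide +kernel

theorem chk_sinj : allB (fun a => allB (fun b =>
    Nat.beq a b || !(Nat.beq (sT a) (sT b))) 128) 128 = true := by decide +kernel

theorem chk_mc : allB (fun a => allB (fun i =>
    Nat.beq (imgN (eT a) (cwN (Nat.pow 2 i))) (cwN (mcT a i))) 11) 128 = true := by
  decide +kernel

theorem chk_gc : allB (fun t => allB (fun i =>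
    Nat.beq (imgN (pfN t) (cwN (Nat.pow 2 i))) (cwN (gcT t i))) 11) 3 = true := by
  decide +kernel

theorem chk_cj : allB (fun t => (RLd t).all (fun r => Nat.blt r 128 &&
    eqN (mulN (pfN t) (eT r)) (mulN (eT (cjT t r)) (pfN t)))) 3 = true := by
  decide +kernel

theorem chk_rl : allB (fun t => (RLd t).all (fun r1 => (RLd t).all (fun r2 =>
    (RLd t).contains (mulT r1 r2)))) 3 = true := by
  decide +kernel

theorem eqN_refl (P : ℕ) : eqN P P = true := by
  unfold eqN
  rw [allB_iff]
  intro i _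
  exact Nat.beq_refl _

theorem rep_eT {e : ℕ} (he : e < 128) :
    Rep (eT e) ((elt genM e : ↥Spor.M23) : Equiv.Perm GolayPt) := by
  rw [Nat.eq_of_beq_eq_true ((allB_iff _ _).mp chk_e e he)]
  exact rep_elt e

theorem cwC_inj {j k : ℕ} (hj : j < 2048) (hk : k < 2048) (h : cwC j = cwC k) : j = k := by
  have h1 : (cwC j : GolayPt → ZMod 2) = (cwC k : GolayPt → ZMod 2) := by rw [h]
  rw [cwC_coe hj, cwC_coe hk] at h1
  have h2 := congrArg idx h1
  rwa [idx_cw hj, idx_cw hk] at h2

theorem cwC_zero : cwC 0 = 0 := by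
  apply Subtype.ext
  rw [cwC_coe (by norm_num)]
  show dec (cw 0) = 0
  rw [cw_zero, dec_zero]

theorem mapply_two_pow (M : ℕ → ℕ) (k : ℕ) (hk : k < 11) : mapply M (2 ^ k) = M k := by
  unfold mapply
  have key : ∀ l : List ℕ, l.Nodup →
      l.foldr (fun i acc => (if (2 ^ k).testBit i then M i else 0) ^^^ acc) 0 =
        if k ∈ l then M k else 0 := by
    intro l
    induction l with
    | nil => intro _; rfl
    | cons i l ih =>
      intro hl
      rw [List.nodup_cons] at hl
      rw [List.foldr_cons, ih hl.2, Nat.testBit_two_pow]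
      by_cases hki : k = i
      · subst hki
        rw [if_neg hl.1]
        simp
      · by_cases hkl : k ∈ l
        · rw [if_pos hkl, if_pos (List.mem_cons_of_mem _ hkl)]
          simp [hki]
        · have h2 : ¬ (k ∈ i :: l) := by
            simp [hki, hkl]
          rw [if_neg hkl, if_neg h2]
          simp [hki]
  rw [key _ List.nodup_range, if_pos (List.mem_range.2 hk)]

/-- extension of the action from the basis by linearity -/
theorem act_of_basis (g : ↥Spor.M23) (M : ℕ → ℕ) (hM : ∀ i < 11, M i < 2048)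
    (h : ∀ i < 11, act g (cwC (2 ^ i)) = cwC (M i)) :
    ∀ j < 2048, act g (cwC j) = cwC (mapply M j) := by
  refine xor_induction (p := fun j => act g (cwC j) = cwC (mapply M j)) ?_ ?_
  · show act g (cwC 0) = cwC (mapply M 0)
    rw [cwC_zero, act_zero, Cfsg.Agent.H89.X23.mapply_zero, cwC_zero]
  · intro k hk i hi ih
    show act g (cwC (k ^^^ 2 ^ i)) = cwC (mapply M (k ^^^ 2 ^ i))
    have h2 : 2 ^ i < 2048 := pow_lt_2048 hi
    have ih' : act g (cwC k) = cwC (mapply M k) := ih
    rw [← cwC_add hk h2, act_add, ih', h i hi, Cfsg.Agent.H89.X23.mapply_xor,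
      mapply_two_pow M i hi, cwC_add (mapply_lt M k hM) (hM i hi)]

theorem mcT_lt (a i : ℕ) : mcT a i < 2048 := Nat.mod_lt _ (by norm_num)

theorem gcT_lt (t i : ℕ) : gcT t i < 2048 := Nat.mod_lt _ (by norm_num)

theorem mulT_lt (a b : ℕ) : mulT a b < 128 := Nat.mod_lt _ (by norm_num)

theorem cjT_lt (t r : ℕ) : cjT t r < 128 := Nat.mod_lt _ (by norm_num)

theorem elt_gen {c k : ℕ} (hc : c < 128) (hk : k < 7) :
    elt genM c * genM k = elt genM (mulT c (2 ^ k)) := by
  have h1 := Nat.eq_of_beq_eq_true ((allB_iff _ _).mp ((allB_iff _ _).mp chk_gen c hc) k hk)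
  refine eq_of_rep23 (rep_mul23 (rep_eT hc) (rep_gen hk)) (rep_eT (mulT_lt _ _)) ?_
  have h2 : eT (mulT c (2 ^ k)) = eT (mulT c (Nat.pow 2 k)) := rfl
  rw [h2, ← h1]
  exact eqN_refl _

theorem elt_mul {a b : ℕ} (ha : a < 128) (hb : b < 128) :
    elt genM a * elt genM b = elt genM (mulT a b) := by
  have key : ∀ l : List ℕ, (∀ i ∈ l, i < 7) → ∀ c < 128,
      elt genM c * (l.map (fun i => if b.testBit i then genM i else 1)).prod =
        elt genM (l.foldl (fun acc i => if b.testBit i then mulT acc (2 ^ i) else acc) c) := by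
    intro l
    induction l with
    | nil =>
      intro _ c _
      rw [List.map_nil, List.prod_nil, mul_one, List.foldl_nil]
    | cons i l ih =>
      intro hl c hc
      have hi : i < 7 := hl i (List.mem_cons_self ..)
      have hl' : ∀ j ∈ l, j < 7 := fun j hj => hl j (List.mem_cons_of_mem _ hj)
      rw [List.map_cons, List.prod_cons, List.foldl_cons, ← mul_assoc]
      by_cases hbit : b.testBit i = true
      · rw [if_pos hbit, if_pos hbit, elt_gen hc hi]
        exact ih hl' _ (mulT_lt _ _)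
      · rw [if_neg hbit, if_neg hbit, mul_one]
        exact ih hl' c hc
  have h1 := key (List.range 7) (fun i hi => List.mem_range.1 hi) a ha
  have h2 := Nat.eq_of_beq_eq_true ((allB_iff _ _).mp ((allB_iff _ _).mp chk_iter a ha) b hb)
  rw [h2]
  exact h1

theorem lk_of_rep {P : ℕ} {g : Equiv.Perm GolayPt} (h : Rep P g) {i : ℕ} (hi : i < 24) :
    lk P i = gIdx (g (gPt i)) := by
  rw [h (gPt i), gIdx_gPt hi]

theorem elt_inj {a b : ℕ} (ha : a < 128) (hb : b < 128) (h : elt genM a = elt genM b) :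
    a = b := by
  have h1 := (allB_iff _ _).mp ((allB_iff _ _).mp chk_sinj a ha) b hb
  rw [Bool.or_eq_true] at h1
  rcases h1 with h1 | h1
  · exact Nat.eq_of_beq_eq_true h1
  · exfalso
    have ra := rep_eT ha
    have rb := rep_eT hb
    rw [h] at ra
    have e0 : lk (eT a) 0 = lk (eT b) 0 := by
      rw [lk_of_rep ra (by norm_num), lk_of_rep rb (by norm_num)]
    have e3 : lk (eT a) 3 = lk (eT b) 3 := by
      rw [lk_of_rep ra (by norm_num), lk_of_rep rb (by norm_num)]
    have sa := Nat.eq_of_beq_eq_true ((allB_iff _ _).mp chk_sig a ha)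
    have sb := Nat.eq_of_beq_eq_true ((allB_iff _ _).mp chk_sig b hb)
    rw [sa, sb, e0, e3, Nat.beq_refl] at h1
    exact absurd h1 (by decide)

theorem act_elt {a : ℕ} (ha : a < 128) :
    ∀ j < 2048, act (elt genM a) (cwC j) = cwC (mapply (mcT a) j) := by
  apply act_of_basis _ _ (fun i _ => mcT_lt a i)
  intro i hi
  have h1 := Nat.eq_of_beq_eq_true ((allB_iff _ _).mp ((allB_iff _ _).mp chk_mc a ha) i hi)
  exact act_cwC (rep_eT ha) (pow_lt_2048 hi) (mcT_lt a i) h1

theorem act_fus {t : ℕ} (ht : t < 3) :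
    ∀ j < 2048, act (fusM t) (cwC j) = cwC (mapply (gcT t) j) := by
  apply act_of_basis _ _ (fun i _ => gcT_lt t i)
  intro i hi
  have h1 := Nat.eq_of_beq_eq_true ((allB_iff _ _).mp ((allB_iff _ _).mp chk_gc t ht) i hi)
  exact act_cwC (rep_fus ht) (pow_lt_2048 hi) (gcT_lt t i) h1

theorem rep : StRep := by
  refine ⟨genM, fusM, ?_, ?_, ?_, ?_, ?_, ?_, ?_, ?_, ?_, ?_⟩
  · intro a ha b hb
    exact ⟨mulT_lt a b, elt_mul ha hb⟩
  · intro a ha b hb h
    exact elt_inj ha hb h
  · intro a _ i _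
    exact mcT_lt a i
  · intro t _ i _
    exact gcT_lt t i
  · intro a ha j hj
    exact act_elt ha j hj
  · intro t ht j hj
    exact act_fus ht j hj
  · intro t ht r hr
    have h1 := List.all_eq_true.mp ((allB_iff _ _).mp chk_cj t ht) r hr
    rw [Bool.and_eq_true] at h1
    have hr1 : r < 128 := by simpa [Nat.blt_eq] using h1.1
    exact ⟨hr1, cjT_lt t r, eq_of_rep23 (rep_mul23 (rep_fus ht) (rep_eT hr1))
      (rep_mul23 (rep_eT (cjT_lt t r)) (rep_fus ht)) h1.2⟩
  · intro t ht r1 hr1 r2 hr2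
    have h1 := List.all_eq_true.mp (List.all_eq_true.mp ((allB_iff _ _).mp chk_rl t ht) r1 hr1)
      r2 hr2
    exact List.contains_iff_mem.mp h1
  · intro a ha b hb c hc
    apply elt_inj (mulT_lt _ _) (mulT_lt _ _)
    rw [← elt_mul (mulT_lt a b) hc, ← elt_mul ha hb, ← elt_mul ha (mulT_lt b c), ← elt_mul hb hc,
      mul_assoc]
  · intro a ha x hx v hv
    have hv1 : mapply (mcT x) v < 2048 := mapply_lt _ _ (fun i _ => mcT_lt x i)
    apply cwC_inj (mapply_lt _ _ (fun i _ => mcT_lt a i)) (mapply_lt _ _ (fun i _ => mcT_lt _ i))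
    rw [← act_elt ha _ hv1, ← act_elt hx v hv, ← act_elt (mulT_lt a x) v hv, ← elt_mul ha hx,
      act_mul]

example : Cfsg.Agent.H88.X23.StRep := rep

end Cfsg.Agent.H94.X23
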