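import Cfsg.Agent.H94.EltCls

/-! Generated data (helper94) for S5615: the 15 trios through the octad `fs octM0` (`l15`), elements of the octad stabiliser mapping the first of them to each (`f15`), and elements fixing the octad and the first trio and mapping the second trio to each other one (`e15`). -/

set_option autoImplicit false

namespace Cfsg.Agent.H94

open Cfsg Cfsg.Agent.H9 Cfsg.Agent.H33
open scoped Pointwise

def l15 : List ℕ := [0, 1, 2, 3, 4, 5, 6, 7, 8, 9, 10, 11, 12, 13, 14]

def f15 : ℕ := 0x75a35b99ed4ad0290e136168101d4485e2ea19b57c961b0ca852664100ec4bcd42d6d3835604063763a4a38c826b9eba951149a4ab02931c2e13918242d328d26f814c3b12b7035ca604478b5065c24f496cc71ef3052a12086a95db1825eb2d90030ab40cdc7628649592f5d21369aec2910e3d6230880aac1b27257179ac7b8a6819684031418d566916cd7a6ea8028814dc4604677c645352c84c1c3692b33dd611280c2bd2e9c6f4aaecc41db00c8c3508805d9f17152884a67301b7152aa230616ad09b54cf2cee192a1463a2720043bdab49ca307b9ac5a928398a418820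

def f15I : ℕ := 0x9da8542ea98de07705ed148c053083b2e132bab77d22069cc80c92450d82446548152fb19c7692eb1d6611014c2ae6943606adae1a31f11ba423808a42d328d26f814c3b12b7035ca604474b4a6446f282ecc981f5551c308887b392835e93896a380a4d22de00a8ec6d8d285cb1a21ec982a93b96a208615b6e54d2167cea288648638c43a8036c6c934eeb79603ab1c80524409c4a34532456cebb560289f03ce8a60c818b5f099a48b512c70eab516e1208e0458a66ba8facd22b923062e4309c0a6ce4872ca981ae7b2a95245e300582bdab49ca307b9ac5a928398a418820

def e15 : ℕ := 0x2a2e9919d07ae279aab41b6c20b004a5aaf5ca114b661732e51190a00c87844cd4d11595ec12b26b23dc351c402a2c98c1aeaca6058df421aec51c412d9f56cd70a4647712e8019235082c426f48b612a99ca589e51cec408187ade96748d02b56c9810f3c523228417a50594666b3a0158e95536e760082abe9783626449c25a9361cca40058784e4b2deaf6a501a0a26059cc19d44341d3bd0af6a120a9e2b15a432058a734d1a96e8826c3a027263d6a110274152f74e0da196388ab724aca09c0cbdab49ca307b9ac5a928398a418820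

def e15I : ℕ := 0xa95285cdb07c4c272a9664ae0390614dab76ca11a2dca991e50190111d83736124bed73168a40e7115567205802d5e86ba724c22458e9611ae75040c4da8f935d0aae6088ca861aea20827a95f4342714b6415b2d7039043a862b52f55c8d044dcc688a93c5e32040a2bd098ce4dbb8c359ed52428150182a22f533a33b36415a92f040a43b04391a2bb5537815e4a05cd122601a98799972a1536855e1401ae55e2321c4c8b66b4a28f35ec7291d00564260c2a4152f91971a4e00692b713ac762861bdab49ca307b9ac5a928398a418820

end Cfsg.Agent.H94
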