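import Mathlib

/-! Data for the Schur multiplier of `M₂₄` (helper94): `m24U`, `m24UI` hold, for `c = 1, …, 22`,
a packed element of `M₂₄` (and its inverse) fixing the points `∞` and `0` and mapping `1` to `c`
(5 bits per point, 120 bits per permutation; entry `0` is the identity). -/

set_option autoImplicit false

namespace Cfsg.Agent.H94

def m24U : ℕ := 0xb9e4f2c16443075544490d26e69ac0bda4f70e056ae6849a8250591392a0bd92c09275195713c0d27a90e68a80b9d3075222548c41b0ab459f568660bd941816a4145f33a18e6d0c91ae40bd8e37b66c09a4b21448aa69053a20baaa79896449626a482c6b90fb0e00bd96da94479320934423429d424de0ba0a294221652d5691e359d4934dc0bd92c219e8a0ab12b83054d7219da0bd843884d44c8859add06d5e83a980ba826491f0b0e5144d8ea94543b560bc9d638cadab2848a4cf40a6b0c140b8a0c5150d8d2531902fad8ee59920bd8878542fa0e2c725659c9a251900ba0cd658b048c4b092717caaea28e0bd9c54d10c3a9647c615148331b4c0bd947332a37050f8ce54209306aca0bd9a341a45852614bd4c5b8f514480b942ab1ccd740919a5687d69213060ba9c4a166c405b090d2fb2cd13d440bdab49ca307b9ac5a928398a418820bdab49ca307b9ac5a928398a418820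

def m24UI : ℕ := 0xb85862d552a106e8ad0fb0a706a4e0bd8296d491a4de571d6c1aa02920c0bda018a18a3907469aa55a5d278a60b98920ba342cc6a43ea7b352c5c040bda26605d36a0e91548a596501be80bd8e58b42498a5060cc8ab94ba25e0b8eab9a9a1218e88d9e5a31d014920bda6413d4d0968ea998782e4344520bb58e14e324856f3949630eaa45200bd9af311888a83429eb0149731b920bd8d05ba682a4e1509e41c58da5640bbce4535908a0490da6b1d0d2716a0bd1ed2d9624560e205479a62c91860b98ee635f5412141cc3128a4a5d920bda4f399b382cac48d41a091571220bc8a34991039293609f60d62a73560bd912219495d4506ba717868c19ca0bda285256463c72154ada4c27819c0bd88e6c44f51aa83a5732ca01a0d80bccc55918e3be024d148946cd08ea0b9c538ac8c455b03592f19654505c0bdab49ca307b9ac5a928398a418820bdab49ca307b9ac5a928398a418820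

end Cfsg.Agent.H94
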