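import Cfsg.Agent.H94.EltData
import Cfsg.Agent.S5600
import Cfsg.Agent.S5614
import Cfsg.Agent.H33.DodMax

/-!
# Explicit elements of `M24`: composition, enumeration of cosets, fixed-object counts (helper94)

* `mulN P Q`: composition of packed permutations, `rep_mulN`.
* `stab5_enum`: the pointwise stabiliser of the base points `0..4` consists of the 48 packed
  permutations `fldG u5 j`; `coset5`: an element of `M24` with prescribed images of the base points
  `0..4` (those of a packed element `C` of `M24`) is one of `mulN C (fldG u5 j)`.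
* `fixN`, `cntO`, `cntT`, `cntS`, `cntD`: numbers of fixed points, octads, trios, sextets and
  dodecads of a packed permutation, with `fix_card`, `fixed_octads`, `fixed_trios`,
  `fixed_sextets`, `fixed_dodecads`, and their invariance under conjugation.
-/

set_option autoImplicit false

namespace Cfsg.Agent.H94

open Cfsg Cfsg.Agent.H9 Cfsg.Agent.H33
open scoped Pointwise

/-! ### composition of packed permutations -/

/-- pack the values `f 0, …, f (n-1)` into 5-bit fields -/
def packF (f : ℕ → ℕ) : ℕ → ℕ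
  | 0 => 0
  | n + 1 => Nat.add (packF f n) (Nat.mul (f n) (Nat.pow 32 n))

theorem lk_eq (P i : ℕ) : lk P i = P / 32 ^ i % 32 := by
  unfold lk
  have h1 : Nat.shiftRight P (Nat.mul 5 i) = P / 2 ^ (5 * i) := Nat.shiftRight_eq_div_pow P (5 * i)
  have h2 : ∀ n : ℕ, Nat.land n 31 = n % 32 := fun n => Nat.and_two_pow_sub_one_eq_mod n 5
  rw [h1, h2, pow_mul]
  norm_num

theorem lk_lt32 (P i : ℕ) : lk P i < 32 := by
  rw [lk_eq]
  exact Nat.mod_lt _ (by norm_num)

theorem packF_succ (f : ℕ → ℕ) (n : ℕ) : packF f (n + 1) = packF f n + f n * 32 ^ n := rfl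

theorem packF_lt (f : ℕ → ℕ) (hf : ∀ i, f i < 32) (n : ℕ) : packF f n < 32 ^ n := by
  induction n with
  | zero => simp [packF]
  | succ n ih =>
    rw [packF_succ, pow_succ]
    have := hf n
    nlinarith [ih, this]

theorem lk_packF (f : ℕ → ℕ) (hf : ∀ i, f i < 32) (n i : ℕ) (hi : i < n) :
    lk (packF f n) i = f i := by
  induction n with
  | zero => omega
  | succ n ih =>
    rw [lk_eq, packF_succ]
    rcases Nat.lt_succ_iff_lt_or_eq.mp hi with h | rfl
    · have h2 : f n * 32 ^ n = (f n * 32 ^ (n - i - 1) * 32) * 32 ^ i := by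
        have h3 : (32 : ℕ) ^ n = 32 ^ (n - i - 1) * 32 * 32 ^ i := by
          rw [← pow_succ, ← pow_add]
          congr 1
          omega
        rw [h3]
        ring
      rw [h2, Nat.add_mul_div_right _ _ (by positivity), Nat.add_mul_mod_self_right, ← lk_eq]
      exact ih h
    · rw [Nat.add_mul_div_right _ _ (by positivity), Nat.div_eq_of_lt (packF_lt f hf i),
        zero_add]
      exact Nat.mod_eq_of_lt (hf i)

/-- composition of packed permutations -/
def mulN (P Q : ℕ) : ℕ := packF (fun i => lk P (lk Q i)) 24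

theorem lk_mulN (P Q : ℕ) {i : ℕ} (hi : i < 24) : lk (mulN P Q) i = lk P (lk Q i) :=
  lk_packF _ (fun _ => lk_lt32 _ _) 24 i hi

theorem rep_mulN {P Q : ℕ} {g h : Equiv.Perm GolayPt} (hP : Rep P g) (hQ : Rep Q h) :
    Rep (mulN P Q) (g * h) := by
  intro p
  rw [lk_mulN _ _ (gIdx_lt p), ← hQ p, ← hP (h p)]
  rfl

theorem rep_apply {P : ℕ} {g : Equiv.Perm GolayPt} (h : Rep P g) {i : ℕ} (hi : i < 24) :
    g (gPt i) = gPt (lk P i) := by
  apply gIdx_injective
  rw [h, gIdx_gPt hi, gIdx_gPt (Cfsg.Agent.S5614.lk_lt_of_rep h hi)]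

/-! ### enumeration of a subgroup of known order -/

/-- two packed permutations differ at some index -/
def differ (P Q : ℕ) : Bool := !(allB (fun i => Nat.beq (lk P i) (lk Q i)) 24)

theorem enum_of_card (H : Subgroup (Equiv.Perm GolayPt)) (n : ℕ) (hn : Nat.card H = n)
    (T : ℕ → ℕ) (hT : ∀ j < n, ∃ g ∈ H, Rep (T j) g)
    (hne : ∀ j < n, ∀ k < n, j ≠ k → differ (T j) (T k) = true) :
    ∀ g ∈ H, ∃ j < n, Rep (T j) g := by
  classical
  let f : Fin n → H := fun j =>
    ⟨Classical.choose (hT j j.2), (Classical.choose_spec (hT j j.2)).1⟩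
  have hf : ∀ j : Fin n, Rep (T j) (f j).1 := fun j => (Classical.choose_spec (hT j j.2)).2
  have hinj : Function.Injective f := by
    intro j k hjk
    by_contra hne'
    have hd := hne j j.2 k k.2 (fun h => hne' (Fin.ext h))
    unfold differ at hd
    have hall : allB (fun i => Nat.beq (lk (T j) i) (lk (T k) i)) 24 = true := by
      rw [allB_iff]
      intro i hi
      have h1 := hf j (gPt i)
      have h2 := hf k (gPt i)
      rw [gIdx_gPt hi] at h1 h2
      rw [← h1, ← h2, hjk]
      exact Nat.beq_refl _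
    rw [hall] at hd
    exact absurd hd (by decide)
  have hbij : Function.Bijective f :=
    hinj.bijective_of_nat_card_le (by rw [hn, Nat.card_fin])
  intro g hg
  obtain ⟨j, hj⟩ := hbij.2 ⟨g, hg⟩
  refine ⟨j, j.2, ?_⟩
  have := hf j
  rw [hj] at this
  exact this

theorem u5_ok : allB (fun j => okElt [4, 3, 2, 1, 0] (fldG u5 j)) 48 = true := by decide +kernel

theorem u5_ne : allB (fun j => allB (fun k => Nat.beq j k ||
    differ (fldG u5 j) (fldG u5 k)) 48) 48 = true := by decide +kernel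

/-- the pointwise stabiliser of the base points `0..4` is the list `u5` -/
theorem stab5_enum : ∀ g ∈ Stab [4, 3, 2, 1, 0], ∃ j < 48, Rep (fldG u5 j) g :=
  enum_of_card _ 48 Cfsg.Agent.S5600.card_stab5 (fun j => fldG u5 j)
    (fun j hj => exists_of_okElt (by decide) ((allB_iff _ _).mp u5_ok j hj))
    (fun j hj k hk hjk => by
      have := (allB_iff _ _).mp ((allB_iff _ _).mp u5_ne j hj) k hk
      rw [Bool.or_eq_true] at this
      rcases this with h | h
      · exact absurd (Nat.eq_of_beq_eq_true h) hjk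
      · exact h)

/-- an element of `M24` with the same images of the base points `0..4` as the packed element `C`
of `M24` is `C` times an element of the list `u5` -/
theorem coset5 {C CI : ℕ} (hCI : chkInv C CI = true) (hCm : chkM24 C = true)
    {g : Equiv.Perm GolayPt} (hg : g ∈ M24) (h : ∀ i < 5, g (gPt i) = gPt (lk C i)) :
    ∃ j < 48, Rep (mulN C (fldG u5 j)) g := by
  have hrep : Rep C (permOf C CI hCI) := rep_permOf C CI hCI
  have hcm : permOf C CI hCI ∈ M24 := permOf_mem_M24 C CI hCI hCm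
  have hmem : (permOf C CI hCI)⁻¹ * g ∈ Stab [4, 3, 2, 1, 0] := by
    refine ⟨mul_mem (inv_mem hcm) hg, fun i hi => ?_⟩
    have hi5 : i < 5 := by
      simp only [List.mem_cons, List.not_mem_nil, or_false] at hi
      omega
    show (permOf C CI hCI)⁻¹ (g (gPt i)) = gPt i
    rw [h i hi5, ← rep_apply hrep (by omega)]
    exact (permOf C CI hCI).symm_apply_apply _
  obtain ⟨j, hj, hr⟩ := stab5_enum _ hmem
  refine ⟨j, hj, ?_⟩
  have := rep_mulN hrep hr
  rwa [mul_inv_cancel_left] at this

/-! ### fixed points and orders -/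

/-- number of fixed indices -/
def fixN (P : ℕ) : ℕ := countB (fun i => Nat.beq (lk P i) i) 24

theorem fix_card {P : ℕ} {g : Equiv.Perm GolayPt} (h : Rep P g) :
    (Finset.univ.filter fun p => g p = p).card = fixN P := by
  unfold fixN
  rw [countB_eq]
  apply Finset.card_bij (fun p _ => gIdx p)
  · intro p hp
    rw [Finset.mem_filter] at hp
    rw [Finset.mem_filter, Finset.mem_range]
    refine ⟨gIdx_lt p, ?_⟩
    rw [← h p, hp.2]
    exact Nat.beq_refl _
  · intro p _ q _ hpq
    exact gIdx_injective hpq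
  · intro i hi
    rw [Finset.mem_filter, Finset.mem_range] at hi
    refine ⟨gPt i, ?_, gIdx_gPt hi.1⟩
    rw [Finset.mem_filter]
    refine ⟨Finset.mem_univ _, ?_⟩
    rw [rep_apply h hi.1, Nat.eq_of_beq_eq_true hi.2]

/-- the packed permutation squares to the identity -/
def isInv (P : ℕ) : Bool := allB (fun i => Nat.beq (lk P (lk P i)) i) 24

/-- the packed permutation cubes to the identity -/
def isOrd3 (P : ℕ) : Bool := allB (fun i => Nat.beq (lk P (lk P (lk P i))) i) 24

theorem isInv_of {P : ℕ} {g : Equiv.Perm GolayPt} (h : Rep P g) (hg : g * g = 1) :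
    isInv P = true := by
  unfold isInv
  rw [allB_iff]
  intro i hi
  have h1 := h (gPt i)
  have h2 := h (g (gPt i))
  rw [gIdx_gPt hi] at h1
  rw [h1] at h2
  have h3 : g (g (gPt i)) = gPt i := by
    have := congrArg (fun f : Equiv.Perm GolayPt => f (gPt i)) hg
    exact this
  rw [h3, gIdx_gPt hi] at h2
  rw [← h2]
  exact Nat.beq_refl _

theorem isOrd3_of {P : ℕ} {g : Equiv.Perm GolayPt} (h : Rep P g) (hg : g * g * g = 1) :
    isOrd3 P = true := by
  unfold isOrd3
  rw [allB_iff]
  intro i hi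
  have h1 := h (gPt i)
  have h2 := h (g (gPt i))
  have h3 := h (g (g (gPt i)))
  rw [gIdx_gPt hi] at h1
  rw [h1] at h2
  rw [h2] at h3
  have h4 : g (g (g (gPt i))) = gPt i := by
    have := congrArg (fun f : Equiv.Perm GolayPt => f (gPt i)) hg
    exact this
  rw [h4, gIdx_gPt hi] at h3
  rw [← h3]
  exact Nat.beq_refl _

theorem fix_card_conj (a g : Equiv.Perm GolayPt) :
    (Finset.univ.filter fun p => (a⁻¹ * g * a) p = p).card
      = (Finset.univ.filter fun p => g p = p).card := by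
  apply Finset.card_bij (fun p _ => a p)
  · intro p hp
    rw [Finset.mem_filter] at hp ⊢
    refine ⟨Finset.mem_univ _, ?_⟩
    have h1 : a⁻¹ (g (a p)) = p := hp.2
    have h2 := congrArg a h1
    simpa using h2
  · intro p _ q _ hpq
    exact a.injective hpq
  · intro q hq
    rw [Finset.mem_filter] at hq
    refine ⟨a⁻¹ q, ?_, by simp⟩
    rw [Finset.mem_filter]
    refine ⟨Finset.mem_univ _, ?_⟩
    show a⁻¹ (g (a (a⁻¹ q))) = a⁻¹ q
    simp [hq.2]

/-! ### fixed objects -/

section

variable {Ω' : Type*} [MulAction (Equiv.Perm GolayPt) Ω']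

theorem ncard_fixed (Z : Set Ω') (obj : ℕ → Ω') (n : ℕ)
    (hsurj : ∀ z ∈ Z, ∃ k < n, obj k = z) (hmem : ∀ k < n, obj k ∈ Z)
    (hinj : ∀ j < n, ∀ k < n, obj j = obj k → j = k)
    (g : Equiv.Perm GolayPt) (t : ℕ → Bool) (ht : ∀ k < n, (g • obj k = obj k ↔ t k = true)) :
    {z | z ∈ Z ∧ g • z = z}.ncard = countB t n := by
  have himg : {z | z ∈ Z ∧ g • z = z}
      = obj '' (((Finset.range n).filter (fun k => t k = true) : Finset ℕ) : Set ℕ) := by
    ext z
    constructor
    · rintro ⟨hz, hgz⟩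
      obtain ⟨k, hk, rfl⟩ := hsurj z hz
      refine ⟨k, ?_, rfl⟩
      rw [Finset.mem_coe, Finset.mem_filter, Finset.mem_range]
      exact ⟨hk, (ht k hk).mp hgz⟩
    · rintro ⟨k, hk, rfl⟩
      rw [Finset.mem_coe, Finset.mem_filter, Finset.mem_range] at hk
      exact ⟨hmem k hk.1, (ht k hk.1).mpr hk.2⟩
  rw [himg, Set.InjOn.ncard_image, Set.ncard_coe_finset, countB_eq]
  intro j hj k hk hjk
  rw [Finset.mem_coe, Finset.mem_filter, Finset.mem_range] at hj hk
  exact hinj j hj.1 k hk.1 hjk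

theorem ncard_fixed_conj (Z : Set Ω') (hZ : ∀ g ∈ M24, ∀ z ∈ Z, g • z ∈ Z)
    (a g : Equiv.Perm GolayPt) (ha : a ∈ M24) :
    {z | z ∈ Z ∧ (a⁻¹ * g * a) • z = z}.ncard = {z | z ∈ Z ∧ g • z = z}.ncard := by
  have h : {z | z ∈ Z ∧ (a⁻¹ * g * a) • z = z}
      = (fun z => a⁻¹ • z) '' {z | z ∈ Z ∧ g • z = z} := by
    ext z
    constructor
    · rintro ⟨hz, hgz⟩
      refine ⟨a • z, ⟨hZ a ha z hz, ?_⟩, inv_smul_smul a z⟩
      rw [mul_smul, mul_smul] at hgz
      have := congrArg (fun w => a • w) hgz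
      simpa using this
    · rintro ⟨w, ⟨hw, hgw⟩, rfl⟩
      refine ⟨hZ _ (inv_mem ha) w hw, ?_⟩
      rw [mul_smul, mul_smul, smul_inv_smul, hgw]
  rw [h, Set.ncard_image_of_injective _ (MulAction.injective a⁻¹)]

end

/-! ### octads -/

theorem octStep_iff {P : ℕ} {g : Equiv.Perm GolayPt} (h : Rep P g) (p k : ℕ) :
    g • octObj p = octObj k ↔ octStep P p k = true := by
  constructor
  · intro hh
    unfold octObj at hh
    rw [smul_fs h] at hh
    have := fs_inj (Cfsg.Agent.S5614.imgN_lt_of_rep h _) (fld_lt _ _) hh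
    unfold octStep
    rw [this]
    exact Nat.beq_refl _
  · exact octStep_sound h

/-- number of octads fixed by a packed permutation -/
def cntO (P : ℕ) : ℕ := countB (fun k => octStep P k k) 759

theorem fixed_octads {P : ℕ} {g : Equiv.Perm GolayPt} (h : Rep P g) :
    {o : Finset GolayPt | o ∈ octads ∧ g • o = o}.ncard = cntO P :=
  ncard_fixed octads octObj 759 oct_enum oct_mem oct_inj g _ (fun k _ => octStep_iff h k k)

/-! ### trios and sextets -/

theorem mem_smul_objOf {P : ℕ} {g : Equiv.Perm GolayPt} (h : Rep P g) (L : List ℕ) {m0 : ℕ}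
    (hm0 : m0 < 2 ^ 24) (hmem : fs m0 ∈ g • objOf L) : ∃ m ∈ L, imgN P m = m0 := by
  rw [smul_objOf h, mem_objOf] at hmem
  obtain ⟨m', hm', e⟩ := hmem
  obtain ⟨m, hm, rfl⟩ := List.mem_map.mp hm'
  exact ⟨m, hm, fs_inj (Cfsg.Agent.S5614.imgN_lt_of_rep h _) hm0 e⟩

theorem trioStep_iff {P : ℕ} {g : Equiv.Perm GolayPt} (h : Rep P g) (hg : g ∈ M24) {p k : ℕ}
    (hp : p < 3795) (hk : k < 3795) : g • trioObj p = trioObj k ↔ trioStep P p k = true := by
  constructor
  · intro hh
    have h1 : fs (fld trioA k) ∈ g • trioObj p := by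
      rw [hh]
      exact mem_trioObj.mpr (Or.inl rfl)
    have h2 : fs (fld trioB k) ∈ g • trioObj p := by
      rw [hh]
      exact mem_trioObj.mpr (Or.inr (Or.inl rfl))
    obtain ⟨m1, hm1, e1⟩ := mem_smul_objOf h (trioL p) (fld_lt _ _) h1
    obtain ⟨m2, hm2, e2⟩ := mem_smul_objOf h (trioL p) (fld_lt _ _) h2
    unfold trioStep
    rw [Bool.and_eq_true]
    exact ⟨List.any_eq_true.mpr ⟨m1, hm1, by rw [e1]; exact Nat.beq_refl _⟩,
      List.any_eq_true.mpr ⟨m2, hm2, by rw [e2]; exact Nat.beq_refl _⟩⟩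
  · exact trioStep_sound hg h hp hk

/-- number of trios fixed by a packed permutation -/
def cntT (P : ℕ) : ℕ := countB (fun k => trioStep P k k) 3795

theorem fixed_trios {P : ℕ} {g : Equiv.Perm GolayPt} (h : Rep P g) (hg : g ∈ M24) :
    {T : Finset (Finset GolayPt) | T ∈ trios ∧ g • T = T}.ncard = cntT P :=
  ncard_fixed trios trioObj 3795 trio_enum trio_mem trio_inj g _
    (fun k hk => trioStep_iff h hg hk hk)

theorem sextStep_iff {P : ℕ} {g : Equiv.Perm GolayPt} (h : Rep P g) (hg : g ∈ M24) {p k : ℕ}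
    (hp : p < 1771) (hk : k < 1771) : g • sextObj p = sextObj k ↔ sextStep P p k = true := by
  constructor
  · intro hh
    have h1 : g • fs (fld sextF (Nat.mul 6 p)) ∈ g • sextObj p :=
      Finset.smul_mem_smul_finset (mem_objOf.mpr ⟨_, sext_head_mem p, rfl⟩)
    rw [hh, smul_fs h] at h1
    obtain ⟨m, hm, e⟩ := mem_objOf.mp h1
    have e' := fs_inj (sextL_lt k m hm) (Cfsg.Agent.S5614.imgN_lt_of_rep h _) e
    unfold sextStep
    exact List.any_eq_true.mpr ⟨m, hm, by rw [e']; exact Nat.beq_refl _⟩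
  · exact sextStep_sound hg h hp hk

/-- number of sextets fixed by a packed permutation -/
def cntS (P : ℕ) : ℕ := countB (fun k => sextStep P k k) 1771

theorem fixed_sextets {P : ℕ} {g : Equiv.Perm GolayPt} (h : Rep P g) (hg : g ∈ M24) :
    {S : Finset (Finset GolayPt) | S ∈ sextets ∧ g • S = S}.ncard = cntS P :=
  ncard_fixed sextets sextObj 1771 sext_enum sext_mem sext_inj g _
    (fun k hk => sextStep_iff h hg hk hk)

/-! ### dodecads -/

/-- the `k`-th dodecad -/
def dodObj (k : ℕ) : Finset GolayPt := fs (fld dodC k)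

def chkDod : Bool :=
  allB (fun k => isGolay (fld dodC k) && (Nat.beq (pcT (fld dodC k)) 12 &&
    (Nat.beq k 0 || Nat.blt (fld dodC (Nat.sub k 1)) (fld dodC k)))) 2576

theorem chkDod_ok : chkDod = true := by decide +kernel

theorem dod_spec (k : ℕ) (hk : k < 2576) : isGolay (fld dodC k) = true ∧ pcT (fld dodC k) = 12 ∧
    (k = 0 ∨ fld dodC (k - 1) < fld dodC k) := by
  have h := (allB_iff _ _).mp chkDod_ok k hk
  simp only [Bool.and_eq_true, Bool.or_eq_true] at h
  obtain ⟨h1, h2, h3⟩ := h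
  refine ⟨h1, Nat.eq_of_beq_eq_true h2, ?_⟩
  rcases h3 with h3 | h3
  · exact Or.inl (Nat.eq_of_beq_eq_true h3)
  · right
    simpa [Nat.blt_eq] using h3

theorem dod_mem (k : ℕ) (hk : k < 2576) : dodObj k ∈ dodecads := by
  obtain ⟨h1, h2, -⟩ := dod_spec k hk
  obtain ⟨j, hj, e⟩ := isGolay_iff.mp h1
  unfold dodObj
  rw [e]
  apply fs_cw_mem_dodecads hj
  unfold isDod
  rw [← e, h2]
  rfl

theorem dod_inj : ∀ j < 2576, ∀ k < 2576, dodObj j = dodObj k → j = k := by
  intro j hj k hk h
  have h1 : fld dodC j = fld dodC k := fs_inj (fld_lt _ _) (fld_lt _ _) h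
  exact inj_of_strict (fun k => fld dodC k) 2576
    (strict_of_adj _ 2576 (fun k hk => (dod_spec k hk).2.2)) j hj k hk h1

theorem dod_enum : ∀ d ∈ dodecads, ∃ k < 2576, dodObj k = d :=
  enum_surj dodecads (Set.toFinite _) 2576 dodObj dod_mem dod_inj hDN

/-- the packed permutation `P` maps the dodecad `p` to the dodecad `k` -/
def dodStep (P p k : ℕ) : Bool := Nat.beq (imgN P (fld dodC p)) (fld dodC k)

theorem dodStep_iff {P : ℕ} {g : Equiv.Perm GolayPt} (h : Rep P g) (p k : ℕ) :
    g • dodObj p = dodObj k ↔ dodStep P p k = true := by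
  unfold dodObj dodStep
  rw [smul_fs h]
  constructor
  · intro hh
    rw [fs_inj (Cfsg.Agent.S5614.imgN_lt_of_rep h _) (fld_lt _ _) hh]
    exact Nat.beq_refl _
  · intro hh
    rw [Nat.eq_of_beq_eq_true hh]

/-- number of dodecads fixed by a packed permutation -/
def cntD (P : ℕ) : ℕ := countB (fun k => dodStep P k k) 2576

theorem fixed_dodecads {P : ℕ} {g : Equiv.Perm GolayPt} (h : Rep P g) :
    {d : Finset GolayPt | d ∈ dodecads ∧ g • d = d}.ncard = cntD P :=
  ncard_fixed dodecads dodObj 2576 dod_enum dod_mem dod_inj g _ (fun k _ => dodStep_iff h k k)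

end Cfsg.Agent.H94
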