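import Cfsg.Agent.H94.Elt

/-!
# Involutions and elements of order 3 of `M24` (helper94)

* `invol_facts`: an involution of `M24` has 8 fixed points and fixes 71 octads, 99 trios and
  91 sextets, or it has no fixed point and fixes 15 octads, 75 trios and 51 sextets.
* `ord3_facts`: an element of order 3 of `M24` has 6 fixed points and fixes 21 octads, 15 trios,
  16 sextets and 20 dodecads, or it has no fixed point and fixes 7 sextets and 15 trios.
* `invol_normal`, `ord3_normal`, `fix5_normal`: the conjugates to packed elements behind them.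
-/

set_option autoImplicit false

namespace Cfsg.Agent.H94

open Cfsg Cfsg.Agent.H9 Cfsg.Agent.H33 Cfsg.Agent.S5600
open scoped Pointwise

/-! ### kernel checks -/

/-- the fixed-object numbers of an involution -/
def invOK (P : ℕ) : Bool :=
  (Nat.beq (fixN P) 8 && (Nat.beq (cntO P) 71 && (Nat.beq (cntT P) 99 && Nat.beq (cntS P) 91))) ||
  (Nat.beq (fixN P) 0 && (Nat.beq (cntO P) 15 && (Nat.beq (cntT P) 75 && Nat.beq (cntS P) 51)))

/-- the fixed-object numbers of an element of order 3 -/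
def ord3OK (P : ℕ) : Bool :=
  (Nat.beq (fixN P) 6 && (Nat.beq (cntO P) 21 && (Nat.beq (cntT P) 15 &&
    (Nat.beq (cntS P) 16 && Nat.beq (cntD P) 20)))) ||
  (Nat.beq (fixN P) 0 && (Nat.beq (cntS P) 7 && Nat.beq (cntT P) 15))

theorem chk2A : allB (fun j => !(isInv (mulN c2A (fldG u5 j))) ||
    invOK (mulN c2A (fldG u5 j))) 48 = true := by decide +kernel

theorem chk2B : allB (fun j => !(isInv (mulN c2B (fldG u5 j))) ||
    invOK (mulN c2B (fldG u5 j))) 48 = true := by decide +kernel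

theorem chk3A : allB (fun j => !(isOrd3 (mulN c3A (fldG u5 j))) ||
    ord3OK (mulN c3A (fldG u5 j))) 48 = true := by decide +kernel

theorem chk3B : allB (fun j => !(isOrd3 (mulN c3B (fldG u5 j))) ||
    ord3OK (mulN c3B (fldG u5 j))) 48 = true := by decide +kernel

theorem chkU : allB (fun j =>
    (!(isInv (fldG u5 j)) || (Nat.beq (fixN (fldG u5 j)) 24 || Nat.beq (fixN (fldG u5 j)) 8)) &&
    (!(isOrd3 (fldG u5 j)) || (Nat.beq (fixN (fldG u5 j)) 24 || Nat.beq (fixN (fldG u5 j)) 6)))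
    48 = true := by decide +kernel

theorem c2A_ok : chkInv c2A c2AI = true ∧ chkM24 c2A = true := by decide +kernel

theorem c2B_ok : chkInv c2B c2BI = true ∧ chkM24 c2B = true := by decide +kernel

theorem c3A_ok : chkInv c3A c3AI = true ∧ chkM24 c3A = true := by decide +kernel

theorem c3B_ok : chkInv c3B c3BI = true ∧ chkM24 c3B = true := by decide +kernel

theorem c2A_img : lk c2A 0 = 1 ∧ lk c2A 1 = 0 ∧ lk c2A 2 = 3 ∧ lk c2A 3 = 2 ∧ lk c2A 4 = 7 := by
  decide +kernel

theorem c2B_img : lk c2B 0 = 1 ∧ lk c2B 1 = 0 ∧ lk c2B 2 = 3 ∧ lk c2B 3 = 2 ∧ lk c2B 4 = 5 := by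
  decide +kernel

theorem c3A_img : lk c3A 0 = 1 ∧ lk c3A 1 = 2 ∧ lk c3A 2 = 0 ∧ lk c3A 3 = 4 ∧ lk c3A 4 = 7 := by
  decide +kernel

theorem c3B_img : lk c3B 0 = 1 ∧ lk c3B 1 = 2 ∧ lk c3B 2 = 0 ∧ lk c3B 3 = 4 ∧ lk c3B 4 = 5 := by
  decide +kernel

/-! ### generalities -/

theorem inj6 {a b c d e f : GolayPt} (hab : a ≠ b) (hac : a ≠ c) (had : a ≠ d) (hae : a ≠ e)
    (haf : a ≠ f) (hbc : b ≠ c) (hbd : b ≠ d) (hbe : b ≠ e) (hbf : b ≠ f) (hcd : c ≠ d)
    (hce : c ≠ e) (hcf : c ≠ f) (hde : d ≠ e) (hdf : d ≠ f) (hef : e ≠ f) :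
    Function.Injective ![a, b, c, d, e, f] := by
  intro i j h
  fin_cases i <;> fin_cases j <;> simp_all

theorem exists_moved (g : Equiv.Perm GolayPt) (A : Finset GolayPt)
    (h : A.card < (Finset.univ.filter fun p => g p ≠ p).card) : ∃ t, g t ≠ t ∧ t ∉ A := by
  obtain ⟨t, ht, htA⟩ := Finset.exists_mem_notMem_of_card_lt_card h
  exact ⟨t, (Finset.mem_filter.mp ht).2, htA⟩

theorem moved_add_fixed (g : Equiv.Perm GolayPt) :
    (Finset.univ.filter fun p => g p = p).card + (Finset.univ.filter fun p => g p ≠ p).card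
      = 24 := by
  have h := Finset.card_filter_add_card_filter_not
    (s := (Finset.univ : Finset GolayPt)) (fun p => g p = p)
  rw [Finset.card_univ, Cfsg.Agent.H9.card_golayPt] at h
  exact h

/-- a 6-tuple permuted by `g` is conjugate to one of the two base tuples -/
theorem conj6 {g : Equiv.Perm GolayPt} (e : Fin 6 → GolayPt) (he : Function.Injective e)
    (π : Fin 6 → Fin 6) (hπ : ∀ i, g (e i) = e (π i)) :
    ∃ a ∈ M24, (∀ i, (a⁻¹ * g * a) (gPt (bA i)) = gPt (bA (π i))) ∨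
      (∀ i, (a⁻¹ * g * a) (gPt (bB i)) = gPt (bB (π i))) := by
  rcases normal_form e he with ⟨a, ha, h⟩ | ⟨a, ha, h⟩
  · refine ⟨a, ha, Or.inl fun i => ?_⟩
    show a⁻¹ (g (a (gPt (bA i)))) = gPt (bA (π i))
    rw [h i, hπ i, ← h (π i)]
    exact a.symm_apply_apply _
  · refine ⟨a, ha, Or.inr fun i => ?_⟩
    show a⁻¹ (g (a (gPt (bB i)))) = gPt (bB (π i))
    rw [h i, hπ i, ← h (π i)]
    exact a.symm_apply_apply _

theorem conj_mem {a g : Equiv.Perm GolayPt} (ha : a ∈ M24) (hg : g ∈ M24) :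
    a⁻¹ * g * a ∈ M24 := mul_mem (mul_mem (inv_mem ha) hg) ha

/-- an element of `M24` with at least five fixed points is conjugate into the list `u5` -/
theorem fix5_normal {g : Equiv.Perm GolayPt} (hg : g ∈ M24)
    (h5 : 5 ≤ (Finset.univ.filter fun p => g p = p).card) :
    ∃ a ∈ M24, ∃ j < 48, Rep (fldG u5 j) (a⁻¹ * g * a) := by
  obtain ⟨s, hs, hs5⟩ := Finset.exists_subset_card_eq h5
  let x : Fin 5 ↪ GolayPt := ⟨fun i => ((Finset.equivFinOfCardEq hs5).symm i).1,
    fun i j h => (Finset.equivFinOfCardEq hs5).symm.injective (Subtype.ext h)⟩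
  obtain ⟨a, ha, hax⟩ := exists_map_base5 x
  have hfix : ∀ i : Fin 5, g (x i) = x i :=
    fun i => (Finset.mem_filter.mp (hs ((Finset.equivFinOfCardEq hs5).symm i).2)).2
  refine ⟨a, ha, stab5_enum _ ⟨conj_mem ha hg, fun i hi => ?_⟩⟩
  have hi5 : i < 5 := by
    simp only [List.mem_cons, List.not_mem_nil, or_false] at hi
    omega
  show a⁻¹ (g (a (gPt i))) = gPt i
  have h1 : a (gPt i) = x ⟨i, hi5⟩ := hax ⟨i, hi5⟩
  rw [h1, hfix, ← h1]
  exact a.symm_apply_apply _

theorem eq_one_of_fixN {P : ℕ} {g : Equiv.Perm GolayPt} (h : Rep P g) (h24 : fixN P = 24) :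
    g = 1 := by
  have hc := fix_card h
  rw [h24] at hc
  have hu : (Finset.univ.filter fun p => g p = p) = Finset.univ := by
    apply Finset.eq_of_subset_of_card_le (Finset.subset_univ _)
    rw [hc, Finset.card_univ, Cfsg.Agent.H9.card_golayPt]
  ext p
  have hp : p ∈ (Finset.univ.filter fun p => g p = p) := by rw [hu]; exact Finset.mem_univ _
  rw [(Finset.mem_filter.mp hp).2]
  rfl

theorem conj_eq_one {a g : Equiv.Perm GolayPt} (h : a⁻¹ * g * a = 1) : g = 1 := by
  have h1 : g = a * (a⁻¹ * g * a) * a⁻¹ := by group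
  rw [h1, h]
  group

/-- transfer of the counts from a packed conjugate -/
theorem facts_of_rep {g a : Equiv.Perm GolayPt} {P : ℕ} (hg : g ∈ M24) (ha : a ∈ M24)
    (h : Rep P (a⁻¹ * g * a)) :
    (Finset.univ.filter fun p => g p = p).card = fixN P ∧
    {o : Finset GolayPt | o ∈ octads ∧ g • o = o}.ncard = cntO P ∧
    {T : Finset (Finset GolayPt) | T ∈ trios ∧ g • T = T}.ncard = cntT P ∧
    {S : Finset (Finset GolayPt) | S ∈ sextets ∧ g • S = S}.ncard = cntS P ∧
    {d : Finset GolayPt | d ∈ dodecads ∧ g • d = d}.ncard = cntD P := by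
  have hg' := conj_mem ha hg
  refine ⟨?_, ?_, ?_, ?_, ?_⟩
  · rw [← fix_card_conj a g, fix_card h]
  · rw [← ncard_fixed_conj octads (fun g hg z hz => m24_smul_mem_octads hg hz) a g ha,
      fixed_octads h]
  · rw [← ncard_fixed_conj trios (fun g hg z hz => smul_mem_trios hg hz) a g ha,
      fixed_trios h hg']
  · rw [← ncard_fixed_conj sextets (fun g hg z hz => smul_mem_sextets hg hz) a g ha,
      fixed_sextets h hg']
  · rw [← ncard_fixed_conj dodecads (fun g hg z hz => m24_smul_mem_dodecads hg hz) a g ha,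
      fixed_dodecads h]

/-! ### involutions -/

/-- an involution of `M24` with three transpositions is conjugate to a packed element -/
theorem invol_normal {g : Equiv.Perm GolayPt} (hg : g ∈ M24) (h2 : g * g = 1)
    (h5 : 5 ≤ (Finset.univ.filter fun p => g p ≠ p).card) :
    ∃ a ∈ M24, ∃ P, Rep P (a⁻¹ * g * a) ∧ invOK P = true := by
  have gg : ∀ x, g (g x) = x := fun x => congrArg (fun f : Equiv.Perm GolayPt => f x) h2
  obtain ⟨p, hp, -⟩ := exists_moved g ∅ (by rw [Finset.card_empty]; omega)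
  obtain ⟨r, hr, hrA⟩ := exists_moved g {p, g p}
    (lt_of_le_of_lt Finset.card_le_two (by omega))
  obtain ⟨t, ht, htA⟩ := exists_moved g {p, g p, r, g r}
    (lt_of_le_of_lt Finset.card_le_four (by omega))
  simp only [Finset.mem_insert, Finset.mem_singleton, not_or] at hrA htA
  obtain ⟨hrp, hrq⟩ := hrA
  obtain ⟨htp, htq, htr, hts⟩ := htA
  have he : Function.Injective ![p, g p, r, g r, t, g t] := by
    apply inj6
    · exact Ne.symm hp
    · exact Ne.symm hrp
    · intro h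
      apply hrq
      rw [h, gg]
    · exact Ne.symm htp
    · intro h
      apply htq
      rw [h, gg]
    · exact Ne.symm hrq
    · intro h
      exact hrp (g.injective h).symm
    · exact Ne.symm htq
    · intro h
      exact htp (g.injective h).symm
    · exact Ne.symm hr
    · exact Ne.symm htr
    · intro h
      apply hts
      rw [h, gg]
    · exact Ne.symm hts
    · intro h
      exact htr (g.injective h).symm
    · exact Ne.symm ht
  have hπ : ∀ i : Fin 6, g (![p, g p, r, g r, t, g t] i)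
      = ![p, g p, r, g r, t, g t] ((![1, 0, 3, 2, 5, 4] : Fin 6 → Fin 6) i) := by
    intro i
    fin_cases i
    · rfl
    · exact gg p
    · rfl
    · exact gg r
    · rfl
    · exact gg t
  obtain ⟨a, ha, hab⟩ := conj6 _ he _ hπ
  have hg' := conj_mem ha hg
  have h2' : (a⁻¹ * g * a) * (a⁻¹ * g * a) = 1 := by
    have : (a⁻¹ * g * a) * (a⁻¹ * g * a) = a⁻¹ * (g * g) * a := by group
    rw [this, h2]
    group
  rcases hab with h | h
  · have h0 : (a⁻¹ * g * a) (gPt 0) = gPt 1 := h 0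
    have h1 : (a⁻¹ * g * a) (gPt 1) = gPt 0 := h 1
    have h2 : (a⁻¹ * g * a) (gPt 2) = gPt 3 := h 2
    have h3 : (a⁻¹ * g * a) (gPt 3) = gPt 2 := h 3
    have h4 : (a⁻¹ * g * a) (gPt 4) = gPt 7 := h 4
    obtain ⟨l0, l1, l2, l3, l4⟩ := c2A_img
    obtain ⟨j, hj, hrep⟩ := coset5 c2A_ok.1 c2A_ok.2 hg' (by
      intro i hi
      interval_cases i
      · rw [l0]; exact h0
      · rw [l1]; exact h1
      · rw [l2]; exact h2
      · rw [l3]; exact h3
      · rw [l4]; exact h4)
    refine ⟨a, ha, _, hrep, ?_⟩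
    have hc := (allB_iff _ _).mp chk2A j hj
    rw [isInv_of hrep h2'] at hc
    simpa using hc
  · have h0 : (a⁻¹ * g * a) (gPt 0) = gPt 1 := h 0
    have h1 : (a⁻¹ * g * a) (gPt 1) = gPt 0 := h 1
    have h2 : (a⁻¹ * g * a) (gPt 2) = gPt 3 := h 2
    have h3 : (a⁻¹ * g * a) (gPt 3) = gPt 2 := h 3
    have h4 : (a⁻¹ * g * a) (gPt 4) = gPt 5 := h 4
    obtain ⟨l0, l1, l2, l3, l4⟩ := c2B_img
    obtain ⟨j, hj, hrep⟩ := coset5 c2B_ok.1 c2B_ok.2 hg' (by
      intro i hi
      interval_cases i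
      · rw [l0]; exact h0
      · rw [l1]; exact h1
      · rw [l2]; exact h2
      · rw [l3]; exact h3
      · rw [l4]; exact h4)
    refine ⟨a, ha, _, hrep, ?_⟩
    have hc := (allB_iff _ _).mp chk2B j hj
    rw [isInv_of hrep h2'] at hc
    simpa using hc

theorem invOK_spec {P : ℕ} (h : invOK P = true) :
    (fixN P = 8 ∧ cntO P = 71 ∧ cntT P = 99 ∧ cntS P = 91) ∨
    (fixN P = 0 ∧ cntO P = 15 ∧ cntT P = 75 ∧ cntS P = 51) := by
  unfold invOK at h
  simp only [Bool.or_eq_true, Bool.and_eq_true] at h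
  rcases h with ⟨a, b, c, d⟩ | ⟨a, b, c, d⟩
  · exact Or.inl ⟨Nat.eq_of_beq_eq_true a, Nat.eq_of_beq_eq_true b, Nat.eq_of_beq_eq_true c,
      Nat.eq_of_beq_eq_true d⟩
  · exact Or.inr ⟨Nat.eq_of_beq_eq_true a, Nat.eq_of_beq_eq_true b, Nat.eq_of_beq_eq_true c,
      Nat.eq_of_beq_eq_true d⟩

/-- the two kinds of involutions of `M24` -/
theorem invol_facts {g : Equiv.Perm GolayPt} (hg : g ∈ M24) (h2 : orderOf g = 2) :
    ((Finset.univ.filter fun p => g p = p).card = 8 ∧
      {o : Finset GolayPt | o ∈ octads ∧ g • o = o}.ncard = 71 ∧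
      {T : Finset (Finset GolayPt) | T ∈ trios ∧ g • T = T}.ncard = 99 ∧
      {S : Finset (Finset GolayPt) | S ∈ sextets ∧ g • S = S}.ncard = 91) ∨
    ((Finset.univ.filter fun p => g p = p).card = 0 ∧
      {o : Finset GolayPt | o ∈ octads ∧ g • o = o}.ncard = 15 ∧
      {T : Finset (Finset GolayPt) | T ∈ trios ∧ g • T = T}.ncard = 75 ∧
      {S : Finset (Finset GolayPt) | S ∈ sextets ∧ g • S = S}.ncard = 51) := by
  have hgg : g * g = 1 := by
    have := pow_orderOf_eq_one g
    rw [h2, pow_two] at this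
    exact this
  have hne : g ≠ 1 := by
    intro h
    rw [h, orderOf_one] at h2
    omega
  have hsum := moved_add_fixed g
  by_cases h5 : 5 ≤ (Finset.univ.filter fun p => g p ≠ p).card
  · obtain ⟨a, ha, P, hrep, hok⟩ := invol_normal hg hgg h5
    obtain ⟨f1, f2, f3, f4, -⟩ := facts_of_rep hg ha hrep
    rw [f1, f2, f3, f4]
    exact invOK_spec hok
  · exfalso
    obtain ⟨a, ha, j, hj, hrep⟩ := fix5_normal hg (by omega)
    have hc := (allB_iff _ _).mp chkU j hj
    have h2' : (a⁻¹ * g * a) * (a⁻¹ * g * a) = 1 := by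
      have : (a⁻¹ * g * a) * (a⁻¹ * g * a) = a⁻¹ * (g * g) * a := by group
      rw [this, hgg]
      group
    rw [isInv_of hrep h2'] at hc
    simp only [Bool.and_eq_true, Bool.or_eq_true, Bool.not_true, Bool.false_eq_true,
      false_or] at hc
    obtain ⟨f1, -⟩ := facts_of_rep hg ha hrep
    rcases hc.1 with h24 | h8
    · exact hne (conj_eq_one (eq_one_of_fixN hrep (Nat.eq_of_beq_eq_true h24)))
    · rw [Nat.eq_of_beq_eq_true h8] at f1
      omega

/-! ### elements of order 3 -/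

/-- an element of order 3 of `M24` with two 3-cycles is conjugate to a packed element -/
theorem ord3_normal {g : Equiv.Perm GolayPt} (hg : g ∈ M24) (h3 : g * g * g = 1)
    (h4 : 4 ≤ (Finset.univ.filter fun p => g p ≠ p).card) :
    ∃ a ∈ M24, ∃ P, Rep P (a⁻¹ * g * a) ∧ ord3OK P = true := by
  have ggg : ∀ x, g (g (g x)) = x := fun x => congrArg (fun f : Equiv.Perm GolayPt => f x) h3
  obtain ⟨p, hp, -⟩ := exists_moved g ∅ (by rw [Finset.card_empty]; omega)
  obtain ⟨r, hr, hrA⟩ := exists_moved g {p, g p, g (g p)}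
    (lt_of_le_of_lt Finset.card_le_three (by omega))
  simp only [Finset.mem_insert, Finset.mem_singleton, not_or] at hrA
  obtain ⟨hr0, hr1, hr2⟩ := hrA
  have he : Function.Injective ![p, g p, g (g p), r, g r, g (g r)] := by
    apply inj6
    · exact Ne.symm hp
    · intro h
      apply hp
      have := congrArg g h
      rw [ggg] at this
      exact this
    · exact Ne.symm hr0
    · intro h
      apply hr2
      rw [h, ggg]
    · intro h
      apply hr1
      rw [h, ggg]
    · intro h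
      exact hp (g.injective h).symm
    · exact Ne.symm hr1
    · intro h
      exact hr0 (g.injective h).symm
    · intro h
      apply hr2
      have h' := g.injective h
      rw [h', ggg]
    · exact Ne.symm hr2
    · intro h
      exact hr1 (g.injective h).symm
    · intro h
      exact hr0 (g.injective (g.injective h)).symm
    · exact Ne.symm hr
    · intro h
      apply hr
      have := congrArg g h
      rw [ggg] at this
      exact this
    · intro h
      exact hr (g.injective h).symm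
  have hπ : ∀ i : Fin 6, g (![p, g p, g (g p), r, g r, g (g r)] i)
      = ![p, g p, g (g p), r, g r, g (g r)] ((![1, 2, 0, 4, 5, 3] : Fin 6 → Fin 6) i) := by
    intro i
    fin_cases i
    · rfl
    · rfl
    · exact ggg p
    · rfl
    · rfl
    · exact ggg r
  obtain ⟨a, ha, hab⟩ := conj6 _ he _ hπ
  have hg' := conj_mem ha hg
  have h3' : (a⁻¹ * g * a) * (a⁻¹ * g * a) * (a⁻¹ * g * a) = 1 := by
    have : (a⁻¹ * g * a) * (a⁻¹ * g * a) * (a⁻¹ * g * a) = a⁻¹ * (g * g * g) * a := by group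
    rw [this, h3]
    group
  rcases hab with h | h
  · have h0 : (a⁻¹ * g * a) (gPt 0) = gPt 1 := h 0
    have h1 : (a⁻¹ * g * a) (gPt 1) = gPt 2 := h 1
    have h2 : (a⁻¹ * g * a) (gPt 2) = gPt 0 := h 2
    have h3 : (a⁻¹ * g * a) (gPt 3) = gPt 4 := h 3
    have h4 : (a⁻¹ * g * a) (gPt 4) = gPt 7 := h 4
    obtain ⟨l0, l1, l2, l3, l4⟩ := c3A_img
    obtain ⟨j, hj, hrep⟩ := coset5 c3A_ok.1 c3A_ok.2 hg' (by
      intro i hi
      interval_cases i
      · rw [l0]; exact h0
      · rw [l1]; exact h1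
      · rw [l2]; exact h2
      · rw [l3]; exact h3
      · rw [l4]; exact h4)
    refine ⟨a, ha, _, hrep, ?_⟩
    have hc := (allB_iff _ _).mp chk3A j hj
    rw [isOrd3_of hrep h3'] at hc
    simpa using hc
  · have h0 : (a⁻¹ * g * a) (gPt 0) = gPt 1 := h 0
    have h1 : (a⁻¹ * g * a) (gPt 1) = gPt 2 := h 1
    have h2 : (a⁻¹ * g * a) (gPt 2) = gPt 0 := h 2
    have h3 : (a⁻¹ * g * a) (gPt 3) = gPt 4 := h 3
    have h4 : (a⁻¹ * g * a) (gPt 4) = gPt 5 := h 4
    obtain ⟨l0, l1, l2, l3, l4⟩ := c3B_img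
    obtain ⟨j, hj, hrep⟩ := coset5 c3B_ok.1 c3B_ok.2 hg' (by
      intro i hi
      interval_cases i
      · rw [l0]; exact h0
      · rw [l1]; exact h1
      · rw [l2]; exact h2
      · rw [l3]; exact h3
      · rw [l4]; exact h4)
    refine ⟨a, ha, _, hrep, ?_⟩
    have hc := (allB_iff _ _).mp chk3B j hj
    rw [isOrd3_of hrep h3'] at hc
    simpa using hc

theorem ord3OK_spec {P : ℕ} (h : ord3OK P = true) :
    (fixN P = 6 ∧ cntO P = 21 ∧ cntT P = 15 ∧ cntS P = 16 ∧ cntD P = 20) ∨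
    (fixN P = 0 ∧ cntS P = 7 ∧ cntT P = 15) := by
  unfold ord3OK at h
  simp only [Bool.or_eq_true, Bool.and_eq_true] at h
  rcases h with ⟨a, b, c, d, e⟩ | ⟨a, b, c⟩
  · exact Or.inl ⟨Nat.eq_of_beq_eq_true a, Nat.eq_of_beq_eq_true b, Nat.eq_of_beq_eq_true c,
      Nat.eq_of_beq_eq_true d, Nat.eq_of_beq_eq_true e⟩
  · exact Or.inr ⟨Nat.eq_of_beq_eq_true a, Nat.eq_of_beq_eq_true b, Nat.eq_of_beq_eq_true c⟩

/-- the two kinds of elements of order 3 of `M24` -/
theorem ord3_facts {g : Equiv.Perm GolayPt} (hg : g ∈ M24) (h3 : orderOf g = 3) :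
    ((Finset.univ.filter fun p => g p = p).card = 6 ∧
      {o : Finset GolayPt | o ∈ octads ∧ g • o = o}.ncard = 21 ∧
      {T : Finset (Finset GolayPt) | T ∈ trios ∧ g • T = T}.ncard = 15 ∧
      {S : Finset (Finset GolayPt) | S ∈ sextets ∧ g • S = S}.ncard = 16 ∧
      {d : Finset GolayPt | d ∈ dodecads ∧ g • d = d}.ncard = 20) ∨
    ((Finset.univ.filter fun p => g p = p).card = 0 ∧
      {S : Finset (Finset GolayPt) | S ∈ sextets ∧ g • S = S}.ncard = 7 ∧
      {T : Finset (Finset GolayPt) | T ∈ trios ∧ g • T = T}.ncard = 15) := by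
  have hggg : g * g * g = 1 := by
    have := pow_orderOf_eq_one g
    rw [h3, pow_succ, pow_two] at this
    exact this
  have hne : g ≠ 1 := by
    intro h
    rw [h, orderOf_one] at h3
    omega
  have hsum := moved_add_fixed g
  by_cases h4 : 4 ≤ (Finset.univ.filter fun p => g p ≠ p).card
  · obtain ⟨a, ha, P, hrep, hok⟩ := ord3_normal hg hggg h4
    obtain ⟨f1, f2, f3, f4, f5⟩ := facts_of_rep hg ha hrep
    rw [f1, f2, f3, f4, f5]
    exact ord3OK_spec hok
  · exfalso
    obtain ⟨a, ha, j, hj, hrep⟩ := fix5_normal hg (by omega)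
    have hc := (allB_iff _ _).mp chkU j hj
    have h3' : (a⁻¹ * g * a) * (a⁻¹ * g * a) * (a⁻¹ * g * a) = 1 := by
      have : (a⁻¹ * g * a) * (a⁻¹ * g * a) * (a⁻¹ * g * a) = a⁻¹ * (g * g * g) * a := by group
      rw [this, hggg]
      group
    rw [isOrd3_of hrep h3'] at hc
    simp only [Bool.and_eq_true, Bool.or_eq_true, Bool.not_true, Bool.false_eq_true,
      false_or] at hc
    obtain ⟨f1, -⟩ := facts_of_rep hg ha hrep
    rcases hc.2 with h24 | h6
    · exact hne (conj_eq_one (eq_one_of_fixN hrep (Nat.eq_of_beq_eq_true h24)))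
    · rw [Nat.eq_of_beq_eq_true h6] at f1
      omega

end Cfsg.Agent.H94
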