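import Cfsg.Agent.H94.EltConj
import Cfsg.Agent.S5608

/-!
# Orders of subgroups of `M24` from enumerations of packed permutations (helper94)

* `card_of_pass`: a subgroup whose elements are exactly the permutations represented by the packed
  permutations `T n`, `n < N`, passing a Boolean test, without repetition, has order
  `countB pass N`.
* `countB_mul`: a count over `a * b` indices as a sum (`sumB`) of counts over blocks.
* `comm_of_commN`: the Boolean commutation test is sound.
* `centM t`: the centraliser of `t` in `M24` as a subgroup of the permutation group, and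
  `centM_conj`, `card_centM_conj`: its behaviour under conjugation.
-/

set_option autoImplicit false

namespace Cfsg.Agent.H94

open Cfsg Cfsg.Agent.H9 Cfsg.Agent.H33 Cfsg.Agent.S5608
open scoped Pointwise

theorem rep_uniq {P : ℕ} {g g' : Equiv.Perm GolayPt} (h : Rep P g) (h' : Rep P g') : g = g' :=
  Equiv.ext fun p => gIdx_injective (by rw [h, h'])

theorem not_differ_of_rep {P Q : ℕ} {g : Equiv.Perm GolayPt} (hP : Rep P g) (hQ : Rep Q g) :
    differ P Q = false := by
  unfold differ
  have : allB (fun i => Nat.beq (lk P i) (lk Q i)) 24 = true := by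
    rw [allB_iff]
    intro i hi
    have h1 := hP (gPt i)
    have h2 := hQ (gPt i)
    rw [gIdx_gPt hi] at h1 h2
    rw [← h1, ← h2]
    exact Nat.beq_refl _
  rw [this]
  rfl

theorem comm_of_commN {P Q : ℕ} {g h : Equiv.Perm GolayPt} (hP : Rep P g) (hQ : Rep Q h)
    (hc : commN P Q = true) : g * h = h * g := by
  refine Equiv.ext fun p => ?_
  apply gIdx_injective
  show gIdx (g (h p)) = gIdx (h (g p))
  rw [hP, hQ, hQ, hP]
  exact Nat.eq_of_beq_eq_true ((allB_iff _ _).mp hc (gIdx p) (gIdx_lt p))

/-- the order of a subgroup enumerated without repetition by the packed permutations `T n`,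
`n < N`, passing the test `pass` -/
theorem card_of_pass (H : Subgroup (Equiv.Perm GolayPt)) (N : ℕ) (T : ℕ → ℕ) (pass : ℕ → Bool)
    (hT : ∀ n < N, pass n = true → ∃ g ∈ H, Rep (T n) g)
    (hinj : ∀ m < N, ∀ n < N, pass m = true → pass n = true →
      ∀ g : Equiv.Perm GolayPt, Rep (T m) g → Rep (T n) g → m = n)
    (hsurj : ∀ g ∈ H, ∃ n < N, pass n = true ∧ Rep (T n) g) :
    Nat.card H = countB pass N := by
  classical
  rw [countB_eq]
  have hmem : ∀ n : ((Finset.range N).filter (fun k => pass k = true) : Finset ℕ),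
      n.1 < N ∧ pass n.1 = true := fun n => by
    have := n.2
    rw [Finset.mem_filter, Finset.mem_range] at this
    exact this
  let f : ((Finset.range N).filter (fun k => pass k = true) : Finset ℕ) → H := fun n =>
    ⟨Classical.choose (hT n.1 (hmem n).1 (hmem n).2),
      (Classical.choose_spec (hT n.1 (hmem n).1 (hmem n).2)).1⟩
  have hf : ∀ n, Rep (T n.1) (f n).1 :=
    fun n => (Classical.choose_spec (hT n.1 (hmem n).1 (hmem n).2)).2
  have hbij : Function.Bijective f := by
    constructor
    · intro m n hmn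
      apply Subtype.ext
      have h1 := hf m
      have h2 := hf n
      rw [hmn] at h1
      exact hinj m.1 (hmem m).1 n.1 (hmem n).1 (hmem m).2 (hmem n).2 _ h1 h2
    · intro g
      obtain ⟨n, hn, hp, hr⟩ := hsurj g.1 g.2
      refine ⟨⟨n, by rw [Finset.mem_filter, Finset.mem_range]; exact ⟨hn, hp⟩⟩, ?_⟩
      apply Subtype.ext
      exact rep_uniq (hf _) hr
  rw [← Nat.card_congr (Equiv.ofBijective f hbij), Nat.card_eq_fintype_card, Fintype.card_coe]

/-- sum of `f k` over `k < n` -/
def sumB (f : ℕ → ℕ) : ℕ → ℕ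
  | 0 => 0
  | n + 1 => Nat.add (f n) (sumB f n)

theorem countB_add (f : ℕ → Bool) (m b : ℕ) :
    countB f (m + b) = countB (fun j => f (m + j)) b + countB f m := by
  induction b with
  | zero => simp [countB]
  | succ b ih =>
    have h1 : countB f (m + (b + 1)) = (bif f (m + b) then 1 else 0) + countB f (m + b) := rfl
    have h2 : countB (fun j => f (m + j)) (b + 1)
        = (bif f (m + b) then 1 else 0) + countB (fun j => f (m + j)) b := rfl
    rw [h1, h2, ih, Nat.add_assoc]

theorem countB_mul (f : ℕ → Bool) (a b : ℕ) :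
    countB f (a * b) = sumB (fun d => countB (fun j => f (d * b + j)) b) a := by
  induction a with
  | zero => simp [countB, sumB]
  | succ a ih =>
    have h1 : sumB (fun d => countB (fun j => f (d * b + j)) b) (a + 1)
        = countB (fun j => f (a * b + j)) b + sumB (fun d => countB (fun j => f (d * b + j)) b) a :=
      rfl
    rw [Nat.succ_mul, countB_add, ih, h1]

/-! ### centralisers in `M24` -/

/-- the centraliser of `t` in `M24` -/
def centM (t : Equiv.Perm GolayPt) : Subgroup (Equiv.Perm GolayPt) where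
  carrier := {c | c ∈ M24 ∧ c * t = t * c}
  mul_mem' := by
    rintro a b ⟨ha, ha'⟩ ⟨hb, hb'⟩
    exact ⟨mul_mem ha hb, by rw [mul_assoc, hb', ← mul_assoc, ha', mul_assoc]⟩
  one_mem' := ⟨one_mem _, by rw [one_mul, mul_one]⟩
  inv_mem' := by
    rintro a ⟨ha, ha'⟩
    refine ⟨inv_mem ha, ?_⟩
    calc a⁻¹ * t = a⁻¹ * (t * a) * a⁻¹ := by group
      _ = a⁻¹ * (a * t) * a⁻¹ := by rw [ha']
      _ = t * a⁻¹ := by group

theorem mem_centM {t c : Equiv.Perm GolayPt} : c ∈ centM t ↔ c ∈ M24 ∧ c * t = t * c := Iff.rfl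

theorem card_centM (t : Equiv.Perm GolayPt) :
    Nat.card {c : Equiv.Perm GolayPt // c ∈ M24 ∧ c * t = t * c} = Nat.card (centM t) := rfl

/-- conjugation maps centralisers to centralisers -/
theorem centM_conj {k t c : Equiv.Perm GolayPt} (hk : k ∈ M24) (hc : c ∈ centM t) :
    k * c * k⁻¹ ∈ centM (k * t * k⁻¹) := by
  refine ⟨mul_mem (mul_mem hk hc.1) (inv_mem hk), ?_⟩
  calc k * c * k⁻¹ * (k * t * k⁻¹) = k * (c * t) * k⁻¹ := by group
    _ = k * (t * c) * k⁻¹ := by rw [hc.2]
    _ = k * t * k⁻¹ * (k * c * k⁻¹) := by group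

theorem centM_conj' {k t c : Equiv.Perm GolayPt} (hk : k ∈ M24)
    (hc : c ∈ centM (k * t * k⁻¹)) : k⁻¹ * c * k ∈ centM t := by
  have h := centM_conj (inv_mem hk) hc
  have e : k⁻¹ * (k * t * k⁻¹) * k⁻¹⁻¹ = t := by group
  rw [e, inv_inv] at h
  exact h

theorem card_centM_conj {k : Equiv.Perm GolayPt} (hk : k ∈ M24) (t : Equiv.Perm GolayPt) :
    Nat.card (centM t) = Nat.card (centM (k * t * k⁻¹)) := by
  refine Nat.card_congr
    { toFun := fun c => ⟨k * c.1 * k⁻¹, centM_conj hk c.2⟩
      invFun := fun c => ⟨k⁻¹ * c.1 * k, centM_conj' hk c.2⟩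
      left_inv := fun c => by
        apply Subtype.ext
        show k⁻¹ * (k * c.1 * k⁻¹) * k = c.1
        group
      right_inv := fun c => by
        apply Subtype.ext
        show k * (k⁻¹ * c.1 * k) * k⁻¹ = c.1
        group }

end Cfsg.Agent.H94
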