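import Cfsg.Agent.H94.EltConjData

/-!
# Conjugacy classes of involutions and of elements of order 3 of `M24` (helper94)

* `invol_conj`: every involution of `M24` is conjugate to `r8e` (8 fixed points) or to `r0e`
  (fixed-point-free).
* `ord3_conj`: every element of order 3 of `M24` is conjugate to `t6e` (6 fixed points) or to `t0e`
  (fixed-point-free).
-/

set_option autoImplicit false

namespace Cfsg.Agent.H94

open Cfsg Cfsg.Agent.H9 Cfsg.Agent.H33 Cfsg.Agent.S5600
open scoped Pointwise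

/-! ### the coset forms -/

theorem invol_coset {g : Equiv.Perm GolayPt} (hg : g ∈ M24) (h2 : g * g = 1)
    (h5 : 5 ≤ (Finset.univ.filter fun p => g p ≠ p).card) :
    ∃ a ∈ M24, ∃ j < 48, Rep (mulN c2A (fldG u5 j)) (a⁻¹ * g * a) ∨
      Rep (mulN c2B (fldG u5 j)) (a⁻¹ * g * a) := by
  have gg : ∀ x, g (g x) = x := fun x => congrArg (fun f : Equiv.Perm GolayPt => f x) h2
  obtain ⟨p, hp, -⟩ := exists_moved g ∅ (by rw [Finset.card_empty]; omega)
  obtain ⟨r, hr, hrA⟩ := exists_moved g {p, g p}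
    (lt_of_le_of_lt Finset.card_le_two (by omega))
  obtain ⟨t, ht, htA⟩ := exists_moved g {p, g p, r, g r}
    (lt_of_le_of_lt Finset.card_le_four (by omega))
  simp only [Finset.mem_insert, Finset.mem_singleton, not_or] at hrA htA
  obtain ⟨hrp, hrq⟩ := hrA
  obtain ⟨htp, htq, htr, hts⟩ := htA
  have he : Function.Injective ![p, g p, r, g r, t, g t] := by
    apply inj6
    · exact Ne.symm hp
    · exact Ne.symm hrp
    · intro h
      apply hrq
      rw [h, gg]
    · exact Ne.symm htp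
    · intro h
      apply htq
      rw [h, gg]
    · exact Ne.symm hrq
    · intro h
      exact hrp (g.injective h).symm
    · exact Ne.symm htq
    · intro h
      exact htp (g.injective h).symm
    · exact Ne.symm hr
    · exact Ne.symm htr
    · intro h
      apply hts
      rw [h, gg]
    · exact Ne.symm hts
    · intro h
      exact htr (g.injective h).symm
    · exact Ne.symm ht
  have hπ : ∀ i : Fin 6, g (![p, g p, r, g r, t, g t] i)
      = ![p, g p, r, g r, t, g t] ((![1, 0, 3, 2, 5, 4] : Fin 6 → Fin 6) i) := by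
    intro i
    fin_cases i
    · rfl
    · exact gg p
    · rfl
    · exact gg r
    · rfl
    · exact gg t
  obtain ⟨a, ha, hab⟩ := conj6 _ he _ hπ
  have hg' := conj_mem ha hg
  rcases hab with h | h
  · have h0 : (a⁻¹ * g * a) (gPt 0) = gPt 1 := h 0
    have h1 : (a⁻¹ * g * a) (gPt 1) = gPt 0 := h 1
    have h2 : (a⁻¹ * g * a) (gPt 2) = gPt 3 := h 2
    have h3 : (a⁻¹ * g * a) (gPt 3) = gPt 2 := h 3
    have h4 : (a⁻¹ * g * a) (gPt 4) = gPt 7 := h 4
    obtain ⟨l0, l1, l2, l3, l4⟩ := c2A_img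
    obtain ⟨j, hj, hrep⟩ := coset5 c2A_ok.1 c2A_ok.2 hg' (by
      intro i hi
      interval_cases i
      · rw [l0]; exact h0
      · rw [l1]; exact h1
      · rw [l2]; exact h2
      · rw [l3]; exact h3
      · rw [l4]; exact h4)
    exact ⟨a, ha, j, hj, Or.inl hrep⟩
  · have h0 : (a⁻¹ * g * a) (gPt 0) = gPt 1 := h 0
    have h1 : (a⁻¹ * g * a) (gPt 1) = gPt 0 := h 1
    have h2 : (a⁻¹ * g * a) (gPt 2) = gPt 3 := h 2
    have h3 : (a⁻¹ * g * a) (gPt 3) = gPt 2 := h 3
    have h4 : (a⁻¹ * g * a) (gPt 4) = gPt 5 := h 4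
    obtain ⟨l0, l1, l2, l3, l4⟩ := c2B_img
    obtain ⟨j, hj, hrep⟩ := coset5 c2B_ok.1 c2B_ok.2 hg' (by
      intro i hi
      interval_cases i
      · rw [l0]; exact h0
      · rw [l1]; exact h1
      · rw [l2]; exact h2
      · rw [l3]; exact h3
      · rw [l4]; exact h4)
    exact ⟨a, ha, j, hj, Or.inr hrep⟩

theorem ord3_coset {g : Equiv.Perm GolayPt} (hg : g ∈ M24) (h3 : g * g * g = 1)
    (h4 : 4 ≤ (Finset.univ.filter fun p => g p ≠ p).card) :
    ∃ a ∈ M24, ∃ j < 48, Rep (mulN c3A (fldG u5 j)) (a⁻¹ * g * a) ∨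
      Rep (mulN c3B (fldG u5 j)) (a⁻¹ * g * a) := by
  have ggg : ∀ x, g (g (g x)) = x := fun x => congrArg (fun f : Equiv.Perm GolayPt => f x) h3
  obtain ⟨p, hp, -⟩ := exists_moved g ∅ (by rw [Finset.card_empty]; omega)
  obtain ⟨r, hr, hrA⟩ := exists_moved g {p, g p, g (g p)}
    (lt_of_le_of_lt Finset.card_le_three (by omega))
  simp only [Finset.mem_insert, Finset.mem_singleton, not_or] at hrA
  obtain ⟨hr0, hr1, hr2⟩ := hrA
  have he : Function.Injective ![p, g p, g (g p), r, g r, g (g r)] := by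
    apply inj6
    · exact Ne.symm hp
    · intro h
      apply hp
      have := congrArg g h
      rw [ggg] at this
      exact this
    · exact Ne.symm hr0
    · intro h
      apply hr2
      rw [h, ggg]
    · intro h
      apply hr1
      rw [h, ggg]
    · intro h
      exact hp (g.injective h).symm
    · exact Ne.symm hr1
    · intro h
      exact hr0 (g.injective h).symm
    · intro h
      apply hr2
      have h' := g.injective h
      rw [h', ggg]
    · exact Ne.symm hr2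
    · intro h
      exact hr1 (g.injective h).symm
    · intro h
      exact hr0 (g.injective (g.injective h)).symm
    · exact Ne.symm hr
    · intro h
      apply hr
      have := congrArg g h
      rw [ggg] at this
      exact this
    · intro h
      exact hr (g.injective h).symm
  have hπ : ∀ i : Fin 6, g (![p, g p, g (g p), r, g r, g (g r)] i)
      = ![p, g p, g (g p), r, g r, g (g r)] ((![1, 2, 0, 4, 5, 3] : Fin 6 → Fin 6) i) := by
    intro i
    fin_cases i
    · rfl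
    · rfl
    · exact ggg p
    · rfl
    · rfl
    · exact ggg r
  obtain ⟨a, ha, hab⟩ := conj6 _ he _ hπ
  have hg' := conj_mem ha hg
  rcases hab with h | h
  · have h0 : (a⁻¹ * g * a) (gPt 0) = gPt 1 := h 0
    have h1 : (a⁻¹ * g * a) (gPt 1) = gPt 2 := h 1
    have h2 : (a⁻¹ * g * a) (gPt 2) = gPt 0 := h 2
    have h3 : (a⁻¹ * g * a) (gPt 3) = gPt 4 := h 3
    have h4 : (a⁻¹ * g * a) (gPt 4) = gPt 7 := h 4
    obtain ⟨l0, l1, l2, l3, l4⟩ := c3A_img
    obtain ⟨j, hj, hrep⟩ := coset5 c3A_ok.1 c3A_ok.2 hg' (by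
      intro i hi
      interval_cases i
      · rw [l0]; exact h0
      · rw [l1]; exact h1
      · rw [l2]; exact h2
      · rw [l3]; exact h3
      · rw [l4]; exact h4)
    exact ⟨a, ha, j, hj, Or.inl hrep⟩
  · have h0 : (a⁻¹ * g * a) (gPt 0) = gPt 1 := h 0
    have h1 : (a⁻¹ * g * a) (gPt 1) = gPt 2 := h 1
    have h2 : (a⁻¹ * g * a) (gPt 2) = gPt 0 := h 2
    have h3 : (a⁻¹ * g * a) (gPt 3) = gPt 4 := h 3
    have h4 : (a⁻¹ * g * a) (gPt 4) = gPt 5 := h 4
    obtain ⟨l0, l1, l2, l3, l4⟩ := c3B_img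
    obtain ⟨j, hj, hrep⟩ := coset5 c3B_ok.1 c3B_ok.2 hg' (by
      intro i hi
      interval_cases i
      · rw [l0]; exact h0
      · rw [l1]; exact h1
      · rw [l2]; exact h2
      · rw [l3]; exact h3
      · rw [l4]; exact h4)
    exact ⟨a, ha, j, hj, Or.inr hrep⟩

/-! ### packed conjugators -/

/-- `D` (with inverse `DI`) is an element of `M24` conjugating `P` to `R` -/
def conjOK (D DI P R : ℕ) : Bool :=
  chkInv D DI && (chkM24 D && allB (fun i => Nat.beq (lk D (lk P i)) (lk R (lk D i))) 24)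

theorem conj_of_ok {D DI P R : ℕ} {g r : Equiv.Perm GolayPt} (h : conjOK D DI P R = true)
    (hP : Rep P g) (hR : Rep R r) : ∃ d ∈ M24, d * g * d⁻¹ = r := by
  unfold conjOK at h
  simp only [Bool.and_eq_true] at h
  obtain ⟨h1, h2, h3⟩ := h
  have hD : Rep D (permOf D DI h1) := rep_permOf D DI h1
  refine ⟨permOf D DI h1, permOf_mem_M24 D DI h1 h2, ?_⟩
  rw [mul_inv_eq_iff_eq_mul]
  refine Equiv.ext fun p => ?_
  apply gIdx_injective
  show gIdx (permOf D DI h1 (g p)) = gIdx (r (permOf D DI h1 p))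
  rw [hD, hP, hR, hD]
  exact Nat.eq_of_beq_eq_true ((allB_iff _ _).mp h3 _ (gIdx_lt p))

theorem mul_self_of_isInv {P : ℕ} {g : Equiv.Perm GolayPt} (h : Rep P g) (hi : isInv P = true) :
    g * g = 1 := by
  refine Equiv.ext fun p => ?_
  apply gIdx_injective
  show gIdx (g (g p)) = gIdx p
  rw [h, h]
  exact Nat.eq_of_beq_eq_true ((allB_iff _ _).mp hi _ (gIdx_lt p))

theorem cube_of_isOrd3 {P : ℕ} {g : Equiv.Perm GolayPt} (h : Rep P g) (hi : isOrd3 P = true) :
    g * g * g = 1 := by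
  refine Equiv.ext fun p => ?_
  apply gIdx_injective
  show gIdx (g (g (g p))) = gIdx p
  rw [h, h, h]
  exact Nat.eq_of_beq_eq_true ((allB_iff _ _).mp hi _ (gIdx_lt p))

theorem ne_one_of_lk {P : ℕ} {g : Equiv.Perm GolayPt} (h : Rep P g) (h0 : lk P 0 ≠ 0) :
    g ≠ 1 := by
  intro h1
  have := h (gPt 0)
  rw [h1, gIdx_gPt (by norm_num)] at this
  exact h0 this.symm

/-! ### the representatives -/

theorem r8_ok : chkInv r8 r8I = true ∧ chkM24 r8 = true ∧ isInv r8 = true ∧ lk r8 0 ≠ 0 ∧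
    fixN r8 = 8 := by decide +kernel

theorem r0_ok : chkInv r0 r0I = true ∧ chkM24 r0 = true ∧ isInv r0 = true ∧ lk r0 0 ≠ 0 ∧
    fixN r0 = 0 := by decide +kernel

theorem t6_ok : chkInv t6 t6I = true ∧ chkM24 t6 = true ∧ isOrd3 t6 = true ∧ lk t6 0 ≠ 0 ∧
    fixN t6 = 6 := by decide +kernel

theorem t0_ok : chkInv t0 t0I = true ∧ chkM24 t0 = true ∧ isOrd3 t0 = true ∧ lk t0 0 ≠ 0 ∧
    fixN t0 = 0 := by decide +kernel

/-- an involution with 8 fixed points -/
def r8e : Equiv.Perm GolayPt := permOf r8 r8I r8_ok.1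

/-- a fixed-point-free involution -/
def r0e : Equiv.Perm GolayPt := permOf r0 r0I r0_ok.1

/-- an element of order 3 with 6 fixed points -/
def t6e : Equiv.Perm GolayPt := permOf t6 t6I t6_ok.1

/-- a fixed-point-free element of order 3 -/
def t0e : Equiv.Perm GolayPt := permOf t0 t0I t0_ok.1

theorem r8e_rep : Rep r8 r8e := rep_permOf _ _ _

theorem r0e_rep : Rep r0 r0e := rep_permOf _ _ _

theorem t6e_rep : Rep t6 t6e := rep_permOf _ _ _

theorem t0e_rep : Rep t0 t0e := rep_permOf _ _ _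

theorem r8e_mem : r8e ∈ M24 := permOf_mem_M24 _ _ _ r8_ok.2.1

theorem r0e_mem : r0e ∈ M24 := permOf_mem_M24 _ _ _ r0_ok.2.1

theorem t6e_mem : t6e ∈ M24 := permOf_mem_M24 _ _ _ t6_ok.2.1

theorem t0e_mem : t0e ∈ M24 := permOf_mem_M24 _ _ _ t0_ok.2.1

theorem orderOf_two_of {P : ℕ} {g : Equiv.Perm GolayPt} (h : Rep P g) (hi : isInv P = true)
    (h0 : lk P 0 ≠ 0) : orderOf g = 2 := by
  haveI : Fact (Nat.Prime 2) := ⟨by norm_num⟩
  apply orderOf_eq_prime
  · rw [pow_two]
    exact mul_self_of_isInv h hi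
  · exact ne_one_of_lk h h0

theorem orderOf_three_of {P : ℕ} {g : Equiv.Perm GolayPt} (h : Rep P g) (hi : isOrd3 P = true)
    (h0 : lk P 0 ≠ 0) : orderOf g = 3 := by
  haveI : Fact (Nat.Prime 3) := ⟨by norm_num⟩
  apply orderOf_eq_prime
  · rw [pow_succ, pow_two]
    exact cube_of_isOrd3 h hi
  · exact ne_one_of_lk h h0

theorem r8e_order : orderOf r8e = 2 := orderOf_two_of r8e_rep r8_ok.2.2.1 r8_ok.2.2.2.1

theorem r0e_order : orderOf r0e = 2 := orderOf_two_of r0e_rep r0_ok.2.2.1 r0_ok.2.2.2.1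

theorem t6e_order : orderOf t6e = 3 := orderOf_three_of t6e_rep t6_ok.2.2.1 t6_ok.2.2.2.1

theorem t0e_order : orderOf t0e = 3 := orderOf_three_of t0e_rep t0_ok.2.2.1 t0_ok.2.2.2.1

theorem r8e_fix : (Finset.univ.filter fun p => r8e p = p).card = 8 := by
  rw [fix_card r8e_rep]
  exact r8_ok.2.2.2.2

theorem r0e_fix : (Finset.univ.filter fun p => r0e p = p).card = 0 := by
  rw [fix_card r0e_rep]
  exact r0_ok.2.2.2.2

theorem t6e_fix : (Finset.univ.filter fun p => t6e p = p).card = 6 := by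
  rw [fix_card t6e_rep]
  exact t6_ok.2.2.2.2

theorem t0e_fix : (Finset.univ.filter fun p => t0e p = p).card = 0 := by
  rw [fix_card t0e_rep]
  exact t0_ok.2.2.2.2

/-! ### the kernel checks and the conjugacy theorems -/

theorem chkConj2A : allB (fun j => !(isInv (mulN c2A (fldG u5 j))) ||
    (conjOK (fldG dA2 j) (fldG dA2I j) (mulN c2A (fldG u5 j)) r8 ||
      conjOK (fldG dA2 j) (fldG dA2I j) (mulN c2A (fldG u5 j)) r0)) 48 = true := by
  decide +kernel

theorem chkConj2B : allB (fun j => !(isInv (mulN c2B (fldG u5 j))) ||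
    (conjOK (fldG dB2 j) (fldG dB2I j) (mulN c2B (fldG u5 j)) r8 ||
      conjOK (fldG dB2 j) (fldG dB2I j) (mulN c2B (fldG u5 j)) r0)) 48 = true := by
  decide +kernel

theorem chkConj3A : allB (fun j => !(isOrd3 (mulN c3A (fldG u5 j))) ||
    (conjOK (fldG dA3 j) (fldG dA3I j) (mulN c3A (fldG u5 j)) t6 ||
      conjOK (fldG dA3 j) (fldG dA3I j) (mulN c3A (fldG u5 j)) t0)) 48 = true := by
  decide +kernel

theorem chkConj3B : allB (fun j => !(isOrd3 (mulN c3B (fldG u5 j))) ||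
    (conjOK (fldG dB3 j) (fldG dB3I j) (mulN c3B (fldG u5 j)) t6 ||
      conjOK (fldG dB3 j) (fldG dB3I j) (mulN c3B (fldG u5 j)) t0)) 48 = true := by
  decide +kernel

theorem conj_trans {a d g r : Equiv.Perm GolayPt} (h : d * (a⁻¹ * g * a) * d⁻¹ = r) :
    (d * a⁻¹) * g * (d * a⁻¹)⁻¹ = r := by
  rw [← h]
  group

/-- every involution of `M24` is conjugate to one of the two representatives -/
theorem invol_conj {g : Equiv.Perm GolayPt} (hg : g ∈ M24) (h2 : orderOf g = 2) :
    ∃ k ∈ M24, k * g * k⁻¹ = r8e ∨ k * g * k⁻¹ = r0e := by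
  have hgg : g * g = 1 := by
    have := pow_orderOf_eq_one g
    rw [h2, pow_two] at this
    exact this
  have hsum := moved_add_fixed g
  have h5 : 5 ≤ (Finset.univ.filter fun p => g p ≠ p).card := by
    rcases invol_facts hg h2 with ⟨h8, -⟩ | ⟨h0, -⟩ <;> omega
  obtain ⟨a, ha, j, hj, hrep⟩ := invol_coset hg hgg h5
  have h2' : (a⁻¹ * g * a) * (a⁻¹ * g * a) = 1 := by
    have : (a⁻¹ * g * a) * (a⁻¹ * g * a) = a⁻¹ * (g * g) * a := by group
    rw [this, hgg]
    group
  rcases hrep with hrep | hrep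
  · have hc := (allB_iff _ _).mp chkConj2A j hj
    rw [isInv_of hrep h2'] at hc
    simp only [Bool.not_true, Bool.false_or, Bool.or_eq_true] at hc
    rcases hc with hc | hc
    · obtain ⟨d, hd, e⟩ := conj_of_ok hc hrep r8e_rep
      exact ⟨d * a⁻¹, mul_mem hd (inv_mem ha), Or.inl (conj_trans e)⟩
    · obtain ⟨d, hd, e⟩ := conj_of_ok hc hrep r0e_rep
      exact ⟨d * a⁻¹, mul_mem hd (inv_mem ha), Or.inr (conj_trans e)⟩
  · have hc := (allB_iff _ _).mp chkConj2B j hj
    rw [isInv_of hrep h2'] at hc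
    simp only [Bool.not_true, Bool.false_or, Bool.or_eq_true] at hc
    rcases hc with hc | hc
    · obtain ⟨d, hd, e⟩ := conj_of_ok hc hrep r8e_rep
      exact ⟨d * a⁻¹, mul_mem hd (inv_mem ha), Or.inl (conj_trans e)⟩
    · obtain ⟨d, hd, e⟩ := conj_of_ok hc hrep r0e_rep
      exact ⟨d * a⁻¹, mul_mem hd (inv_mem ha), Or.inr (conj_trans e)⟩

/-- every element of order 3 of `M24` is conjugate to one of the two representatives -/
theorem ord3_conj {g : Equiv.Perm GolayPt} (hg : g ∈ M24) (h3 : orderOf g = 3) :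
    ∃ k ∈ M24, k * g * k⁻¹ = t6e ∨ k * g * k⁻¹ = t0e := by
  have hggg : g * g * g = 1 := by
    have := pow_orderOf_eq_one g
    rw [h3, pow_succ, pow_two] at this
    exact this
  have hsum := moved_add_fixed g
  have h4 : 4 ≤ (Finset.univ.filter fun p => g p ≠ p).card := by
    rcases ord3_facts hg h3 with ⟨h6, -⟩ | ⟨h0, -⟩ <;> omega
  obtain ⟨a, ha, j, hj, hrep⟩ := ord3_coset hg hggg h4
  have h3' : (a⁻¹ * g * a) * (a⁻¹ * g * a) * (a⁻¹ * g * a) = 1 := by
    have : (a⁻¹ * g * a) * (a⁻¹ * g * a) * (a⁻¹ * g * a) = a⁻¹ * (g * g * g) * a := by group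
    rw [this, hggg]
    group
  rcases hrep with hrep | hrep
  · have hc := (allB_iff _ _).mp chkConj3A j hj
    rw [isOrd3_of hrep h3'] at hc
    simp only [Bool.not_true, Bool.false_or, Bool.or_eq_true] at hc
    rcases hc with hc | hc
    · obtain ⟨d, hd, e⟩ := conj_of_ok hc hrep t6e_rep
      exact ⟨d * a⁻¹, mul_mem hd (inv_mem ha), Or.inl (conj_trans e)⟩
    · obtain ⟨d, hd, e⟩ := conj_of_ok hc hrep t0e_rep
      exact ⟨d * a⁻¹, mul_mem hd (inv_mem ha), Or.inr (conj_trans e)⟩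
  · have hc := (allB_iff _ _).mp chkConj3B j hj
    rw [isOrd3_of hrep h3'] at hc
    simp only [Bool.not_true, Bool.false_or, Bool.or_eq_true] at hc
    rcases hc with hc | hc
    · obtain ⟨d, hd, e⟩ := conj_of_ok hc hrep t6e_rep
      exact ⟨d * a⁻¹, mul_mem hd (inv_mem ha), Or.inl (conj_trans e)⟩
    · obtain ⟨d, hd, e⟩ := conj_of_ok hc hrep t0e_rep
      exact ⟨d * a⁻¹, mul_mem hd (inv_mem ha), Or.inr (conj_trans e)⟩

/-- the number of fixed points is a class function -/
theorem fix_card_conj' (k g : Equiv.Perm GolayPt) :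
    (Finset.univ.filter fun p => (k * g * k⁻¹) p = p).card
      = (Finset.univ.filter fun p => g p = p).card := by
  have h := fix_card_conj k⁻¹ g
  rw [inv_inv] at h
  exact h

end Cfsg.Agent.H94
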