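import Cfsg.Agent.H94.EltCard

/-!
# Enumeration of a subgroup of `M24` by cosets of the five-point stabiliser (helper94)

A table `Dt` of packed elements of `M24` (entry `d` valid when `valid d`), such that every element
of the subgroup `H` has the same images of the base points `0..4` as some valid entry, enumerates
`H`: its elements are the candidates `mulN (fldG Dt d) (fldG u5 j)` passing the test.

* `coset_enum`: every element of `H` is a passing candidate.
* `coset_card`: `Nat.card H` is the number of passing candidates.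
-/

set_option autoImplicit false

namespace Cfsg.Agent.H94

open Cfsg Cfsg.Agent.H9 Cfsg.Agent.H33
open scoped Pointwise

/-- two packed permutations differ at one of the indices `0..4` -/
def differ5 (P Q : ℕ) : Bool := !(allB (fun i => Nat.beq (lk P i) (lk Q i)) 5)

/-- the candidate with flat index `n` in the coset table `Dt` -/
def candT (Dt n : ℕ) : ℕ := mulN (fldG Dt (Nat.div n 48)) (fldG u5 (Nat.mod n 48))

/-- the test on the candidate with flat index `n` -/
def candOK (Dt : ℕ) (valid test : ℕ → Bool) (n : ℕ) : Bool :=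
  valid (Nat.div n 48) && test (candT Dt n)

theorem u5_perm {j : ℕ} (hj : j < 48) : ∃ u ∈ Stab [4, 3, 2, 1, 0], Rep (fldG u5 j) u :=
  exists_of_okElt (l := [4, 3, 2, 1, 0]) (by decide) ((allB_iff _ _).mp u5_ok j hj)

theorem lk_of_rep {P : ℕ} {g : Equiv.Perm GolayPt} (h : Rep P g) {i : ℕ} (hi : i < 24) :
    lk P i = gIdx (g (gPt i)) := by
  have := h (gPt i)
  rw [gIdx_gPt hi] at this
  exact this.symm

theorem lk_u5 {j : ℕ} (hj : j < 48) {i : ℕ} (hi : i < 5) : lk (fldG u5 j) i = i := by
  obtain ⟨u, hu, hru⟩ := u5_perm hj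
  rw [lk_of_rep hru (by omega), hu.2 i (by
    simp only [List.mem_cons, List.not_mem_nil, or_false]
    omega), gIdx_gPt (by omega)]

theorem coset_enum (H : Subgroup (Equiv.Perm GolayPt)) (K Dt DtI : ℕ) (valid test : ℕ → Bool)
    (hD : ∀ d < K, valid d = true →
      chkInv (fldG Dt d) (fldG DtI d) = true ∧ chkM24 (fldG Dt d) = true)
    (hcomplete : ∀ g ∈ H, g ∈ M24 ∧
      (∃ d < K, valid d = true ∧ ∀ i < 5, g (gPt i) = gPt (lk (fldG Dt d) i)) ∧
      ∀ P, Rep P g → test P = true) :
    ∀ g ∈ H, ∃ d < K, ∃ j < 48, valid d = true ∧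
      test (mulN (fldG Dt d) (fldG u5 j)) = true ∧ Rep (mulN (fldG Dt d) (fldG u5 j)) g := by
  intro g hg
  obtain ⟨hgM, ⟨d, hd, hv, himg⟩, htest⟩ := hcomplete g hg
  obtain ⟨a, b⟩ := hD d hd hv
  obtain ⟨j, hj, hr⟩ := coset5 a b hgM himg
  exact ⟨d, hd, j, hj, hv, htest _ hr, hr⟩

theorem dist_of_chk {K Dt : ℕ} {valid : ℕ → Bool}
    (h : allB (fun d => allB (fun d' => !(valid d) || (!(valid d') || (Nat.beq d d' ||
      differ5 (fldG Dt d) (fldG Dt d')))) K) K = true) :
    ∀ d < K, ∀ d' < K, valid d = true → valid d' = true →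
      differ5 (fldG Dt d) (fldG Dt d') = false → d = d' := by
  intro d hd d' hd' hv hv' hdf
  have h1 := (allB_iff _ _).mp ((allB_iff _ _).mp h d hd) d' hd'
  rw [hv, hv', hdf] at h1
  simp only [Bool.not_true, Bool.false_or, Bool.or_false] at h1
  exact Nat.eq_of_beq_eq_true h1

theorem coset_card (H : Subgroup (Equiv.Perm GolayPt)) (K Dt DtI : ℕ) (valid test : ℕ → Bool)
    (hD : ∀ d < K, valid d = true →
      chkInv (fldG Dt d) (fldG DtI d) = true ∧ chkM24 (fldG Dt d) = true)
    (hdist : ∀ d < K, ∀ d' < K, valid d = true → valid d' = true →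
      differ5 (fldG Dt d) (fldG Dt d') = false → d = d')
    (hsound : ∀ n < K * 48, candOK Dt valid test n = true →
      ∀ g ∈ M24, Rep (candT Dt n) g → g ∈ H)
    (hcomplete : ∀ g ∈ H, g ∈ M24 ∧
      (∃ d < K, valid d = true ∧ ∀ i < 5, g (gPt i) = gPt (lk (fldG Dt d) i)) ∧
      ∀ P, Rep P g → test P = true) :
    Nat.card H = sumB (fun d => countB (fun j => candOK Dt valid test (d * 48 + j)) 48) K := by
  have hspec : ∀ n, candOK Dt valid test n = true →
      valid (n / 48) = true ∧ test (candT Dt n) = true := by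
    intro n h
    unfold candOK at h
    rw [Bool.and_eq_true] at h
    exact h
  -- the permutations behind a passing candidate
  have hperm : ∀ n < K * 48, candOK Dt valid test n = true →
      ∃ a ∈ M24, ∃ u ∈ Stab [4, 3, 2, 1, 0], Rep (fldG Dt (n / 48)) a ∧
        Rep (fldG u5 (n % 48)) u ∧ Rep (candT Dt n) (a * u) := by
    intro n hn hp
    obtain ⟨hv, -⟩ := hspec n hp
    have hd : n / 48 < K := by
      rw [Nat.div_lt_iff_lt_mul (by norm_num)]
      exact hn
    obtain ⟨a, b⟩ := hD _ hd hv
    obtain ⟨u, hu, hru⟩ := u5_perm (Nat.mod_lt n (by norm_num : 0 < 48))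
    exact ⟨permOf _ _ a, permOf_mem_M24 _ _ a b, u, hu, rep_permOf _ _ a, hru,
      rep_mulN (rep_permOf _ _ a) hru⟩
  have h := card_of_pass H (K * 48) (candT Dt) (candOK Dt valid test)
    (fun n hn hp => by
      obtain ⟨a, ha, u, hu, -, -, hrep⟩ := hperm n hn hp
      exact ⟨a * u, hsound n hn hp _ (mul_mem ha hu.1) hrep, hrep⟩)
    (fun m hm n hn hpm hpn g hgm hgn => by
      obtain ⟨a, -, u, -, hra, hru, hrep⟩ := hperm m hm hpm
      obtain ⟨a', -, u', -, hra', hru', hrep'⟩ := hperm n hn hpn
      have e1 : g = a * u := rep_uniq hgm hrep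
      have e2 : g = a' * u' := rep_uniq hgn hrep'
      have hj : m % 48 < 48 := Nat.mod_lt _ (by norm_num)
      have hj' : n % 48 < 48 := Nat.mod_lt _ (by norm_num)
      have hd : m / 48 < K := by
        rw [Nat.div_lt_iff_lt_mul (by norm_num)]
        exact hm
      have hd' : n / 48 < K := by
        rw [Nat.div_lt_iff_lt_mul (by norm_num)]
        exact hn
      have hlk : ∀ i < 5, lk (fldG Dt (m / 48)) i = lk (fldG Dt (n / 48)) i := by
        intro i hi
        have h1 : lk (candT Dt m) i = lk (fldG Dt (m / 48)) i := by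
          show lk (mulN (fldG Dt (m / 48)) (fldG u5 (m % 48))) i = _
          rw [lk_mulN _ _ (by omega), lk_u5 hj hi]
        have h2 : lk (candT Dt n) i = lk (fldG Dt (n / 48)) i := by
          show lk (mulN (fldG Dt (n / 48)) (fldG u5 (n % 48))) i = _
          rw [lk_mulN _ _ (by omega), lk_u5 hj' hi]
        rw [← h1, ← h2, lk_of_rep hgm (by omega), lk_of_rep hgn (by omega)]
      have hdf : differ5 (fldG Dt (m / 48)) (fldG Dt (n / 48)) = false := by
        unfold differ5
        have : allB (fun i => Nat.beq (lk (fldG Dt (m / 48)) i) (lk (fldG Dt (n / 48)) i)) 5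
            = true := by
          rw [allB_iff]
          intro i hi
          rw [hlk i hi]
          exact Nat.beq_refl _
        rw [this]
        rfl
      have k3 : m / 48 = n / 48 :=
        hdist _ hd _ hd' (hspec m hpm).1 (hspec n hpn).1 hdf
      rw [k3] at hra
      have ea : a = a' := rep_uniq hra hra'
      have eu : u = u' := by
        rw [e1, ea] at e2
        exact mul_left_cancel e2
      rw [eu] at hru
      have hnd := not_differ_of_rep hru hru'
      have hne := (allB_iff _ _).mp ((allB_iff _ _).mp u5_ne (m % 48) hj) (n % 48) hj'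
      rw [hnd, Bool.or_false] at hne
      have k4 : m % 48 = n % 48 := Nat.eq_of_beq_eq_true hne
      omega)
    (fun g hg => by
      obtain ⟨d, hd, j, hj, hv, ht, hr⟩ := coset_enum H K Dt DtI valid test hD hcomplete g hg
      have e1 : (d * 48 + j) / 48 = d := by omega
      have e2 : (d * 48 + j) % 48 = j := by omega
      have hlt : d * 48 + j < K * 48 := by
        have : (d + 1) * 48 ≤ K * 48 := Nat.mul_le_mul_right 48 hd
        omega
      refine ⟨d * 48 + j, hlt, ?_, ?_⟩
      · show (valid ((d * 48 + j) / 48) &&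
          test (mulN (fldG Dt ((d * 48 + j) / 48)) (fldG u5 ((d * 48 + j) % 48)))) = true
        rw [e1, e2, hv, ht]
        rfl
      · show Rep (mulN (fldG Dt ((d * 48 + j) / 48)) (fldG u5 ((d * 48 + j) % 48))) g
        rw [e1, e2]
        exact hr)
  rw [h, countB_mul]

end Cfsg.Agent.H94
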