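import Mathlib
import Cfsg.Agent.H10.HO.Defs2

/-!
helper94: piece HO-HG for helper10 (S2075): an automorphism fixing `x, z, t` also fixes `n`,
hence is trivial.
-/

set_option autoImplicit false

namespace Cfsg.Agent.H94.Ho

open Cfsg.Agent.H10.HO

universe u

theorem hg_evS_fix {G : Type u} [Group G] (x z t : G) (β : MulAut G) (hx : β x = x) (hz : β z = z)
    (ht : β t = t) : ∀ w : List ℕ, β (evS x z t w) = evS x z t w := by
  intro w
  induction w with
  | nil => simp [evS]
  | cons a w ih =>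
    match a with
    | 0 => simp [evS, ih, hx]
    | 1 => simp [evS, ih, hx]
    | 2 => simp [evS, ih, hz]
    | 3 => simp [evS, ih, hz]
    | (m + 4) => simp [evS, ih, ht]

theorem hg_comm {G : Type u} [Group G] (n d : G) (β : MulAut G) (hd : β d = d)
    (hnd : β (n * d * n⁻¹) = n * d * n⁻¹) : n⁻¹ * β n * d = d * (n⁻¹ * β n) := by
  have h1 : β n * d * (β n)⁻¹ = n * d * n⁻¹ := by
    rw [← hnd, map_mul, map_mul, map_inv, hd]
  have h2 : β n * d = n * d * n⁻¹ * β n := by
    rw [← h1]; group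
  calc n⁻¹ * β n * d = n⁻¹ * (β n * d) := by group
    _ = n⁻¹ * (n * d * n⁻¹ * β n) := by rw [h2]
    _ = d * (n⁻¹ * β n) := by group

theorem hg : Cfsg.Agent.H10.HO.StHG.{u} := by
  intro G _ x z t n k D hC hnz hD h1 h2 hcl β hx hz ht
  have hev := hg_evS_fix x z t β hx hz ht
  have hcz : n⁻¹ * β n * z = z * (n⁻¹ * β n) := by
    apply hg_comm n z β hz
    rw [hnz, map_pow, hz]
  have hcd : ∀ p ∈ D, n⁻¹ * β n * evS x z t p.1 = evS x z t p.1 * (n⁻¹ * β n) := by
    intro p hp
    apply hg_comm n _ β (hev _)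
    rw [hD p hp, hev]
  have hw : n⁻¹ * β n = 1 := by
    obtain ⟨a, ha, h | h⟩ := hC _ hcz
    · rcases Nat.eq_zero_or_pos a with h0 | hpos
      · rw [h, h0, pow_zero]
      · exfalso
        obtain ⟨p, hp, hne⟩ := h1 a hpos ha
        apply hne
        have := hcd p hp
        rw [h] at this
        exact this
    · exfalso
      obtain ⟨p, hp, hne⟩ := h2 a ha
      apply hne
      have := hcd p hp
      rw [h] at this
      exact this
  have hn : β n = n := by
    have : β n = n * (n⁻¹ * β n) := by group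
    rw [this, hw, mul_one]
  have key : ∀ g : G, β g = g := by
    intro g
    have hg : g ∈ Subgroup.closure ({x, z, t, n} : Set G) := by rw [hcl]; trivial
    induction hg using Subgroup.closure_induction with
    | mem y hy =>
      simp only [Set.mem_insert_iff, Set.mem_singleton_iff] at hy
      rcases hy with rfl | rfl | rfl | rfl
      · exact hx
      · exact hz
      · exact ht
      · exact hn
    | one => exact map_one β
    | mul a b _ _ ha hb => rw [map_mul, ha, hb]
    | inv a _ ha => rw [map_inv, ha]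
  ext g
  simpa using key g

example : (∀ (G : Type u) [Group G] (x z t n : G) (k : ℕ) (D : List (List ℕ × List ℕ)),
  (∀ g : G, g * z = z * g → ∃ a : ℕ, a < 8 ∧ (g = z ^ a ∨ g = z ^ a * t)) →
  n * z * n⁻¹ = z ^ k →
  (∀ p ∈ D, n * evS x z t p.1 * n⁻¹ = evS x z t p.2) →
  (∀ a : ℕ, 0 < a → a < 8 → ∃ p ∈ D, z ^ a * evS x z t p.1 ≠ evS x z t p.1 * z ^ a) →
  (∀ a : ℕ, a < 8 → ∃ p ∈ D, z ^ a * t * evS x z t p.1 ≠ evS x z t p.1 * (z ^ a * t)) →
  Subgroup.closure {x, z, t, n} = ⊤ →
  ∀ β : MulAut G, β x = x → β z = z → β t = t → β = 1) := hg.{u}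

end Cfsg.Agent.H94.Ho

#print axioms Cfsg.Agent.H94.Ho.hg
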