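import Cfsg.Agent.H33.OctStab
import Cfsg.Agent.H9.M24b

/-!
# Orbit decompositions for subgroups of `M24` from kernel-checked forests (helper94)

* `chkForest step G ng F n roots`: a forest on the indices `k < n` of a canonical enumeration
  `obj`; the 32-bit entry `k` of `F` packs a parent index (`fpar`, 12 bits), a generator index
  (`fgen`, 4 bits), a depth (`fdep`, 8 bits) and a class label (`fcls`, 4 bits); depth-0 entries
  are the roots listed in `roots`.  `forest_sound` gives, for every `k`, an element of the subgroup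
  moving the root of its class to `obj k`.
* `orbit_decomp`, `Decomp`, `decomp_of_forest`: the orbit decomposition of an invariant set under a
  stabiliser in `M24`, from a forest and a separating invariant; `Decomp.smul` transports it to a
  conjugate stabiliser; `Decomp.three` / `Decomp.four` unpack it.
* `inv2 A B = ∑ s ∈ A, ∑ t ∈ B, |s ∩ t|^2`, an invariant of pairs of families of sets.
* `objOf L`: the family of the sets `fs m`, `m ∈ L`.
-/

set_option autoImplicit false

namespace Cfsg.Agent.H94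

open Cfsg Cfsg.Agent.H9 Cfsg.Agent.H33
open scoped Pointwise

/-! ### Forests -/

/-- the `j`-th 32-bit field of `E` -/
def fld32 (E j : ℕ) : ℕ := Nat.land (Nat.shiftRight E (Nat.mul 32 j)) 0xffffffff

/-- parent index of entry `k` -/
def fpar (F k : ℕ) : ℕ := Nat.land (fld32 F k) 0xfff

/-- generator index of entry `k` -/
def fgen (F k : ℕ) : ℕ := Nat.land (Nat.shiftRight (fld32 F k) 12) 0xf

/-- depth of entry `k` -/
def fdep (F k : ℕ) : ℕ := Nat.land (Nat.shiftRight (fld32 F k) 16) 0xff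

/-- class label of entry `k` -/
def fcls (F k : ℕ) : ℕ := Nat.land (Nat.shiftRight (fld32 F k) 24) 0xf

/-- forest check: entry `k` of depth `0` is the root of its class; otherwise its parent has smaller
depth and the same class, and the generator maps the parent object to the object `k`. -/
def chkForest (step : ℕ → ℕ → ℕ → Bool) (G ng F n : ℕ) (roots : List ℕ) : Bool :=
  allB (fun k =>
    cond (Nat.beq (fdep F k) 0)
      (Nat.beq (roots.getD (fcls F k) n) k)
      (Nat.blt (fpar F k) n && (Nat.blt (fgen F k) ng &&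
        (Nat.blt (fdep F (fpar F k)) (fdep F k) &&
          (Nat.beq (fcls F (fpar F k)) (fcls F k) &&
            step (fldG G (fgen F k)) (fpar F k) k))))) n

theorem forest_sound {Ω : Type*} [MulAction (Equiv.Perm GolayPt) Ω]
    (S : Subgroup (Equiv.Perm GolayPt)) (obj : ℕ → Ω) (step : ℕ → ℕ → ℕ → Bool) (n : ℕ)
    (hstep : ∀ P g p k, g ∈ S → Rep P g → p < n → k < n → step P p k = true →
      g • obj p = obj k)
    (G ng F : ℕ) (roots : List ℕ) (hG : ∀ i < ng, ∃ g ∈ S, Rep (fldG G i) g)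
    (h : chkForest step G ng F n roots = true) :
    ∀ k < n, fcls F k < roots.length ∧
      ∃ g ∈ S, g • obj (roots.getD (fcls F k) n) = obj k := by
  have key : ∀ d k, fdep F k = d → k < n → (fcls F k < roots.length ∧
      ∃ g ∈ S, g • obj (roots.getD (fcls F k) n) = obj k) := by
    intro d
    induction d using Nat.strong_induction_on with
    | _ d ih =>
      intro k hd hk
      have hc := (allB_iff _ _).mp h k hk
      by_cases h0 : fdep F k = 0
      · have hb : Nat.beq (fdep F k) 0 = true := by rw [h0]; rfl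
        rw [hb, cond_true] at hc
        have hr : roots.getD (fcls F k) n = k := Nat.eq_of_beq_eq_true hc
        have hlt : fcls F k < roots.length := by
          by_contra hge
          rw [List.getD_eq_default _ _ (by omega)] at hr
          omega
        exact ⟨hlt, 1, S.one_mem, by rw [hr, one_smul]⟩
      · have hb : Nat.beq (fdep F k) 0 = false := by
          cases hb : Nat.beq (fdep F k) 0
          · rfl
          · exact absurd (Nat.eq_of_beq_eq_true hb) h0
        rw [hb, cond_false] at hc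
        simp only [Bool.and_eq_true] at hc
        obtain ⟨hp, hg, hdep, hcl, hst⟩ := hc
        have hp' : fpar F k < n := by simpa [Nat.blt_eq] using hp
        have hg' : fgen F k < ng := by simpa [Nat.blt_eq] using hg
        have hdep' : fdep F (fpar F k) < fdep F k := by simpa [Nat.blt_eq] using hdep
        have hcl' : fcls F (fpar F k) = fcls F k := Nat.eq_of_beq_eq_true hcl
        obtain ⟨hlt, g₁, hg₁, e₁⟩ := ih _ (hd ▸ hdep') (fpar F k) rfl hp'
        obtain ⟨g₂, hg₂, hrep⟩ := hG _ hg'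
        rw [hcl'] at hlt e₁
        refine ⟨hlt, g₂ * g₁, S.mul_mem hg₂ hg₁, ?_⟩
        rw [mul_smul, e₁]
        exact hstep _ _ _ _ hg₂ hrep hp' hk hst
  intro k hk
  exact key _ k rfl hk

/-! ### Abstract orbit decomposition -/

theorem orbit_decomp {H Ω : Type*} [Group H] [MulAction H Ω] (Z : Set Ω)
    (hZ : ∀ h : H, ∀ z ∈ Z, h • z ∈ Z) (n : ℕ) (obj : ℕ → Ω)
    (hsurj : ∀ z ∈ Z, ∃ k < n, obj k = z) (hmem : ∀ k < n, obj k ∈ Z)
    (hinj : ∀ j < n, ∀ k < n, obj j = obj k → j = k)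
    (m : ℕ) (cls : ℕ → ℕ) (root : ℕ → ℕ) (hroot : ∀ c < m, root c < n)
    (hcls : ∀ k < n, cls k < m ∧ obj k ∈ MulAction.orbit H (obj (root (cls k))))
    (inv : Ω → ℕ) (hinv : ∀ h : H, ∀ z, inv (h • z) = inv z)
    (hsep : ∀ c < m, ∀ c' < m, inv (obj (root c)) = inv (obj (root c')) → c = c') :
    (∀ c < m, (MulAction.orbit H (obj (root c))).ncard
        = ((Finset.range n).filter (fun k => cls k = c)).card) ∧
    (∀ z, z ∈ Z ↔ ∃ c < m, z ∈ MulAction.orbit H (obj (root c))) := by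
  have horbZ : ∀ c < m, ∀ z ∈ MulAction.orbit H (obj (root c)), z ∈ Z := by
    rintro c hc z ⟨h, rfl⟩
    exact hZ h _ (hmem _ (hroot c hc))
  have hinvorb : ∀ x z, z ∈ MulAction.orbit H x → inv z = inv x := by
    rintro x z ⟨h, rfl⟩
    exact hinv h x
  have horb : ∀ c < m, MulAction.orbit H (obj (root c))
      = obj '' (((Finset.range n).filter (fun k => cls k = c) : Finset ℕ) : Set ℕ) := by
    intro c hc
    ext z
    constructor
    · intro hz
      obtain ⟨k, hk, rfl⟩ := hsurj z (horbZ c hc z hz)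
      refine ⟨k, ?_, rfl⟩
      rw [Finset.mem_coe, Finset.mem_filter, Finset.mem_range]
      refine ⟨hk, ?_⟩
      obtain ⟨hck, hko⟩ := hcls k hk
      have e1 := hinvorb _ _ hz
      have e2 := hinvorb _ _ hko
      exact hsep _ hck _ hc (e2.symm.trans e1)
    · rintro ⟨k, hk, rfl⟩
      rw [Finset.mem_coe, Finset.mem_filter, Finset.mem_range] at hk
      have := (hcls k hk.1).2
      rwa [hk.2] at this
  refine ⟨fun c hc => ?_, fun z => ⟨fun hz => ?_, ?_⟩⟩
  · rw [horb c hc, Set.InjOn.ncard_image, Set.ncard_coe_finset]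
    intro j hj k hk hjk
    rw [Finset.mem_coe, Finset.mem_filter, Finset.mem_range] at hj hk
    exact hinj j hj.1 k hk.1 hjk
  · obtain ⟨k, hk, rfl⟩ := hsurj z hz
    exact ⟨cls k, (hcls k hk).1, (hcls k hk).2⟩
  · rintro ⟨c, hc, hz⟩
    exact horbZ c hc z hz

/-! ### Stabilisers in `M24` -/

section

variable {Ω Ω' : Type*} [MulAction (Equiv.Perm GolayPt) Ω] [MulAction (Equiv.Perm GolayPt) Ω']

theorem mem_orbit_stab (X : Ω) (x y : Ω') :
    y ∈ MulAction.orbit ↥(MulAction.stabilizer M24 X) x ↔ ∃ g ∈ M24, g • X = X ∧ g • x = y := by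
  constructor
  · rintro ⟨⟨⟨g, hg⟩, hgX⟩, rfl⟩
    exact ⟨g, hg, hgX, rfl⟩
  · rintro ⟨g, hg, hgX, rfl⟩
    exact ⟨⟨⟨g, hg⟩, hgX⟩, rfl⟩

theorem orbit_stab_smul (a : Equiv.Perm GolayPt) (ha : a ∈ M24) (X : Ω) (x : Ω') :
    MulAction.orbit ↥(MulAction.stabilizer M24 (a • X)) (a • x)
      = (fun y => a • y) '' MulAction.orbit ↥(MulAction.stabilizer M24 X) x := by
  ext y
  rw [mem_orbit_stab, Set.mem_image]
  constructor
  · rintro ⟨g, hg, hgX, rfl⟩
    refine ⟨(a⁻¹ * g * a) • x, ?_, ?_⟩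
    · rw [mem_orbit_stab]
      refine ⟨a⁻¹ * g * a, mul_mem (mul_mem (inv_mem ha) hg) ha, ?_, rfl⟩
      rw [mul_smul, mul_smul, hgX, inv_smul_smul]
    · simp only [mul_smul, smul_inv_smul]
  · rintro ⟨y', hy', rfl⟩
    rw [mem_orbit_stab] at hy'
    obtain ⟨g, hg, hgX, rfl⟩ := hy'
    refine ⟨a * g * a⁻¹, mul_mem (mul_mem ha hg) (inv_mem ha), ?_, ?_⟩
    · rw [mul_smul, mul_smul, inv_smul_smul, hgX]
    · rw [mul_smul, mul_smul, inv_smul_smul]

/-- the set `Z` is the union of `m` orbits of the stabiliser of `X`, of sizes `N 0, …, N (m-1)` -/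
def Decomp (X : Ω) (Z : Set Ω') (m : ℕ) (N : ℕ → ℕ) : Prop :=
  ∃ x : ℕ → Ω', (∀ c < m, x c ∈ Z) ∧
    (∀ c < m, (MulAction.orbit ↥(MulAction.stabilizer M24 X) (x c)).ncard = N c) ∧
    ∀ z, z ∈ Z ↔ ∃ c < m, z ∈ MulAction.orbit ↥(MulAction.stabilizer M24 X) (x c)

theorem Decomp.smul {X : Ω} {Z : Set Ω'} {m : ℕ} {N : ℕ → ℕ} (h : Decomp X Z m N)
    (hZ : ∀ g ∈ M24, ∀ z ∈ Z, g • z ∈ Z) {a : Equiv.Perm GolayPt} (ha : a ∈ M24) :
    Decomp (a • X) Z m N := by
  obtain ⟨x, hx, hN, hZx⟩ := h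
  refine ⟨fun c => a • x c, fun c hc => hZ a ha _ (hx c hc), fun c hc => ?_, fun z => ?_⟩
  · rw [orbit_stab_smul a ha, Set.ncard_image_of_injective _ (MulAction.injective a), hN c hc]
  · have hz : z ∈ Z ↔ a⁻¹ • z ∈ Z := by
      constructor
      · intro h1
        exact hZ _ (inv_mem ha) _ h1
      · intro h1
        have := hZ a ha _ h1
        rwa [smul_inv_smul] at this
    rw [hz, hZx]
    constructor
    · rintro ⟨c, hc, h1⟩
      refine ⟨c, hc, ?_⟩
      rw [orbit_stab_smul a ha]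
      exact ⟨a⁻¹ • z, h1, smul_inv_smul a z⟩
    · rintro ⟨c, hc, h1⟩
      refine ⟨c, hc, ?_⟩
      rw [orbit_stab_smul a ha] at h1
      obtain ⟨y, hy, rfl⟩ := h1
      simpa using hy

theorem Decomp.three {X : Ω} {Z : Set Ω'} {N : ℕ → ℕ} (h : Decomp X Z 3 N) :
    ∃ X₁ ∈ Z, ∃ X₂ ∈ Z, ∃ X₃ ∈ Z,
      (MulAction.orbit ↥(MulAction.stabilizer M24 X) X₁).ncard = N 0 ∧
      (MulAction.orbit ↥(MulAction.stabilizer M24 X) X₂).ncard = N 1 ∧
      (MulAction.orbit ↥(MulAction.stabilizer M24 X) X₃).ncard = N 2 ∧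
      Z = MulAction.orbit ↥(MulAction.stabilizer M24 X) X₁ ∪
        MulAction.orbit ↥(MulAction.stabilizer M24 X) X₂ ∪
        MulAction.orbit ↥(MulAction.stabilizer M24 X) X₃ := by
  obtain ⟨x, hx, hN, hZx⟩ := h
  refine ⟨x 0, hx 0 (by norm_num), x 1, hx 1 (by norm_num), x 2, hx 2 (by norm_num),
    hN 0 (by norm_num), hN 1 (by norm_num), hN 2 (by norm_num), ?_⟩
  ext z
  rw [hZx, Set.mem_union, Set.mem_union]
  constructor
  · rintro ⟨c, hc, h1⟩
    interval_cases c
    · exact Or.inl (Or.inl h1)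
    · exact Or.inl (Or.inr h1)
    · exact Or.inr h1
  · rintro ((h1 | h1) | h1)
    · exact ⟨0, by norm_num, h1⟩
    · exact ⟨1, by norm_num, h1⟩
    · exact ⟨2, by norm_num, h1⟩

theorem Decomp.four {X : Ω} {Z : Set Ω'} {N : ℕ → ℕ} (h : Decomp X Z 4 N) :
    ∃ X₁ ∈ Z, ∃ X₂ ∈ Z, ∃ X₃ ∈ Z, ∃ X₄ ∈ Z,
      (MulAction.orbit ↥(MulAction.stabilizer M24 X) X₁).ncard = N 0 ∧
      (MulAction.orbit ↥(MulAction.stabilizer M24 X) X₂).ncard = N 1 ∧
      (MulAction.orbit ↥(MulAction.stabilizer M24 X) X₃).ncard = N 2 ∧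
      (MulAction.orbit ↥(MulAction.stabilizer M24 X) X₄).ncard = N 3 ∧
      Z = MulAction.orbit ↥(MulAction.stabilizer M24 X) X₁ ∪
        MulAction.orbit ↥(MulAction.stabilizer M24 X) X₂ ∪
        MulAction.orbit ↥(MulAction.stabilizer M24 X) X₃ ∪
        MulAction.orbit ↥(MulAction.stabilizer M24 X) X₄ := by
  obtain ⟨x, hx, hN, hZx⟩ := h
  refine ⟨x 0, hx 0 (by norm_num), x 1, hx 1 (by norm_num), x 2, hx 2 (by norm_num),
    x 3, hx 3 (by norm_num),
    hN 0 (by norm_num), hN 1 (by norm_num), hN 2 (by norm_num), hN 3 (by norm_num), ?_⟩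
  ext z
  rw [hZx, Set.mem_union, Set.mem_union, Set.mem_union]
  constructor
  · rintro ⟨c, hc, h1⟩
    interval_cases c
    · exact Or.inl (Or.inl (Or.inl h1))
    · exact Or.inl (Or.inl (Or.inr h1))
    · exact Or.inl (Or.inr h1)
    · exact Or.inr h1
  · rintro (((h1 | h1) | h1) | h1)
    · exact ⟨0, by norm_num, h1⟩
    · exact ⟨1, by norm_num, h1⟩
    · exact ⟨2, by norm_num, h1⟩
    · exact ⟨3, by norm_num, h1⟩

/-- an orbit decomposition from a forest on a canonical enumeration and a separating invariant -/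
theorem decomp_of_forest (X : Ω) (Z : Set Ω') (hZ : ∀ g ∈ M24, ∀ z ∈ Z, g • z ∈ Z)
    (S : Subgroup (Equiv.Perm GolayPt)) (hS : ∀ g ∈ S, g ∈ M24 ∧ g • X = X)
    (obj : ℕ → Ω') (n : ℕ) (hsurj : ∀ z ∈ Z, ∃ k < n, obj k = z) (hmem : ∀ k < n, obj k ∈ Z)
    (hinj : ∀ j < n, ∀ k < n, obj j = obj k → j = k)
    (step : ℕ → ℕ → ℕ → Bool)
    (hstep : ∀ P g p k, g ∈ S → Rep P g → p < n → k < n → step P p k = true →
      g • obj p = obj k)
    (G ng F : ℕ) (roots : List ℕ) (hG : ∀ i < ng, ∃ g ∈ S, Rep (fldG G i) g)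
    (hF : chkForest step G ng F n roots = true) (hroots : ∀ r ∈ roots, r < n)
    (inv : Ω' → ℕ) (hinv : ∀ g ∈ M24, g • X = X → ∀ z, inv (g • z) = inv z)
    (hsep : ∀ c < roots.length, ∀ c' < roots.length,
      inv (obj (roots.getD c n)) = inv (obj (roots.getD c' n)) → c = c')
    (N : ℕ → ℕ) (hN : ∀ c < roots.length, countB (fun k => Nat.beq (fcls F k) c) n = N c) :
    Decomp X Z roots.length N := by
  have hfs := forest_sound S obj step n hstep G ng F roots hG hF
  have hrt : ∀ c < roots.length, roots.getD c n < n := by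
    intro c hc
    apply hroots
    rw [List.getD_eq_getElem _ _ hc]
    exact List.getElem_mem hc
  obtain ⟨h1, h2⟩ := orbit_decomp (H := ↥(MulAction.stabilizer M24 X)) Z
    (by
      rintro ⟨⟨g, hg⟩, hgX⟩ z hz
      exact hZ g hg z hz)
    n obj hsurj hmem hinj roots.length (fun k => fcls F k) (fun c => roots.getD c n) hrt
    (by
      intro k hk
      obtain ⟨hlt, g, hg, e⟩ := hfs k hk
      refine ⟨hlt, ?_⟩
      rw [mem_orbit_stab]
      exact ⟨g, (hS g hg).1, (hS g hg).2, e⟩)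
    inv
    (by
      rintro ⟨⟨g, hg⟩, hgX⟩ z
      exact hinv g hg hgX z)
    hsep
  refine ⟨fun c => obj (roots.getD c n), fun c hc => hmem _ (hrt c hc), fun c hc => ?_, h2⟩
  rw [h1 c hc, ← hN c hc, countB_eq]
  congr 1
  ext k
  simp only [Finset.mem_filter, Finset.mem_range]
  constructor
  · rintro ⟨hk, rfl⟩
    exact ⟨hk, Nat.beq_refl _⟩
  · rintro ⟨hk, hb⟩
    exact ⟨hk, Nat.eq_of_beq_eq_true hb⟩

end

/-! ### Families of sets given by lists of masks, and the invariant `inv2` -/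

/-- the family of the sets `fs m`, `m ∈ L` -/
def objOf (L : List ℕ) : Finset (Finset GolayPt) := (L.map fs).toFinset

theorem mem_objOf {L : List ℕ} {s : Finset GolayPt} : s ∈ objOf L ↔ ∃ m ∈ L, fs m = s := by
  simp [objOf]

theorem smul_objOf {P : ℕ} {g : Equiv.Perm GolayPt} (h : Rep P g) (L : List ℕ) :
    g • objOf L = objOf (L.map (imgN P)) := by
  ext s
  rw [Finset.mem_smul_finset, mem_objOf]
  constructor
  · rintro ⟨t, ht, rfl⟩
    obtain ⟨m, hm, rfl⟩ := mem_objOf.mp ht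
    exact ⟨imgN P m, List.mem_map_of_mem hm, (smul_fs h m).symm⟩
  · rintro ⟨m', hm', rfl⟩
    obtain ⟨m, hm, rfl⟩ := List.mem_map.mp hm'
    exact ⟨fs m, mem_objOf.mpr ⟨m, hm, rfl⟩, smul_fs h m⟩

/-- the masks of a list are below `2 ^ 24` and pairwise distinct -/
def okList (L : List ℕ) : Prop := (∀ m ∈ L, m < 2 ^ 24) ∧ L.Nodup

instance (L : List ℕ) : Decidable (okList L) := by unfold okList; infer_instance

theorem nodup_map_fs {L : List ℕ} (h : okList L) : (L.map fs).Nodup := by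
  refine List.Nodup.map_on ?_ h.2
  intro a ha b hb hab
  exact fs_inj (h.1 a ha) (h.1 b hb) hab

theorem card_objOf {L : List ℕ} (h : okList L) : (objOf L).card = L.length := by
  rw [objOf, List.toFinset_card_of_nodup (nodup_map_fs h), List.length_map]

/-- the invariant `∑ s ∈ A, ∑ t ∈ B, |s ∩ t|^2` -/
def inv2 (A B : Finset (Finset GolayPt)) : ℕ := ∑ s ∈ A, ∑ t ∈ B, (s ∩ t).card ^ 2

theorem inv2_smul (g : Equiv.Perm GolayPt) (A B : Finset (Finset GolayPt)) :
    inv2 (g • A) (g • B) = inv2 A B := by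
  unfold inv2
  have hA : g • A = A.image (fun s => g • s) := rfl
  have hB : g • B = B.image (fun s => g • s) := rfl
  rw [hA, Finset.sum_image (fun x _ y _ h => MulAction.injective g h)]
  apply Finset.sum_congr rfl
  intro s _
  rw [hB, Finset.sum_image (fun x _ y _ h => MulAction.injective g h)]
  apply Finset.sum_congr rfl
  intro t _
  rw [← Finset.smul_finset_inter, Finset.card_smul_finset]

/-- list version of `inv2` on masks -/
def inv2L (L L' : List ℕ) : ℕ :=
  (L.map (fun m => (L'.map (fun m' => (pcT (Nat.land m m')) ^ 2)).sum)).sum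

theorem inv2_objOf {L L' : List ℕ} (h : okList L) (h' : okList L') :
    inv2 (objOf L) (objOf L') = inv2L L L' := by
  unfold inv2 inv2L objOf
  rw [List.sum_toFinset _ (nodup_map_fs h), List.map_map]
  congr 1
  apply List.map_congr_left
  intro m _
  rw [Function.comp_apply, List.sum_toFinset _ (nodup_map_fs h'), List.map_map]
  congr 1
  apply List.map_congr_left
  intro m' _
  rw [Function.comp_apply, card_inter_fs]

/-! ### Generators of the stabiliser of a family of sets -/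

/-- the subgroup of `M24` stabilising the family `objOf L` -/
def stabL (L : List ℕ) : Subgroup (Equiv.Perm GolayPt) where
  carrier := {g | g ∈ M24 ∧ g • objOf L = objOf L}
  mul_mem' := by
    rintro a b ⟨ha, ha'⟩ ⟨hb, hb'⟩
    exact ⟨M24.mul_mem ha hb, by rw [mul_smul, hb', ha']⟩
  one_mem' := ⟨M24.one_mem, one_smul _ _⟩
  inv_mem' := by
    rintro a ⟨ha, ha'⟩
    exact ⟨M24.inv_mem ha, by rw [inv_smul_eq_iff, ha']⟩

theorem mem_stabL {L : List ℕ} {g : Equiv.Perm GolayPt} :
    g ∈ stabL L ↔ g ∈ M24 ∧ g • objOf L = objOf L := Iff.rfl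

/-- the packed generators lie in `M24` and permute the masks of `L` -/
def chkGensL (G GI ng : ℕ) (L : List ℕ) : Bool :=
  allB (fun i => chkInv (fldG G i) (fldG GI i) && (chkM24 (fldG G i) &&
    L.all (fun m => L.any (fun m' => Nat.beq (imgN (fldG G i) m) m')))) ng

theorem gensL_sound {G GI ng : ℕ} {L : List ℕ} (h : chkGensL G GI ng L = true) :
    ∀ i < ng, ∃ g ∈ stabL L, Rep (fldG G i) g := by
  intro i hi
  have h1 := (allB_iff _ _).mp h i hi
  simp only [Bool.and_eq_true] at h1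
  obtain ⟨a, b, c⟩ := h1
  refine ⟨permOf _ _ a, ⟨permOf_mem_M24 _ _ a b, ?_⟩, rep_permOf _ _ a⟩
  apply Finset.eq_of_subset_of_card_le
  · intro s hs
    rw [smul_objOf (rep_permOf _ _ a), mem_objOf] at hs
    obtain ⟨m', hm', rfl⟩ := hs
    obtain ⟨m, hm, rfl⟩ := List.mem_map.mp hm'
    have h2 := List.all_eq_true.mp c m hm
    obtain ⟨m'', hm'', h3⟩ := List.any_eq_true.mp h2
    rw [Nat.eq_of_beq_eq_true h3]
    exact mem_objOf.mpr ⟨m'', hm'', rfl⟩
  · rw [Finset.card_smul_finset]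

end Cfsg.Agent.H94
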