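import Cfsg.Agent.H94.ObjData
import Cfsg.Agent.H33.Sextet
import Cfsg.Agent.H33.Trio
import Cfsg.Agent.H33.Disj

/-!
# Canonical enumerations of octads, trios and sextets (helper94)

* `octObj k` (`k < 759`), `trioObj k` (`k < 3795`), `sextObj k` (`k < 1771`) enumerate the octads,
  trios and sextets of the length-24 code bijectively: `oct_enum`/`oct_inj`/`oct_mem`, and the
  same for `trio_*`, `sext_*`.
* `octStep`, `trioStep`, `sextStep`: kernel-friendly tests "the packed permutation maps object `p`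
  to object `k`", with soundness lemmas, to be used with `chkForest` / `decomp_of_forest`.
-/

set_option autoImplicit false

namespace Cfsg.Agent.H94

open Cfsg Cfsg.Agent.H9 Cfsg.Agent.H33
open scoped Pointwise

/-! ### generalities -/

theorem fld_lt (E j : ℕ) : fld E j < 2 ^ 24 := by
  unfold fld
  have h : Nat.land (Nat.shiftRight E (Nat.mul 24 j)) 0xffffff ≤ 0xffffff := Nat.and_le_right
  omega

theorem strict_of_adj (f : ℕ → ℕ) (n : ℕ) (h : ∀ k < n, k = 0 ∨ f (k - 1) < f k) :
    ∀ j k, j < k → k < n → f j < f k := by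
  intro j k hjk
  induction k with
  | zero => omega
  | succ k ih =>
    intro hk
    rcases h (k + 1) hk with h0 | h1
    · omega
    · rw [Nat.add_sub_cancel] at h1
      rcases Nat.lt_succ_iff_lt_or_eq.mp hjk with h2 | rfl
      · exact lt_trans (ih h2 (by omega)) h1
      · exact h1

theorem inj_of_strict (f : ℕ → ℕ) (n : ℕ) (h : ∀ j k, j < k → k < n → f j < f k) :
    ∀ j < n, ∀ k < n, f j = f k → j = k := by
  intro j hj k hk hjk
  by_contra hne
  rcases Nat.lt_or_gt_of_ne hne with h1 | h1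
  · have := h j k h1 hk
    omega
  · have := h k j h1 hj
    omega

/-- an injective list of `n` members of a set of size `n` exhausts the set -/
theorem enum_surj {Ω : Type*} (Z : Set Ω) (hfin : Z.Finite) (n : ℕ) (obj : ℕ → Ω)
    (hmem : ∀ k < n, obj k ∈ Z) (hinj : ∀ j < n, ∀ k < n, obj j = obj k → j = k)
    (hcard : Z.ncard = n) : ∀ z ∈ Z, ∃ k < n, obj k = z := by
  have himg : obj '' ((Finset.range n : Finset ℕ) : Set ℕ) = Z := by
    apply Set.eq_of_subset_of_ncard_le
    · rintro _ ⟨k, hk, rfl⟩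
      exact hmem k (Finset.mem_range.mp hk)
    · rw [Set.InjOn.ncard_image, Set.ncard_coe_finset, Finset.card_range, hcard]
      intro j hj k hk hjk
      exact hinj j (Finset.mem_range.mp hj) k (Finset.mem_range.mp hk) hjk
    · exact hfin
  intro z hz
  rw [← himg] at hz
  obtain ⟨k, hk, rfl⟩ := hz
  exact ⟨k, Finset.mem_range.mp hk, rfl⟩

/-- a symmetric test holds for all pairs of positions of a list -/
def pairAll (R : ℕ → ℕ → Bool) : List ℕ → Bool
  | [] => true
  | m :: L => L.all (fun m' => R m m') && pairAll R L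

theorem pairAll_spec (R : ℕ → ℕ → Bool) (hR : ∀ a b, R a b = R b a) (L : List ℕ)
    (h : pairAll R L = true) : ∀ a ∈ L, ∀ b ∈ L, a ≠ b → R a b = true := by
  induction L with
  | nil => intro a ha; cases ha
  | cons m L ih =>
    simp only [pairAll, Bool.and_eq_true] at h
    intro a ha b hb hab
    rcases List.mem_cons.mp ha with ha1 | ha1
    · rcases List.mem_cons.mp hb with hb1 | hb1
      · exact absurd (ha1.trans hb1.symm) hab
      · rw [ha1]
        exact List.all_eq_true.mp h.1 b hb1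
    · rcases List.mem_cons.mp hb with hb1 | hb1
      · rw [hb1, hR]
        exact List.all_eq_true.mp h.1 a ha1
      · exact ih h.2 a ha1 b hb1 hab

theorem fs_land_eq_zero {a b : ℕ} (h : Nat.land a b = 0) : Disjoint (fs a) (fs b) := by
  rw [Finset.disjoint_iff_inter_eq_empty]
  have h2 : fs (a &&& b) = fs a ∩ fs b := fs_and a b
  rw [← h2]
  have h3 : a &&& b = 0 := h
  rw [h3, fs_zero]

theorem smul_mem_trios {g : Equiv.Perm GolayPt} (hg : g ∈ M24) {T : Finset (Finset GolayPt)}
    (hT : T ∈ trios) : g • T ∈ trios := by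
  refine ⟨by rw [Finset.card_smul_finset]; exact hT.1, ?_, ?_⟩
  · intro o ho
    rw [Finset.mem_smul_finset] at ho
    obtain ⟨o', ho', rfl⟩ := ho
    exact m24_smul_mem_octads hg (hT.2.1 o' ho')
  · intro o ho o' ho' hne
    rw [Finset.mem_smul_finset] at ho ho'
    obtain ⟨a, ha, rfl⟩ := ho
    obtain ⟨b, hb, rfl⟩ := ho'
    have hab : a ≠ b := by
      rintro rfl
      exact hne rfl
    have hd := hT.2.2 a ha b hb hab
    rw [Finset.disjoint_iff_inter_eq_empty] at hd ⊢
    have e : g • a ∩ g • b = g • (a ∩ b) := (Finset.smul_finset_inter).symm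
    rw [e, hd, Finset.smul_finset_empty]

theorem smul_mem_sextets {g : Equiv.Perm GolayPt} (hg : g ∈ M24) {S : Finset (Finset GolayPt)}
    (hS : S ∈ sextets) : g • S ∈ sextets := by
  refine ⟨by rw [Finset.card_smul_finset]; exact hS.1, ?_, ?_⟩
  · intro t ht
    rw [Finset.mem_smul_finset] at ht
    obtain ⟨t', ht', rfl⟩ := ht
    rw [Finset.card_smul_finset]
    exact hS.2.1 t' ht'
  · intro t ht u hu hne
    rw [Finset.mem_smul_finset] at ht hu
    obtain ⟨a, ha, rfl⟩ := ht
    obtain ⟨b, hb, rfl⟩ := hu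
    have hab : a ≠ b := by
      rintro rfl
      exact hne rfl
    have e : g • a ∪ g • b = g • (a ∪ b) := (Finset.smul_finset_union).symm
    rw [e]
    exact m24_smul_mem_octads hg (hS.2.2 a ha b hb hab)

/-! ### octads -/

/-- the `k`-th octad -/
def octObj (k : ℕ) : Finset GolayPt := fs (fld octC k)

def chkOct : Bool :=
  allB (fun k => isGolay (fld octC k) && (Nat.beq (pcT (fld octC k)) 8 &&
    (Nat.beq k 0 || Nat.blt (fld octC (Nat.sub k 1)) (fld octC k)))) 759

theorem chkOct_ok : chkOct = true := by decide +kernel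

theorem oct_spec (k : ℕ) (hk : k < 759) : isGolay (fld octC k) = true ∧ pcT (fld octC k) = 8 ∧
    (k = 0 ∨ fld octC (k - 1) < fld octC k) := by
  have h := (allB_iff _ _).mp chkOct_ok k hk
  simp only [Bool.and_eq_true, Bool.or_eq_true] at h
  obtain ⟨h1, h2, h3⟩ := h
  refine ⟨h1, Nat.eq_of_beq_eq_true h2, ?_⟩
  rcases h3 with h3 | h3
  · exact Or.inl (Nat.eq_of_beq_eq_true h3)
  · right
    simpa [Nat.blt_eq] using h3

theorem oct_mem (k : ℕ) (hk : k < 759) : octObj k ∈ octads :=
  fs_mem_octads (oct_spec k hk).1 (oct_spec k hk).2.1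

theorem oct_inj : ∀ j < 759, ∀ k < 759, octObj j = octObj k → j = k := by
  intro j hj k hk h
  have h1 : fld octC j = fld octC k := fs_inj (fld_lt _ _) (fld_lt _ _) h
  exact inj_of_strict (fun k => fld octC k) 759
    (strict_of_adj _ 759 (fun k hk => (oct_spec k hk).2.2)) j hj k hk h1

theorem oct_enum : ∀ o ∈ octads, ∃ k < 759, octObj k = o :=
  enum_surj octads (Set.toFinite _) 759 octObj oct_mem oct_inj octads_ncard

/-- the packed permutation `P` maps the octad `p` to the octad `k` -/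
def octStep (P p k : ℕ) : Bool := Nat.beq (imgN P (fld octC p)) (fld octC k)

theorem octStep_sound {P : ℕ} {g : Equiv.Perm GolayPt} {p k : ℕ} (h : Rep P g)
    (hs : octStep P p k = true) : g • octObj p = octObj k := by
  unfold octObj
  rw [smul_fs h, Nat.eq_of_beq_eq_true hs]

/-! ### trios -/

/-- the third mask of a trio -/
def tc (a b : ℕ) : ℕ := Nat.xor (Nat.xor 0xffffff a) b

theorem tc_lt {a b : ℕ} (ha : a < 2 ^ 24) (hb : b < 2 ^ 24) : tc a b < 2 ^ 24 := by
  unfold tc
  exact Nat.xor_lt_two_pow (Nat.xor_lt_two_pow (by norm_num) ha) hb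

/-- the masks of the `k`-th trio -/
def trioL (k : ℕ) : List ℕ := [fld trioA k, fld trioB k, tc (fld trioA k) (fld trioB k)]

/-- the `k`-th trio -/
def trioObj (k : ℕ) : Finset (Finset GolayPt) := objOf (trioL k)

def trioKey (k : ℕ) : ℕ := Nat.add (Nat.mul (fld trioA k) 16777216) (fld trioB k)

def octB (m : ℕ) : Bool := isGolay m && Nat.beq (pcT m) 8

def trioOK (a b c : ℕ) : Bool :=
  octB a && (octB b && (octB c && (Nat.beq (Nat.land a b) 0 && (Nat.beq (Nat.land a c) 0 &&
    (Nat.beq (Nat.land b c) 0 && (Nat.blt a b && Nat.blt b c))))))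

def chkTrio : Bool :=
  allB (fun k => trioOK (fld trioA k) (fld trioB k) (tc (fld trioA k) (fld trioB k)) &&
    (Nat.beq k 0 || Nat.blt (trioKey (Nat.sub k 1)) (trioKey k))) 3795

theorem chkTrio_ok : chkTrio = true := by decide +kernel

theorem octB_spec {m : ℕ} (h : octB m = true) : fs m ∈ octads := by
  unfold octB at h
  rw [Bool.and_eq_true] at h
  exact fs_mem_octads h.1 (Nat.eq_of_beq_eq_true h.2)

theorem trio_spec (k : ℕ) (hk : k < 3795) :
    (fs (fld trioA k) ∈ octads ∧ fs (fld trioB k) ∈ octads ∧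
      fs (tc (fld trioA k) (fld trioB k)) ∈ octads) ∧
    (Nat.land (fld trioA k) (fld trioB k) = 0 ∧
      Nat.land (fld trioA k) (tc (fld trioA k) (fld trioB k)) = 0 ∧
      Nat.land (fld trioB k) (tc (fld trioA k) (fld trioB k)) = 0) ∧
    (fld trioA k < fld trioB k ∧ fld trioB k < tc (fld trioA k) (fld trioB k)) ∧
    (k = 0 ∨ trioKey (k - 1) < trioKey k) := by
  have h := (allB_iff _ _).mp chkTrio_ok k hk
  simp only [trioOK, Bool.and_eq_true, Bool.or_eq_true] at h
  obtain ⟨⟨h1, h2, h3, h4, h5, h6, h7, h8⟩, h9⟩ := h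
  refine ⟨⟨octB_spec h1, octB_spec h2, octB_spec h3⟩,
    ⟨Nat.eq_of_beq_eq_true h4, Nat.eq_of_beq_eq_true h5, Nat.eq_of_beq_eq_true h6⟩,
    ⟨by simpa [Nat.blt_eq] using h7, by simpa [Nat.blt_eq] using h8⟩, ?_⟩
  rcases h9 with h9 | h9
  · exact Or.inl (Nat.eq_of_beq_eq_true h9)
  · right
    simpa [Nat.blt_eq] using h9

theorem trioL_ok (k : ℕ) (hk : k < 3795) : okList (trioL k) := by
  obtain ⟨-, -, ⟨h1, h2⟩, -⟩ := trio_spec k hk
  refine ⟨?_, ?_⟩
  · intro m hm
    simp only [trioL, List.mem_cons, List.not_mem_nil, or_false] at hm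
    rcases hm with rfl | rfl | rfl
    · exact fld_lt _ _
    · exact fld_lt _ _
    · exact tc_lt (fld_lt _ _) (fld_lt _ _)
  · simp only [trioL, List.nodup_cons, List.mem_cons, List.not_mem_nil, or_false,
      not_false_eq_true, List.nodup_nil, and_true]
    omega

theorem mem_trioObj {k : ℕ} {s : Finset GolayPt} : s ∈ trioObj k ↔
    s = fs (fld trioA k) ∨ s = fs (fld trioB k) ∨ s = fs (tc (fld trioA k) (fld trioB k)) := by
  unfold trioObj
  rw [mem_objOf]
  simp only [trioL, List.mem_cons, List.not_mem_nil, or_false]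
  constructor
  · rintro ⟨m, rfl | rfl | rfl, rfl⟩
    · exact Or.inl rfl
    · exact Or.inr (Or.inl rfl)
    · exact Or.inr (Or.inr rfl)
  · rintro (rfl | rfl | rfl)
    · exact ⟨_, Or.inl rfl, rfl⟩
    · exact ⟨_, Or.inr (Or.inl rfl), rfl⟩
    · exact ⟨_, Or.inr (Or.inr rfl), rfl⟩

theorem trio_mem (k : ℕ) (hk : k < 3795) : trioObj k ∈ trios := by
  obtain ⟨⟨o1, o2, o3⟩, ⟨d1, d2, d3⟩, -, -⟩ := trio_spec k hk
  refine ⟨?_, ?_, ?_⟩
  · unfold trioObj
    rw [card_objOf (trioL_ok k hk)]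
    rfl
  · intro o ho
    rcases mem_trioObj.mp ho with rfl | rfl | rfl
    · exact o1
    · exact o2
    · exact o3
  · intro o ho o' ho' hne
    rcases mem_trioObj.mp ho with rfl | rfl | rfl <;>
      rcases mem_trioObj.mp ho' with rfl | rfl | rfl
    · exact absurd rfl hne
    · exact fs_land_eq_zero d1
    · exact fs_land_eq_zero d2
    · exact (fs_land_eq_zero d1).symm
    · exact absurd rfl hne
    · exact fs_land_eq_zero d3
    · exact (fs_land_eq_zero d2).symm
    · exact (fs_land_eq_zero d3).symm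
    · exact absurd rfl hne

theorem mem_trioL_of_fs {k : ℕ} (hk : k < 3795) {m : ℕ} (hm : m < 2 ^ 24)
    (h : fs m ∈ trioObj k) : m ∈ trioL k := by
  unfold trioObj at h
  rw [mem_objOf] at h
  obtain ⟨m', hm', e⟩ := h
  have := fs_inj ((trioL_ok k hk).1 m' hm') hm e
  rwa [← this]

theorem trio_inj : ∀ j < 3795, ∀ k < 3795, trioObj j = trioObj k → j = k := by
  intro j hj k hk h
  obtain ⟨-, -, ⟨j1, j2⟩, -⟩ := trio_spec j hj
  obtain ⟨-, -, ⟨k1, k2⟩, -⟩ := trio_spec k hk
  have ha : ∀ m ∈ trioL j, m ∈ trioL k := by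
    intro m hm
    apply mem_trioL_of_fs hk ((trioL_ok j hj).1 m hm)
    rw [← h]
    exact mem_objOf.mpr ⟨m, hm, rfl⟩
  have hb : ∀ m ∈ trioL k, m ∈ trioL j := by
    intro m hm
    apply mem_trioL_of_fs hj ((trioL_ok k hk).1 m hm)
    rw [h]
    exact mem_objOf.mpr ⟨m, hm, rfl⟩
  have a1 := ha (fld trioA j) (by simp [trioL])
  have a2 := ha (fld trioB j) (by simp [trioL])
  have a3 := ha (tc (fld trioA j) (fld trioB j)) (by simp [trioL])
  have b1 := hb (fld trioA k) (by simp [trioL])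
  have b2 := hb (fld trioB k) (by simp [trioL])
  have b3 := hb (tc (fld trioA k) (fld trioB k)) (by simp [trioL])
  simp only [trioL, List.mem_cons, List.not_mem_nil, or_false] at a1 a2 a3 b1 b2 b3
  have e1 : fld trioA j = fld trioA k := by omega
  have e2 : fld trioB j = fld trioB k := by omega
  have hkey : trioKey j = trioKey k := by
    unfold trioKey
    rw [e1, e2]
  exact inj_of_strict trioKey 3795
    (strict_of_adj _ 3795 (fun k hk => (trio_spec k hk).2.2.2)) j hj k hk hkey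

theorem trios_ncard' : trios.ncard = 3795 := trios_ncard hS (disjHyp_of hW hS)

theorem trio_enum : ∀ T ∈ trios, ∃ k < 3795, trioObj k = T :=
  enum_surj trios (Set.toFinite _) 3795 trioObj trio_mem trio_inj trios_ncard'

/-- the packed permutation `P` maps the trio `p` to the trio `k` -/
def trioStep (P p k : ℕ) : Bool :=
  (trioL p).any (fun m => Nat.beq (imgN P m) (fld trioA k)) &&
    (trioL p).any (fun m => Nat.beq (imgN P m) (fld trioB k))

theorem trioStep_sound {P : ℕ} {g : Equiv.Perm GolayPt} {p k : ℕ} (hg : g ∈ M24) (h : Rep P g)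
    (hp : p < 3795) (hk : k < 3795) (hs : trioStep P p k = true) :
    g • trioObj p = trioObj k := by
  unfold trioStep at hs
  rw [Bool.and_eq_true] at hs
  obtain ⟨m1, hm1, e1⟩ := List.any_eq_true.mp hs.1
  obtain ⟨m2, hm2, e2⟩ := List.any_eq_true.mp hs.2
  have hT1 : g • trioObj p ∈ trios := smul_mem_trios hg (trio_mem p hp)
  have hT2 := trio_mem k hk
  have ha1 : fs (fld trioA k) ∈ g • trioObj p := by
    rw [← Nat.eq_of_beq_eq_true e1, ← smul_fs h]
    exact Finset.smul_mem_smul_finset (mem_objOf.mpr ⟨m1, hm1, rfl⟩)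
  have hb1 : fs (fld trioB k) ∈ g • trioObj p := by
    rw [← Nat.eq_of_beq_eq_true e2, ← smul_fs h]
    exact Finset.smul_mem_smul_finset (mem_objOf.mpr ⟨m2, hm2, rfl⟩)
  have ha2 : fs (fld trioA k) ∈ trioObj k := mem_trioObj.mpr (Or.inl rfl)
  have hb2 : fs (fld trioB k) ∈ trioObj k := mem_trioObj.mpr (Or.inr (Or.inl rfl))
  have hne : fs (fld trioA k) ≠ fs (fld trioB k) := by
    intro hc
    have := fs_inj (fld_lt _ _) (fld_lt _ _) hc
    have := (trio_spec k hk).2.2.1.1
    omega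
  rw [trio_eq hT1 ha1 hb1 hne, trio_eq hT2 ha2 hb2 hne]

/-! ### sextets -/

/-- the masks of the six tetrads of the `k`-th sextet -/
def sextL (k : ℕ) : List ℕ :=
  [fld sextF (Nat.mul 6 k), fld sextF (Nat.add (Nat.mul 6 k) 1),
    fld sextF (Nat.add (Nat.mul 6 k) 2), fld sextF (Nat.add (Nat.mul 6 k) 3),
    fld sextF (Nat.add (Nat.mul 6 k) 4), fld sextF (Nat.add (Nat.mul 6 k) 5)]

/-- the `k`-th sextet -/
def sextObj (k : ℕ) : Finset (Finset GolayPt) := objOf (sextL k)

/-- two tetrad masks are disjoint with an octad as union -/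
def tetR (a b : ℕ) : Bool :=
  isGolay (Nat.lor a b) && (Nat.beq (pcT (Nat.lor a b)) 8 && Nat.beq (Nat.land a b) 0)

def chkSext : Bool :=
  allB (fun k => (sextL k).all (fun m => Nat.beq (pcT m) 4) && (pairAll tetR (sextL k) &&
    (Nat.beq (Nat.land (fld sextF (Nat.mul 6 k)) 1) 1 &&
      (Nat.beq k 0 ||
        Nat.blt (fld sextF (Nat.mul 6 (Nat.sub k 1))) (fld sextF (Nat.mul 6 k)))))) 1771

theorem chkSext_ok : chkSext = true := by decide +kernel

theorem tetR_symm (a b : ℕ) : tetR a b = tetR b a := by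
  unfold tetR
  have h1 : Nat.lor a b = Nat.lor b a := Nat.or_comm a b
  have h2 : Nat.land a b = Nat.land b a := Nat.and_comm a b
  rw [h1, h2]

theorem sext_spec (k : ℕ) (hk : k < 1771) :
    (∀ m ∈ sextL k, pcT m = 4) ∧
    (∀ a ∈ sextL k, ∀ b ∈ sextL k, a ≠ b → tetR a b = true) ∧
    (fld sextF (Nat.mul 6 k)).testBit 0 = true ∧
    (k = 0 ∨ fld sextF (Nat.mul 6 (k - 1)) < fld sextF (Nat.mul 6 k)) := by
  have h := (allB_iff _ _).mp chkSext_ok k hk
  simp only [Bool.and_eq_true, Bool.or_eq_true] at h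
  obtain ⟨h1, h2, h3, h4⟩ := h
  refine ⟨fun m hm => Nat.eq_of_beq_eq_true (List.all_eq_true.mp h1 m hm),
    pairAll_spec tetR tetR_symm _ h2, ?_, ?_⟩
  · have h5 : Nat.land (fld sextF (Nat.mul 6 k)) 1 = 1 := Nat.eq_of_beq_eq_true h3
    rw [land_one_eq] at h5
    rw [Nat.testBit_zero]
    simpa using h5
  · rcases h4 with h4 | h4
    · exact Or.inl (Nat.eq_of_beq_eq_true h4)
    · right
      simpa [Nat.blt_eq] using h4

theorem tetR_spec {a b : ℕ} (h : tetR a b = true) :
    fs a ∪ fs b ∈ octads ∧ Nat.land a b = 0 := by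
  unfold tetR at h
  simp only [Bool.and_eq_true] at h
  obtain ⟨h1, h2, h3⟩ := h
  refine ⟨?_, Nat.eq_of_beq_eq_true h3⟩
  have e : fs (a ||| b) = fs a ∪ fs b := fs_or a b
  rw [← e]
  exact fs_mem_octads h1 (Nat.eq_of_beq_eq_true h2)

theorem pcT_pos_ne {a : ℕ} (h : pcT a = 4) : a ≠ 0 := by
  rintro rfl
  revert h
  decide +kernel

theorem sextL_lt (k : ℕ) : ∀ m ∈ sextL k, m < 2 ^ 24 := by
  intro m hm
  simp only [sextL, List.mem_cons, List.not_mem_nil, or_false] at hm
  rcases hm with rfl | rfl | rfl | rfl | rfl | rfl <;> exact fld_lt _ _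

theorem sextL_pair (k : ℕ) (hk : k < 1771) :
    (sextL k).Pairwise (fun a b => a ≠ b) := by
  have h := (allB_iff _ _).mp chkSext_ok k hk
  simp only [Bool.and_eq_true] at h
  obtain ⟨h1, h2, -⟩ := h
  have hpc : ∀ m ∈ sextL k, pcT m = 4 :=
    fun m hm => Nat.eq_of_beq_eq_true (List.all_eq_true.mp h1 m hm)
  have key : ∀ L : List ℕ, (∀ m ∈ L, pcT m = 4) → pairAll tetR L = true →
      L.Pairwise (fun a b => a ≠ b) := by
    intro L
    induction L with
    | nil => intro _ _; exact List.Pairwise.nil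
    | cons m L ih =>
      intro hp hq
      simp only [pairAll, Bool.and_eq_true] at hq
      refine List.Pairwise.cons ?_ (ih (fun x hx => hp x (List.mem_cons_of_mem _ hx)) hq.2)
      intro b hb hmb
      have h3 := (tetR_spec (List.all_eq_true.mp hq.1 b hb)).2
      rw [← hmb] at h3
      have h4 : Nat.land m m = m := Nat.and_self m
      rw [h4] at h3
      exact pcT_pos_ne (hp m (List.mem_cons_self ..)) h3
  exact key _ hpc h2

theorem sextL_ok (k : ℕ) (hk : k < 1771) : okList (sextL k) :=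
  ⟨sextL_lt k, sextL_pair k hk⟩

theorem sext_mem (k : ℕ) (hk : k < 1771) : sextObj k ∈ sextets := by
  obtain ⟨h1, h2, -, -⟩ := sext_spec k hk
  refine ⟨?_, ?_, ?_⟩
  · unfold sextObj
    rw [card_objOf (sextL_ok k hk)]
    rfl
  · intro t ht
    obtain ⟨m, hm, rfl⟩ := mem_objOf.mp ht
    rw [card_fs']
    exact h1 m hm
  · intro t ht u hu hne
    obtain ⟨a, ha, rfl⟩ := mem_objOf.mp ht
    obtain ⟨b, hb, rfl⟩ := mem_objOf.mp hu
    have hab : a ≠ b := by
      rintro rfl
      exact hne rfl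
    exact (tetR_spec (h2 a ha b hb hab)).1

theorem sext_head_mem (k : ℕ) : fld sextF (Nat.mul 6 k) ∈ sextL k := by
  simp [sextL]

theorem sext_inj : ∀ j < 1771, ∀ k < 1771, sextObj j = sextObj k → j = k := by
  intro j hj k hk h
  obtain ⟨-, h2, h3, -⟩ := sext_spec k hk
  obtain ⟨-, -, h3', -⟩ := sext_spec j hj
  have hmem : fs (fld sextF (Nat.mul 6 j)) ∈ sextObj k := by
    rw [← h]
    exact mem_objOf.mpr ⟨_, sext_head_mem j, rfl⟩
  obtain ⟨m, hm, e⟩ := mem_objOf.mp hmem
  have hmeq : m = fld sextF (Nat.mul 6 j) := fs_inj (sextL_lt k m hm) (fld_lt _ _) e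
  have hhead : fld sextF (Nat.mul 6 j) = fld sextF (Nat.mul 6 k) := by
    by_contra hne
    have h4 := (tetR_spec (h2 m hm _ (sext_head_mem k) (by rw [hmeq]; exact hne))).2
    rw [hmeq] at h4
    have h5 : (Nat.land (fld sextF (Nat.mul 6 j)) (fld sextF (Nat.mul 6 k))).testBit 0 = true := by
      have : (fld sextF (Nat.mul 6 j) &&& fld sextF (Nat.mul 6 k)).testBit 0
          = ((fld sextF (Nat.mul 6 j)).testBit 0 && (fld sextF (Nat.mul 6 k)).testBit 0) :=
        Nat.testBit_and _ _ _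
      rw [h3, h3'] at this
      exact this
    rw [h4] at h5
    simp at h5
  exact inj_of_strict (fun k => fld sextF (Nat.mul 6 k)) 1771
    (strict_of_adj _ 1771 (fun k hk => (sext_spec k hk).2.2.2)) j hj k hk hhead

theorem sext_enum : ∀ S ∈ sextets, ∃ k < 1771, sextObj k = S :=
  enum_surj sextets (Set.toFinite _) 1771 sextObj sext_mem sext_inj (sextets_ncard hW hS)

/-- the packed permutation `P` maps the sextet `p` to the sextet `k` -/
def sextStep (P p k : ℕ) : Bool :=
  (sextL k).any (fun m => Nat.beq (imgN P (fld sextF (Nat.mul 6 p))) m)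

theorem sextStep_sound {P : ℕ} {g : Equiv.Perm GolayPt} {p k : ℕ} (hg : g ∈ M24) (h : Rep P g)
    (hp : p < 1771) (hk : k < 1771) (hs : sextStep P p k = true) :
    g • sextObj p = sextObj k := by
  obtain ⟨m, hm, e⟩ := List.any_eq_true.mp hs
  have e' : imgN P (fld sextF (Nat.mul 6 p)) = m := Nat.eq_of_beq_eq_true e
  have hS1 : g • sextObj p ∈ sextets := smul_mem_sextets hg (sext_mem p hp)
  have hS2 := sext_mem k hk
  have h1 : fs m ∈ g • sextObj p := by
    rw [← e', ← smul_fs h]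
    exact Finset.smul_mem_smul_finset (mem_objOf.mpr ⟨_, sext_head_mem p, rfl⟩)
  have h2 : fs m ∈ sextObj k := mem_objOf.mpr ⟨m, hm, rfl⟩
  have h4 : (fs m).card = 4 := hS2.2.1 _ h2
  rw [sextet_eq_sextetOf hS (fs m) h4 _ hS1 h1, sextet_eq_sextetOf hS (fs m) h4 _ hS2 h2]

end Cfsg.Agent.H94
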