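import Cfsg.Agent.H94.DOut24

/-!
# Normalising an automorphism of a subgroup of `M24` containing `x ↦ x + 1` and `x ↦ 2 x`
(helper94)

Let `K ≤ M24` contain `tE : x ↦ x + 1` (order 23) and `yE : x ↦ 2 x` (order 11, with
`yE * tE = tE ^ 2 * yE`), and let 23 divide `|K|` exactly once. Then every automorphism `α` of `K`
agrees, up to an inner automorphism, with `t ↦ t ^ k`, `y ↦ y` on these two elements (`front`).

Also: the elements `v ∈ M24` with `v * yE = yE⁻¹ * v` (resp. `yE ^ 3 * v`) are listed in `o24lS`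
(resp. `o24lD`).
-/

set_option autoImplicit false

namespace Cfsg.Agent.H94

open Cfsg Cfsg.Agent.H9 Cfsg.Agent.H33
open scoped Pointwise

/-! ### general group lemmas -/

/-- Two subgroups whose order is the full power of `p` dividing the order of the group are
conjugate. -/
theorem exists_conj_of_card' {G : Type*} [Group G] [Finite G] {p k : ℕ} [Fact p.Prime]
    (hk : (Nat.card G).factorization p = k) {S S0 : Subgroup G} (hS : Nat.card S = p ^ k)
    (hS0 : Nat.card S0 = p ^ k) : ∃ g : G, ∀ x, x ∈ S ↔ g⁻¹ * x * g ∈ S0 := by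
  have h0 : Nat.card S0 = p ^ (Nat.card G).factorization p := by rw [hk]; exact hS0
  have h1 : Nat.card S = p ^ (Nat.card G).factorization p := by rw [hk]; exact hS
  obtain ⟨g, hg⟩ := MulAction.exists_smul_eq G (Sylow.ofCard S0 h0) (Sylow.ofCard S h1)
  refine ⟨g, fun x => ?_⟩
  have e : (S : Subgroup G) = MulAut.conj g • S0 := by
    have := congrArg (fun P : Sylow p G => (P : Subgroup G)) hg
    simpa [Sylow.coe_subgroup_smul] using this.symm
  rw [e, Subgroup.mem_pointwise_smul_iff_inv_smul_mem]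
  simp [MulAut.smul_def]

theorem rel_pow' {G : Type*} [Monoid G] {a b v : G} (hrel : v * a = b * v) (n : ℕ) :
    v * a ^ n = b ^ n * v := by
  induction n with
  | zero => simp
  | succ n ih =>
    rw [pow_succ, ← mul_assoc, ih, mul_assoc, hrel, ← mul_assoc, ← pow_succ]

/-! ### the permutations -/

/-- `x ↦ x + 1` -/
noncomputable def tE : Equiv.Perm GolayPt := Equiv.optionCongr (Equiv.addRight (1 : ZMod 23))

theorem rT : Rep o24T tE := by
  unfold tE
  decide +kernel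

theorem rS : Rep o24S projInv := by decide +kernel

theorem rD : Rep o24D cubeTwist := by decide +kernel

theorem o24Y_inv : chkInv o24Y o24YI = true := by decide +kernel

theorem o24Y_m24 : chkM24 o24Y = true := by decide +kernel

/-- `x ↦ 2 x` -/
def yE : Equiv.Perm GolayPt := permOf o24Y o24YI o24Y_inv

theorem rY : Rep o24Y yE := rep_permOf _ _ _

theorem yE_mem : yE ∈ M24 := permOf_mem_M24 _ _ _ o24Y_m24

theorem tE_mem : tE ∈ M24 := mem_M24_of_chk rT (by decide +kernel)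

theorem sE_mem : projInv ∈ M24 := mem_M24_of_chk rS (by decide +kernel)

theorem dE_mem : cubeTwist ∈ M24 := mem_M24_of_chk rD (by decide +kernel)

theorem rYI : Rep o24YI yE⁻¹ := rep_inv rY (by decide +kernel)

theorem rT2 : Rep o24T2 (tE ^ 2) := by
  have h : mulN o24T o24T = o24T2 := by decide +kernel
  rw [← h, pow_two]
  exact rep_mulN rT rT

theorem rY3 : Rep o24Y3 (yE ^ 3) := by
  have h : pwN o24Y 3 = o24Y3 := by decide +kernel
  rw [← h]
  exact rep_pwN rY 3

theorem tE_pow : tE ^ 23 = 1 := eq_one_of_isIdP (rep_pwN rT 23) (by decide +kernel)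

theorem tE_ne_one : tE ≠ 1 := by
  intro h
  have h1 := isIdP_of_rep_one (h ▸ rT)
  exact absurd h1 (by decide +kernel)

theorem relYT : yE * tE = tE ^ 2 * yE := rel_of_relN rT rT2 rY (by decide +kernel)

theorem relSY : projInv * yE = yE⁻¹ * projInv := rel_of_relN rY rYI rS (by decide +kernel)

theorem relDY : cubeTwist * yE = yE ^ 3 * cubeTwist := rel_of_relN rY rY3 rD (by decide +kernel)

/-! ### the three enumerations -/

theorem chkT : allB (fun d => !(cjValid o24T o24T2 1 2 3 d) ||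
    cjEntry o24dtT o24dtTI o24T2 1 2 3 d) 576 = true := by decide +kernel

theorem lstT : allB (fun d => !(cjValid o24T o24T2 1 2 3 d) || allB (fun j =>
    !(relN o24T o24T2 (mulN (fldG o24dtT d) (fldG u5 j))) ||
      memB (mulN (fldG o24dtT d) (fldG u5 j)) o24lT) 48) 576 = true := by decide +kernel

theorem chkS : allB (fun d => !(cjValid o24Y o24YI 1 8 2 d) ||
    cjEntry o24dtS o24dtSI o24YI 1 8 2 d) 576 = true := by decide +kernel

theorem lstS : allB (fun d => !(cjValid o24Y o24YI 1 8 2 d) || allB (fun j =>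
    !(relN o24Y o24YI (mulN (fldG o24dtS d) (fldG u5 j))) ||
      memB (mulN (fldG o24dtS d) (fldG u5 j)) o24lS) 48) 576 = true := by decide +kernel

theorem chkD : allB (fun d => !(cjValid o24Y o24Y3 1 8 2 d) ||
    cjEntry o24dtD o24dtDI o24Y3 1 8 2 d) 576 = true := by decide +kernel

theorem lstD : allB (fun d => !(cjValid o24Y o24Y3 1 8 2 d) || allB (fun j =>
    !(relN o24Y o24Y3 (mulN (fldG o24dtD d) (fldG u5 j))) ||
      memB (mulN (fldG o24dtD d) (fldG u5 j)) o24lD) 48) 576 = true := by decide +kernel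

/-- the solutions of `v * tE = tE ^ 2 * v` -/
theorem t_cands {v : Equiv.Perm GolayPt} (hv : v ∈ M24) (hrel : v * tE = tE ^ 2 * v) :
    ∃ P ∈ o24lT, Rep P v :=
  conj_enum_list rT rT2 (Or.inr (by decide +kernel)) (by decide +kernel) (by decide +kernel)
    (by decide +kernel) chkT lstT hv hrel

/-- the solutions of `v * yE = yE⁻¹ * v` -/
theorem s_cands {v : Equiv.Perm GolayPt} (hv : v ∈ M24) (hrel : v * yE = yE⁻¹ * v) :
    ∃ P ∈ o24lS, Rep P v :=
  conj_enum_list rY rYI (Or.inl (by decide +kernel)) (by decide +kernel) (by decide +kernel)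
    (by decide +kernel) chkS lstS hv hrel

/-- the solutions of `v * yE = yE ^ 3 * v` -/
theorem d_cands {v : Equiv.Perm GolayPt} (hv : v ∈ M24) (hrel : v * yE = yE ^ 3 * v) :
    ∃ P ∈ o24lD, Rep P v :=
  conj_enum_list rY rY3 (Or.inl (by decide +kernel)) (by decide +kernel) (by decide +kernel)
    (by decide +kernel) chkD lstD hv hrel

theorem lT_form : o24lT.all (fun P => anyB (fun j => Nat.beq P (mulN (pwN o24T j) o24Y)) 23)
    = true := by decide +kernel

/-- the solutions of `v * tE = tE ^ 2 * v` are the elements `tE ^ j * yE` -/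
theorem t_sols {v : Equiv.Perm GolayPt} (hv : v ∈ M24) (hrel : v * tE = tE ^ 2 * v) :
    ∃ j < 23, v = tE ^ j * yE := by
  obtain ⟨P, hP, hr⟩ := t_cands hv hrel
  obtain ⟨j, hj, e⟩ := (anyB_iff _ _).mp (List.all_eq_true.mp lT_form P hP)
  have e' : P = mulN (pwN o24T j) o24Y := Nat.eq_of_beq_eq_true e
  rw [e'] at hr
  exact ⟨j, hj, rep_uniq hr (rep_mulN (rep_pwN rT j) rY)⟩

theorem inv23 : ∀ k < 23, k ≠ 0 → ∃ k' < 23, k * k' % 23 = 1 := by decide

/-! ### the normalisation -/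

theorem front (K : Subgroup (Equiv.Perm GolayPt)) (hK : K ≤ M24) (hT : tE ∈ K) (hY : yE ∈ K)
    (h23 : (Nat.card K).factorization 23 = 1) (α : MulAut ↥K) :
    ∃ c : ↥K, ∃ k, 0 < k ∧ k < 23 ∧
      α ⟨tE, hT⟩ = c * ⟨tE, hT⟩ ^ k * c⁻¹ ∧ α ⟨yE, hY⟩ = c * ⟨yE, hY⟩ * c⁻¹ := by
  obtain ⟨tG, htG⟩ : ∃ tG : ↥K, tG = ⟨tE, hT⟩ := ⟨_, rfl⟩
  obtain ⟨yG, hyG⟩ : ∃ yG : ↥K, yG = ⟨yE, hY⟩ := ⟨_, rfl⟩
  rw [← htG, ← hyG]
  have htv : (tG : Equiv.Perm GolayPt) = tE := by rw [htG]
  have hyv : (yG : Equiv.Perm GolayPt) = yE := by rw [hyG]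
  have : Fact (Nat.Prime 23) := ⟨by norm_num⟩
  have ht23 : tG ^ 23 = 1 := by
    apply Subtype.ext
    rw [Subgroup.coe_pow, htv, tE_pow]
    rfl
  have htne : tG ≠ 1 := by
    intro h
    apply tE_ne_one
    rw [← htv, h]
    rfl
  have hord : orderOf tG = 23 := orderOf_eq_prime ht23 htne
  have hrelG : yG * tG = tG ^ 2 * yG := by
    apply Subtype.ext
    rw [Subgroup.coe_mul, Subgroup.coe_mul, Subgroup.coe_pow, htv, hyv]
    exact relYT
  have hcardX : Nat.card (Subgroup.zpowers tG) = 23 := by rw [Nat.card_zpowers, hord]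
  have hcardS : Nat.card ((Subgroup.zpowers tG).map α.toMonoidHom) = 23 := by
    rw [Subgroup.card_map_of_injective α.injective, hcardX]
  obtain ⟨g, hg⟩ := exists_conj_of_card' (p := 23) (k := 1) h23
    (S := (Subgroup.zpowers tG).map α.toMonoidHom) (S0 := Subgroup.zpowers tG)
    (by rw [hcardS]; norm_num) (by rw [hcardX]; norm_num)
  have hmem : g⁻¹ * α tG * g ∈ Subgroup.zpowers tG :=
    (hg _).mp (Subgroup.mem_map_of_mem _ (Subgroup.mem_zpowers tG))
  obtain ⟨z, hz⟩ := Subgroup.mem_zpowers_iff.mp hmem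
  obtain ⟨k, hk23, hk⟩ : ∃ k < 23, tG ^ k = g⁻¹ * α tG * g := by
    have h1 : (0 : ℤ) ≤ z % 23 := Int.emod_nonneg _ (by norm_num)
    have h2 : z % 23 < 23 := Int.emod_lt_of_pos _ (by norm_num)
    refine ⟨(z % 23).toNat, by omega, ?_⟩
    rw [← hz, ← zpow_natCast, Int.toNat_of_nonneg h1]
    have h3 := zpow_mod_orderOf tG z
    rw [hord] at h3
    exact h3
  have hk0 : k ≠ 0 := by
    rintro rfl
    rw [pow_zero] at hk
    have h1 : α tG = 1 := by
      have : α tG = g * (g⁻¹ * α tG * g) * g⁻¹ := by group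
      rw [this, ← hk]
      group
    exact htne (α.injective (h1.trans (map_one α).symm))
  -- the image of `yG`
  have h2 : α yG * α tG = α tG ^ 2 * α yG := by rw [← map_mul, hrelG, map_mul, map_pow]
  have h1 : (g⁻¹ * α yG * g) * tG ^ k = (tG ^ k) ^ 2 * (g⁻¹ * α yG * g) := by
    rw [hk]
    calc g⁻¹ * α yG * g * (g⁻¹ * α tG * g) = g⁻¹ * (α yG * α tG) * g := by group
      _ = g⁻¹ * (α tG ^ 2 * α yG) * g := by rw [h2]
      _ = (g⁻¹ * α tG * g) ^ 2 * (g⁻¹ * α yG * g) := by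
        rw [pow_two, pow_two]
        group
  obtain ⟨v, hv⟩ : ∃ v : ↥K, v = g⁻¹ * α yG * g := ⟨_, rfl⟩
  rw [← hv] at h1
  obtain ⟨k', -, hkk'⟩ := inv23 k hk23 hk0
  have hx : tG ^ (k * k') = tG := by
    rw [← pow_mod_orderOf, hord, hkk', pow_one]
  have h3 : v * tG = tG ^ 2 * v := by
    have h4 : v * tG ^ k * v⁻¹ = (tG ^ k) ^ 2 := mul_inv_eq_iff_eq_mul.mpr h1
    have h5 : v * (tG ^ k) ^ k' * v⁻¹ = ((tG ^ k) ^ 2) ^ k' := by rw [← conj_pow, h4]
    have e1 : (tG ^ k) ^ k' = tG := by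
      rw [← pow_mul]
      exact hx
    have e2 : ((tG ^ k) ^ 2) ^ k' = tG ^ 2 := by rw [pow_right_comm, e1]
    rw [e1, e2] at h5
    exact mul_inv_eq_iff_eq_mul.mp h5
  have h3' : (v : Equiv.Perm GolayPt) * tE = tE ^ 2 * (v : Equiv.Perm GolayPt) := by
    have := congrArg Subtype.val h3
    rw [Subgroup.coe_mul, Subgroup.coe_mul, Subgroup.coe_pow, htv] at this
    exact this
  obtain ⟨j, -, hj⟩ := t_sols (hK v.2) h3'
  have hvj : v = tG ^ j * yG := by
    apply Subtype.ext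
    rw [Subgroup.coe_mul, Subgroup.coe_pow, htv, hyv]
    exact hj
  have hrelj : yG * tG ^ j = (tG ^ 2) ^ j * yG := rel_pow' hrelG j
  refine ⟨g * (tG ^ j)⁻¹, k, Nat.pos_of_ne_zero hk0, hk23, ?_, ?_⟩
  · have e1 : α tG = g * (g⁻¹ * α tG * g) * g⁻¹ := by group
    rw [e1, ← hk]
    have e2 : (tG ^ j)⁻¹ * tG ^ k * tG ^ j = tG ^ k := by
      rw [mul_assoc, ← pow_add, Nat.add_comm, pow_add, inv_mul_cancel_left]
    calc g * tG ^ k * g⁻¹ = g * ((tG ^ j)⁻¹ * tG ^ k * tG ^ j) * g⁻¹ := by rw [e2]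
      _ = g * (tG ^ j)⁻¹ * tG ^ k * (g * (tG ^ j)⁻¹)⁻¹ := by group
  · have e1 : α yG = g * (g⁻¹ * α yG * g) * g⁻¹ := by group
    rw [e1, ← hv, hvj]
    have e2 : (tG ^ j)⁻¹ * yG * tG ^ j = tG ^ j * yG := by
      rw [mul_assoc, hrelj, ← pow_mul, two_mul, pow_add, ← mul_assoc, ← mul_assoc,
        inv_mul_cancel, one_mul]
    calc g * (tG ^ j * yG) * g⁻¹ = g * ((tG ^ j)⁻¹ * yG * tG ^ j) * g⁻¹ := by rw [e2]
      _ = g * (tG ^ j)⁻¹ * yG * (g * (tG ^ j)⁻¹)⁻¹ := by group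

end Cfsg.Agent.H94
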