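import Mathlib
import Cfsg.Agent.H33.TrioOrb
import Cfsg.Agent.H94.Ext23d

/-!
# The stabiliser of a trio: linear algebra (helper94)

The trio `{O₀, O₁, O₂}` (`trioO`), three tetrads `W i j` in each octad whose classes modulo the
code are independent of `i`, dual code words `E' k`, and nine code words `bL`, each missing one
of the octads, which together with the `E' k` span the code.  A permutation `g` of `M₂₄` fixing
the trio acts on the three classes `U j = W 0 j` modulo the code by the matrix `Mg g`.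
-/

set_option autoImplicit false

namespace Cfsg.Agent.H94

open Cfsg Cfsg.Agent.H9 Cfsg.Agent.H33 MulAction
open scoped Pointwise

/-- masks of the three octads -/
def oM : Fin 3 → ℕ := ![0x149f, 0xf08320, 0xf6840]

/-- masks of the tetrads -/
def wM : Fin 3 → Fin 3 → ℕ :=
  ![![0x1d, 0x93, 0x407], ![0x508020, 0x700200, 0x600120], ![0x54800, 0x42840, 0x70040]]

/-- masks of the dual code words -/
def eM : Fin 3 → ℕ := ![0x293e, 0xcb25, 0xa4f8]

/-- masks of code words missing an octad of the trio -/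
def bL : List ℕ :=
  [0xf6840, 0x132b20, 0x21e260, 0x46e300, 0x84a960, 0x149f, 0x160ce, 0x24c5a, 0x428d3]

/-- a basis of the code -/
def bL12 : List ℕ := bL ++ [0x293e, 0xcb25, 0xa4f8]

/-- selectors of the standard basis in `bL12` -/
def selT : List ℕ := [32, 512, 3584, 2560, 3136, 3712, 768, 3521, 194, 2628, 2952, 2832]

/-- the octads of the trio -/
def trioO (i : Fin 3) : Finset GolayPt := fs (oM i)

/-- the trio -/
def T1 : Finset (Finset GolayPt) := {trioO 0, trioO 1, trioO 2}

/-- the tetrad words -/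
def trW (i j : Fin 3) : GolayPt → ZMod 2 := dec (wM i j)

/-- the dual words -/
def trE (k : Fin 3) : GolayPt → ZMod 2 := dec (eM k)

theorem T1_eq : T1 = Cfsg.Agent.H33.trioObj 0xf6840f0832000149f := by
  unfold T1 Cfsg.Agent.H33.trioObj trioO
  have h0 : fld 0xf6840f0832000149f 0 = oM 0 := by decide +kernel
  have h1 : fld 0xf6840f0832000149f 1 = oM 1 := by decide +kernel
  have h2 : fld 0xf6840f0832000149f 2 = oM 2 := by decide +kernel
  rw [h0, h1, h2]

theorem T1_mem : T1 ∈ trios := by
  rw [T1_eq]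
  exact Cfsg.Agent.H33.trio_mem_of_ok (by decide +kernel)

theorem mem_T1 {s : Finset GolayPt} : s ∈ T1 ↔ ∃ i, s = trioO i := by
  unfold T1
  simp only [Finset.mem_insert, Finset.mem_singleton]
  constructor
  · rintro (h | h | h)
    · exact ⟨0, h⟩
    · exact ⟨1, h⟩
    · exact ⟨2, h⟩
  · rintro ⟨i, rfl⟩
    fin_cases i
    · exact Or.inl rfl
    · exact Or.inr (Or.inl rfl)
    · exact Or.inr (Or.inr rfl)

theorem oM_lt : ∀ i : Fin 3, oM i < 2 ^ 24 := by decide

theorem oM_inj : ∀ i j : Fin 3, oM i = oM j → i = j := by decide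

theorem trioO_inj {i j : Fin 3} (h : trioO i = trioO j) : i = j :=
  oM_inj i j (fs_inj (oM_lt i) (oM_lt j) h)

theorem mem_trioO {i : Fin 3} {p : GolayPt} : p ∈ trioO i ↔ (oM i).testBit (gIdx p) = true :=
  mem_fs

/-! ### dot products -/

theorem dot_dec (a b : ℕ) : dotProduct (dec a) (dec b) = ((pcT (Nat.land a b) : ℕ) : ZMod 2) :=
  sum_dec_mul a b

theorem dot_permLin (g : Equiv.Perm GolayPt) (v w : GolayPt → ZMod 2) :
    dotProduct (permLin g v) (permLin g w) = dotProduct v w := by
  unfold dotProduct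
  exact Equiv.sum_comp g.symm (fun i => v i * w i)

theorem permLin_mul (g h : Equiv.Perm GolayPt) (w : GolayPt → ZMod 2) :
    permLin (g * h) w = permLin g (permLin h w) := rfl

theorem permLin_one (w : GolayPt → ZMod 2) : permLin 1 w = w := rfl

theorem permLin_inv_permLin (g : Equiv.Perm GolayPt) (w : GolayPt → ZMod 2) :
    permLin g (permLin g⁻¹ w) = w := by
  rw [← permLin_mul, mul_inv_cancel, permLin_one]

theorem dot_code {v w : GolayPt → ZMod 2} (hv : v ∈ golayCode) (hw : w ∈ golayCode) :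
    dotProduct v w = 0 := golay_self_orth v w hv hw

theorem dec_mem_of_isGolay {n : ℕ} (h : isGolay n = true) : dec n ∈ golayCode := by
  obtain ⟨k, _, rfl⟩ := isGolay_iff.mp h
  exact dec_cw_mem k

theorem dot_eq_zero_of_supp {v c : GolayPt → ZMod 2} (s : Finset GolayPt)
    (hv : ∀ p, p ∉ s → v p = 0) (hc : ∀ p ∈ s, c p = 0) : dotProduct v c = 0 := by
  unfold dotProduct
  apply Finset.sum_eq_zero
  intro p _
  by_cases hp : p ∈ s
  · rw [hc p hp, mul_zero]
  · rw [hv p hp, zero_mul]

/-! ### the data -/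

theorem trW_supp_chk : ∀ i j : Fin 3, Nat.land (wM i j) (oM i) = wM i j := by decide +kernel

theorem trW_supp (i j : Fin 3) (p : GolayPt) (hp : p ∉ trioO i) : trW i j p = 0 := by
  unfold trW dec
  rw [if_neg]
  intro h
  apply hp
  rw [mem_trioO]
  have h1 : (Nat.land (wM i j) (oM i)).testBit (gIdx p) = true := by rw [trW_supp_chk]; exact h
  have h2 : (Nat.land (wM i j) (oM i)).testBit (gIdx p) =
      ((wM i j).testBit (gIdx p) && (oM i).testBit (gIdx p)) := Nat.testBit_and _ _ _
  rw [h2, Bool.and_eq_true] at h1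
  exact h1.2

theorem trW_golay_chk : ∀ i j : Fin 3, isGolay (Nat.xor (wM 0 j) (wM i j)) = true := by
  decide +kernel

/-- the tetrads of a column differ by code words -/
theorem trW_eq (i j : Fin 3) : trW 0 j = dec (wM 0 j ^^^ wM i j) + trW i j := by
  unfold trW
  rw [dec_xor, add_assoc, CharTwo.add_self_eq_zero, add_zero]

theorem trW_eq' (i j : Fin 3) : trW i j = dec (wM 0 j ^^^ wM i j) + trW 0 j := by
  unfold trW
  rw [dec_xor, add_comm (dec (wM 0 j)), add_assoc, CharTwo.add_self_eq_zero, add_zero]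

theorem trW_code (i j : Fin 3) : dec (wM 0 j ^^^ wM i j) ∈ golayCode :=
  dec_mem_of_isGolay (trW_golay_chk i j)

theorem dual_chk' : ∀ k j : Fin 3,
    Nat.mod (pcT (Nat.land (wM 0 j) (eM k))) 2 = if k = j then 1 else 0 := by decide +kernel

theorem dot_trW_trE (k j : Fin 3) : dotProduct (trW 0 j) (trE k) = (1 : Matrix (Fin 3) (Fin 3) (ZMod 2)) k j := by
  unfold trW trE
  rw [dot_dec, Matrix.one_apply, ← ZMod.natCast_mod]
  have h := dual_chk' k j
  have h' : pcT (Nat.land (wM 0 j) (eM k)) % 2 = if k = j then 1 else 0 := h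
  rw [h']
  split_ifs <;> simp

theorem bL_chk : ∀ b ∈ bL, isGolay b = true ∧
    (Nat.land b (oM 0) = 0 ∨ Nat.land b (oM 1) = 0) := by decide +kernel

theorem trE_chk : ∀ k : Fin 3, isGolay (eM k) = true := by decide +kernel

theorem trE_mem (k : Fin 3) : trE k ∈ golayCode := dec_mem_of_isGolay (trE_chk k)

/-- code words vanishing on an octad of the trio -/
def Dset : Set (GolayPt → ZMod 2) := {c | c ∈ golayCode ∧ ∃ i : Fin 3, ∀ p ∈ trioO i, c p = 0}

theorem dec_zero_of_land {b n : ℕ} (h : Nat.land b n = 0) (p : GolayPt) (hp : p ∈ fs n) :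
    dec b p = 0 := by
  unfold dec
  rw [if_neg]
  intro hb
  have h1 : (Nat.land b n).testBit (gIdx p) = (b.testBit (gIdx p) && n.testBit (gIdx p)) :=
    Nat.testBit_and _ _ _
  rw [h, hb, mem_fs.mp hp] at h1
  simp at h1

theorem bL_mem_Dset {b : ℕ} (hb : b ∈ bL) : dec b ∈ Dset := by
  obtain ⟨h1, h2⟩ := bL_chk b hb
  refine ⟨dec_mem_of_isGolay h1, ?_⟩
  rcases h2 with h2 | h2
  · exact ⟨0, fun p hp => dec_zero_of_land h2 p hp⟩
  · exact ⟨1, fun p hp => dec_zero_of_land h2 p hp⟩

/-- the tetrads of the first octad are orthogonal to `Dset` -/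
theorem trW_orth_Dset {c : GolayPt → ZMod 2} (hc : c ∈ Dset) (j : Fin 3) :
    dotProduct (trW 0 j) c = 0 := by
  obtain ⟨hc1, i, hi⟩ := hc
  rw [trW_eq i j, add_dotProduct, dot_code (trW_code i j) hc1, zero_add]
  exact dot_eq_zero_of_supp (trioO i) (trW_supp i j) hi

/-! ### permutations fixing the trio -/

theorem smul_trioO {g : Equiv.Perm GolayPt} (hT : g • T1 = T1) (i : Fin 3) :
    ∃ j, g • trioO i = trioO j := by
  have h : g • trioO i ∈ g • T1 := Finset.smul_mem_smul_finset (mem_T1.mpr ⟨i, rfl⟩)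
  rw [hT] at h
  exact mem_T1.mp h

theorem inv_smul_T1 {g : Equiv.Perm GolayPt} (hT : g • T1 = T1) : g⁻¹ • T1 = T1 := by
  rw [inv_smul_eq_iff, hT]

theorem permLin_zero_on {g : Equiv.Perm GolayPt} {s t : Finset GolayPt} (h : g • s = t)
    {c : GolayPt → ZMod 2} (hc : ∀ p ∈ s, c p = 0) : ∀ p ∈ t, permLin g c p = 0 := by
  intro p hp
  rw [permLin_apply]
  apply hc
  rw [← h] at hp
  have := Finset.inv_smul_mem_iff.mpr hp
  exact this

theorem Dset_smul {g : Equiv.Perm GolayPt} (hg : g ∈ M24) (hT : g • T1 = T1)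
    {c : GolayPt → ZMod 2} (hc : c ∈ Dset) : permLin g c ∈ Dset := by
  obtain ⟨hc1, i, hi⟩ := hc
  obtain ⟨j, hj⟩ := smul_trioO hT i
  exact ⟨permLin_mem_golay hg hc1, j, permLin_zero_on hj hi⟩

/-- the images of the tetrads stay orthogonal to the words of `bL` -/
theorem permLin_trW_orth {g : Equiv.Perm GolayPt} (hg : g ∈ M24) (hT : g • T1 = T1) (j : Fin 3)
    {b : ℕ} (hb : b ∈ bL) : dotProduct (permLin g (trW 0 j)) (dec b) = 0 := by
  rw [← permLin_inv_permLin g (dec b), dot_permLin]
  exact trW_orth_Dset (Dset_smul (inv_mem hg) (inv_smul_T1 hT) (bL_mem_Dset hb)) j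

/-! ### decomposition modulo the code -/

theorem bL12_chk : basisL = selT.map (comb bL12) := by decide +kernel

/-- the words orthogonal to `w` -/
def orthSub (w : GolayPt → ZMod 2) : Submodule (ZMod 2) (GolayPt → ZMod 2) where
  carrier := {c | dotProduct w c = 0}
  add_mem' := by
    intro a b ha hb
    show dotProduct w (a + b) = 0
    rw [dotProduct_add, ha, hb, add_zero]
  zero_mem' := dotProduct_zero w
  smul_mem' := by
    intro a b hb
    show dotProduct w (a • b) = 0
    rw [dotProduct_smul, hb, smul_zero]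

theorem mem_golay_of_orth_bL12 {w : GolayPt → ZMod 2}
    (h : ∀ b ∈ bL12, dotProduct w (dec b) = 0) : w ∈ golayCode := by
  apply mem_golay_of_orth
  intro c hc
  obtain ⟨k, _, rfl⟩ := (mem_golayCode_iff c).mp hc
  have h1 : ∀ b ∈ basisL, (LinearMap.id : (GolayPt → ZMod 2) →ₗ[ZMod 2] _) (dec b) ∈ orthSub w := by
    intro b hb
    rw [bL12_chk, List.mem_map] at hb
    obtain ⟨s, _, rfl⟩ := hb
    exact map_dec_comb_mem LinearMap.id (orthSub w) bL12 (fun b hb => h b hb) s
  exact map_dec_comb_mem LinearMap.id (orthSub w) basisL h1 k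

theorem z2_add_self' (a : ZMod 2) : a + a = 0 := CharTwo.add_self_eq_zero a

/-- a word orthogonal to `bL` is a combination of the three tetrads modulo the code -/
theorem decomp {w : GolayPt → ZMod 2} (h : ∀ b ∈ bL, dotProduct w (dec b) = 0) :
    w + (dotProduct w (trE 0) • trW 0 0 + dotProduct w (trE 1) • trW 0 1 +
      dotProduct w (trE 2) • trW 0 2) ∈ golayCode := by
  apply mem_golay_of_orth_bL12
  intro b hb
  unfold bL12 at hb
  rw [List.mem_append] at hb
  have hU : ∀ j : Fin 3, ∀ b ∈ bL, dotProduct (trW 0 j) (dec b) = 0 :=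
    fun j b hb => trW_orth_Dset (bL_mem_Dset hb) j
  have e0 : ∀ k j : Fin 3, dotProduct (trW 0 j) (dec (eM k)) =
      (1 : Matrix (Fin 3) (Fin 3) (ZMod 2)) k j := dot_trW_trE
  rcases hb with hb | hb
  · simp only [add_dotProduct, smul_dotProduct, h b hb, hU _ b hb, smul_zero, add_zero]
  · simp only [List.mem_cons, List.not_mem_nil, or_false] at hb
    have t0 : trE 0 = dec 0x293e := rfl
    have t1 : trE 1 = dec 0xcb25 := rfl
    have t2 : trE 2 = dec 0xa4f8 := rfl
    rcases hb with rfl | rfl | rfl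
    · rw [← t0]
      simp only [add_dotProduct, smul_dotProduct, dot_trW_trE, Matrix.one_apply, smul_eq_mul]
      simp [z2_add_self']
    · rw [← t1]
      simp only [add_dotProduct, smul_dotProduct, dot_trW_trE, Matrix.one_apply, smul_eq_mul]
      simp [z2_add_self']
    · rw [← t2]
      simp only [add_dotProduct, smul_dotProduct, dot_trW_trE, Matrix.one_apply, smul_eq_mul]
      simp [z2_add_self']

/-! ### the matrix of a permutation fixing the trio -/

/-- the matrix of `g` on the classes of the three tetrads -/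
def Mg (g : Equiv.Perm GolayPt) : Matrix (Fin 3) (Fin 3) (ZMod 2) :=
  Matrix.of fun i j => dotProduct (permLin g (trW 0 j)) (trE i)

theorem Mg_apply (g : Equiv.Perm GolayPt) (i j : Fin 3) :
    Mg g i j = dotProduct (permLin g (trW 0 j)) (trE i) := rfl

theorem Mg_one : Mg 1 = 1 := by
  ext i j
  rw [Mg_apply, permLin_one, dot_trW_trE]

/-- the image of a tetrad, modulo the code -/
theorem permLin_trW {g : Equiv.Perm GolayPt} (hg : g ∈ M24) (hT : g • T1 = T1) (j : Fin 3) :
    ∃ c ∈ golayCode, permLin g (trW 0 j) =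
      c + (Mg g 0 j • trW 0 0 + Mg g 1 j • trW 0 1 + Mg g 2 j • trW 0 2) := by
  have h := decomp (w := permLin g (trW 0 j)) (fun b hb => permLin_trW_orth hg hT j hb)
  refine ⟨_, h, ?_⟩
  rw [Mg_apply, Mg_apply, Mg_apply, add_assoc, CharTwo.add_self_eq_zero, add_zero]

theorem Mg_mul {g h : Equiv.Perm GolayPt} (hg : g ∈ M24) (hh : h ∈ M24)
    (hT' : h • T1 = T1) : Mg (g * h) = Mg g * Mg h := by
  ext i j
  rw [Matrix.mul_apply, Fin.sum_univ_three, Mg_apply, permLin_mul]
  obtain ⟨c, hc, e⟩ := permLin_trW hh hT' j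
  rw [e]
  simp only [map_add, map_smul, add_dotProduct, smul_dotProduct, smul_eq_mul]
  rw [dot_code (permLin_mem_golay hg hc) (trE_mem i), zero_add, ← Mg_apply, ← Mg_apply, ← Mg_apply]
  ring

end Cfsg.Agent.H94
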