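import Mathlib
import Cfsg.Agent.H94.TrioA

/-!
# The stabiliser of a trio: the kernel (helper94)

A permutation of `M₂₄` fixing the three octads and acting trivially on the three classes of
tetrads acts on the octads as a translation; it is an involution, and it is determined by the
images of two points.
-/

set_option autoImplicit false

namespace Cfsg.Agent.H94

open Cfsg Cfsg.Agent.H9 Cfsg.Agent.H33 MulAction
open scoped Pointwise

/-- the kernel conditions -/
structure KerHyp (g : Equiv.Perm GolayPt) : Prop where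
  mem : g ∈ M24
  fixO : ∀ i : Fin 3, g • trioO i = trioO i
  mat : Mg g = 1

theorem KerHyp.fixT {g : Equiv.Perm GolayPt} (h : KerHyp g) : g • T1 = T1 := by
  ext s
  rw [mem_T1]
  constructor
  · intro hs
    obtain ⟨t, ht, rfl⟩ := Finset.mem_smul_finset.mp hs
    obtain ⟨i, rfl⟩ := mem_T1.mp ht
    exact ⟨i, h.fixO i⟩
  · rintro ⟨i, rfl⟩
    rw [← h.fixO i]
    exact Finset.smul_mem_smul_finset (mem_T1.mpr ⟨i, rfl⟩)

theorem KerHyp.one : KerHyp 1 := ⟨one_mem _, fun _ => one_smul _ _, Mg_one⟩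

theorem KerHyp.mul {g h : Equiv.Perm GolayPt} (hg : KerHyp g) (hh : KerHyp h) : KerHyp (g * h) :=
  ⟨mul_mem hg.mem hh.mem, fun i => by rw [mul_smul, hh.fixO, hg.fixO],
    by rw [Mg_mul hg.mem hh.mem hh.fixT, hg.mat, hh.mat, mul_one]⟩

theorem KerHyp.inv {g : Equiv.Perm GolayPt} (hg : KerHyp g) : KerHyp g⁻¹ := by
  refine ⟨inv_mem hg.mem, fun i => by rw [inv_smul_eq_iff, hg.fixO], ?_⟩
  have h := Mg_mul (inv_mem hg.mem) hg.mem hg.fixT
  rw [inv_mul_cancel, Mg_one, hg.mat, mul_one] at h
  exact h.symm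

theorem mem_trioO_apply {g : Equiv.Perm GolayPt} {i : Fin 3} (h : g • trioO i = trioO i)
    {p : GolayPt} (hp : p ∈ trioO i) : g p ∈ trioO i := by
  rw [← h]
  exact Finset.smul_mem_smul_finset hp

theorem not_mem_trioO_symm {g : Equiv.Perm GolayPt} {i : Fin 3} (h : g • trioO i = trioO i)
    {p : GolayPt} (hp : p ∉ trioO i) : g.symm p ∉ trioO i := by
  intro h'
  apply hp
  have := mem_trioO_apply h h'
  rwa [Equiv.apply_symm_apply] at this

/-- the image of each tetrad differs from it by a code word -/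
theorem KerHyp.tetrad {g : Equiv.Perm GolayPt} (h : KerHyp g) (i j : Fin 3) :
    permLin g (trW i j) + trW i j ∈ golayCode := by
  have h0 : permLin g (trW 0 j) + trW 0 j ∈ golayCode := by
    obtain ⟨c, hc, e⟩ := permLin_trW h.mem h.fixT j
    rw [e, h.mat]
    have : c + ((1 : Matrix (Fin 3) (Fin 3) (ZMod 2)) 0 j • trW 0 0 +
        (1 : Matrix (Fin 3) (Fin 3) (ZMod 2)) 1 j • trW 0 1 +
        (1 : Matrix (Fin 3) (Fin 3) (ZMod 2)) 2 j • trW 0 2) + trW 0 j = c := by
      fin_cases j <;> simp [Matrix.one_apply, add_assoc, CharTwo.add_self_eq_zero]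
    rw [this]
    exact hc
  rw [trW_eq' i j, map_add]
  have h1 : permLin g (dec (wM 0 j ^^^ wM i j)) + permLin g (trW 0 j) +
      (dec (wM 0 j ^^^ wM i j) + trW 0 j) =
      (permLin g (dec (wM 0 j ^^^ wM i j)) + dec (wM 0 j ^^^ wM i j)) +
        (permLin g (trW 0 j) + trW 0 j) := by abel
  rw [h1]
  exact Submodule.add_mem _ (Submodule.add_mem _ (permLin_mem_golay h.mem (trW_code i j))
    (trW_code i j)) h0

theorem inOct_chk : ∀ i : Fin 3, allB (fun k =>
    (!Nat.beq (Nat.land (cwN k) (Nat.xor 0xffffff (oM i))) 0) ||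
      (Nat.beq (cwN k) 0 || Nat.beq (cwN k) (oM i))) 4096 = true := by decide +kernel

/-- a code word inside an octad of the trio is zero or the octad -/
theorem code_in_octad {c : GolayPt → ZMod 2} (hc : c ∈ golayCode) (i : Fin 3)
    (h : ∀ p, p ∉ trioO i → c p = 0) : c = 0 ∨ c = dec (oM i) := by
  obtain ⟨k, hk, rfl⟩ := (mem_golayCode_iff c).mp hc
  have h1 := (allB_iff _ _).mp (inOct_chk i) k hk
  have h2 : Nat.land (cwN k) (Nat.xor 0xffffff (oM i)) = 0 := by
    have hlt : cw k &&& (0xffffff ^^^ oM i) < 2 ^ 24 :=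
      lt_of_le_of_lt Nat.and_le_left (cw_lt k)
    rw [cwN_eq]
    apply fs_inj hlt (by norm_num)
    rw [fs_zero, fs_and, Finset.eq_empty_iff_forall_notMem]
    intro p hp
    rw [Finset.mem_inter] at hp
    have hp1 : dec (cw k) p ≠ 0 := by
      have := mem_fs.mp hp.1
      unfold dec
      rw [if_pos this]
      exact one_ne_zero
    apply hp1
    apply h
    intro hpi
    have h3 := mem_fs.mp hp.2
    rw [Nat.testBit_xor, mem_trioO.mp hpi, (testBit_full _).mpr (gIdx_lt p)] at h3
    simp at h3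
  rw [h2] at h1
  simp only [Nat.beq_refl, Bool.not_true, Bool.false_or, Bool.or_eq_true] at h1
  rcases h1 with h1 | h1
  · left
    rw [← cwN_eq, Nat.eq_of_beq_eq_true h1, dec_zero]
  · right
    rw [← cwN_eq, Nat.eq_of_beq_eq_true h1]

theorem z2_eq_of_add_zero (a b : ZMod 2) (h : a + b = 0) : a = b := by
  revert a b; decide

theorem z2_eq_of_add_one (a b : ZMod 2) (h : a + b = 1) : b = a + 1 := by
  revert a b; decide

theorem z2_ne_add_one (a : ZMod 2) : a ≠ a + 1 := by
  revert a; decide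

theorem dec_oM_of_mem {i : Fin 3} {p : GolayPt} (hp : p ∈ trioO i) : dec (oM i) p = 1 := by
  unfold dec
  rw [if_pos (mem_trioO.mp hp)]

/-- the action on an octad is a translation: each tetrad is fixed or exchanged with its
complement -/
theorem KerHyp.transl {g : Equiv.Perm GolayPt} (h : KerHyp g) (i j : Fin 3) :
    (∀ p ∈ trioO i, trW i j (g p) = trW i j p) ∨
    (∀ p ∈ trioO i, trW i j (g p) = trW i j p + 1) := by
  have hc := h.tetrad i j
  have hs : ∀ p, p ∉ trioO i → (permLin g (trW i j) + trW i j) p = 0 := by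
    intro p hp
    rw [Pi.add_apply, permLin_apply, trW_supp i j p hp,
      trW_supp i j _ (not_mem_trioO_symm (h.fixO i) hp), add_zero]
  rcases code_in_octad hc i hs with e | e
  · left
    intro p _
    have := congrFun e (g p)
    rw [Pi.add_apply, permLin_apply, Equiv.symm_apply_apply, Pi.zero_apply] at this
    exact (z2_eq_of_add_zero _ _ this).symm
  · right
    intro p hp
    have := congrFun e (g p)
    rw [Pi.add_apply, permLin_apply, Equiv.symm_apply_apply,
      dec_oM_of_mem (mem_trioO_apply (h.fixO i) hp)] at this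
    exact z2_eq_of_add_one _ _ this

theorem sep_chk : ∀ i : Fin 3, ∀ p q : GolayPt, (oM i).testBit (gIdx p) = true →
    (oM i).testBit (gIdx q) = true →
    (∀ j : Fin 3, (wM i j).testBit (gIdx p) = (wM i j).testBit (gIdx q)) → p = q := by
  decide +kernel

/-- the three tetrads separate the points of an octad -/
theorem sep {i : Fin 3} {p q : GolayPt} (hp : p ∈ trioO i) (hq : q ∈ trioO i)
    (h : ∀ j : Fin 3, trW i j p = trW i j q) : p = q := by
  apply sep_chk i p q (mem_trioO.mp hp) (mem_trioO.mp hq)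
  intro j
  have := h j
  unfold trW dec at this
  by_cases h1 : (wM i j).testBit (gIdx p) = true <;>
    by_cases h2 : (wM i j).testBit (gIdx q) = true <;> simp_all

/-- the square fixes every point -/
theorem KerHyp.sq_apply {g : Equiv.Perm GolayPt} (h : KerHyp g) {i : Fin 3} {p : GolayPt}
    (hp : p ∈ trioO i) : g (g p) = p := by
  have hgp := mem_trioO_apply (h.fixO i) hp
  apply sep (mem_trioO_apply (h.fixO i) hgp) hp
  intro j
  rcases h.transl i j with e | e
  · rw [e _ hgp, e _ hp]
  · rw [e _ hgp, e _ hp, add_assoc, CharTwo.add_self_eq_zero, add_zero]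

/-- a fixed point in an octad forces the octad to be fixed pointwise -/
theorem KerHyp.fix_octad {g : Equiv.Perm GolayPt} (h : KerHyp g) {i : Fin 3} {p₀ : GolayPt}
    (hp₀ : p₀ ∈ trioO i) (hfix : g p₀ = p₀) : ∀ p ∈ trioO i, g p = p := by
  intro p hp
  apply sep (mem_trioO_apply (h.fixO i) hp) hp
  intro j
  rcases h.transl i j with e | e
  · exact e p hp
  · exfalso
    have := e p₀ hp₀
    rw [hfix] at this
    exact z2_ne_add_one _ this

theorem base_chk : ∀ k ∈ [5, 7, 4, 3, 2, 1, 0],
    (oM 0).testBit (gIdx (gPt k)) = true ∨ (oM 1).testBit (gIdx (gPt k)) = true := by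
  decide +kernel

theorem base_mem : gPt 0 ∈ trioO 0 ∧ gPt 5 ∈ trioO 1 := by
  constructor <;> · rw [mem_trioO]; decide +kernel

/-- an element of the kernel fixing two base points is trivial -/
theorem KerHyp.eq_one {g : Equiv.Perm GolayPt} (h : KerHyp g) (h0 : g (gPt 0) = gPt 0)
    (h1 : g (gPt 5) = gPt 5) : g = 1 := by
  have hmem : g ∈ Stab [5, 7, 4, 3, 2, 1, 0] := by
    refine mem_Stab.mpr ⟨h.mem, fun k hk => ?_⟩
    rcases base_chk k hk with hk' | hk'
    · exact h.fix_octad base_mem.1 h0 _ (mem_trioO.mpr hk')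
    · exact h.fix_octad base_mem.2 h1 _ (mem_trioO.mpr hk')
  rw [Stab_base_eq_bot] at hmem
  exact Subgroup.mem_bot.mp hmem

theorem KerHyp.sq {g : Equiv.Perm GolayPt} (h : KerHyp g) : g * g = 1 :=
  (h.mul h).eq_one (h.sq_apply base_mem.1) (h.sq_apply base_mem.2)

theorem KerHyp.eq_of_apply {g k : Equiv.Perm GolayPt} (hg : KerHyp g) (hk : KerHyp k)
    (h0 : g (gPt 0) = k (gPt 0)) (h1 : g (gPt 5) = k (gPt 5)) : g = k := by
  have h := (hk.inv.mul hg).eq_one
    (by rw [Equiv.Perm.mul_apply, h0]; exact Equiv.symm_apply_apply k _)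
    (by rw [Equiv.Perm.mul_apply, h1]; exact Equiv.symm_apply_apply k _)
  exact (inv_mul_eq_one.mp h).symm

end Cfsg.Agent.H94
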