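import Mathlib
import Cfsg.Agent.H94.TrioB

/-!
# The stabiliser of a trio: the structure (helper94)

The homomorphism of the stabiliser of the trio `T1` to `GL₃(2) × S₃`, its kernel of order 64,
its surjectivity by counting, and the transport to an arbitrary trio.
-/

set_option autoImplicit false

namespace Cfsg.Agent.H94

open Cfsg Cfsg.Agent.H9 Cfsg.Agent.H33 MulAction
open scoped Pointwise

theorem stab_fix (x : ↥(stabilizer ↥M24 T1)) : (x.1.1 : Equiv.Perm GolayPt) • T1 = T1 := x.2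

/-- the matrix part -/
noncomputable def phiM : ↥(stabilizer ↥M24 T1) →* Matrix (Fin 3) (Fin 3) (ZMod 2) where
  toFun x := Mg x.1.1
  map_one' := Mg_one
  map_mul' x y := Mg_mul x.1.2 y.1.2 (stab_fix y)

/-- the linear part -/
noncomputable def phi1 : ↥(stabilizer ↥M24 T1) →* GL (Fin 3) (ZMod 2) := phiM.toHomUnits

theorem exists_perm {g : Equiv.Perm GolayPt} (hT : g • T1 = T1) :
    ∃ π : Equiv.Perm (Fin 3), ∀ i, g • trioO i = trioO (π i) := by
  choose f hf using smul_trioO hT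
  have hinj : Function.Injective f := by
    intro i j hij
    have : g • trioO i = g • trioO j := by rw [hf i, hf j, hij]
    exact trioO_inj (smul_left_cancel g this)
  exact ⟨Equiv.ofBijective f (Finite.injective_iff_bijective.mp hinj), hf⟩

/-- the permutation of the three octads -/
noncomputable def permOf (x : ↥(stabilizer ↥M24 T1)) : Equiv.Perm (Fin 3) :=
  Classical.choose (exists_perm (stab_fix x))

theorem permOf_spec (x : ↥(stabilizer ↥M24 T1)) (i : Fin 3) :
    (x.1.1 : Equiv.Perm GolayPt) • trioO i = trioO (permOf x i) :=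
  Classical.choose_spec (exists_perm (stab_fix x)) i

theorem permOf_unique (x : ↥(stabilizer ↥M24 T1)) (π : Equiv.Perm (Fin 3))
    (h : ∀ i, (x.1.1 : Equiv.Perm GolayPt) • trioO i = trioO (π i)) : permOf x = π := by
  ext i
  exact congrArg Fin.val (trioO_inj ((permOf_spec x i).symm.trans (h i)))

/-- the permutation part -/
noncomputable def phi2 : ↥(stabilizer ↥M24 T1) →* Equiv.Perm (Fin 3) where
  toFun := permOf
  map_one' := permOf_unique 1 1 (fun _ => one_smul _ _)
  map_mul' x y := permOf_unique (x * y) (permOf x * permOf y) (fun i => by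
    show ((x.1.1 : Equiv.Perm GolayPt) * y.1.1) • trioO i = _
    rw [mul_smul, permOf_spec y i, permOf_spec x]
    rfl)

/-- the homomorphism to `GL₃(2) × S₃` -/
noncomputable def phi : ↥(stabilizer ↥M24 T1) →* GL (Fin 3) (ZMod 2) × Equiv.Perm (Fin 3) :=
  phi1.prod phi2

theorem phi_apply (x : ↥(stabilizer ↥M24 T1)) : phi x = (phi1 x, phi2 x) := rfl

theorem phi1_coe (x : ↥(stabilizer ↥M24 T1)) :
    ((phi1 x : GL (Fin 3) (ZMod 2)) : Matrix (Fin 3) (Fin 3) (ZMod 2)) = Mg x.1.1 := rfl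

theorem phi2_apply (x : ↥(stabilizer ↥M24 T1)) : phi2 x = permOf x := rfl

theorem kerHyp_of_mem_ker {x : ↥(stabilizer ↥M24 T1)} (hx : x ∈ phi.ker) : KerHyp x.1.1 := by
  rw [MonoidHom.mem_ker, phi_apply, Prod.mk_eq_one, phi2_apply] at hx
  obtain ⟨h1, h2⟩ := hx
  refine ⟨x.1.2, fun i => ?_, ?_⟩
  · have := permOf_spec x i
    rw [h2] at this
    exact this
  · rw [← phi1_coe, h1, Units.val_one]

theorem ker_sq {x : ↥(stabilizer ↥M24 T1)} (hx : x ∈ phi.ker) : x * x = 1 :=
  Subtype.ext (Subtype.ext (kerHyp_of_mem_ker hx).sq)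

theorem card_trioO (i : Fin 3) : (trioO i).card = 8 := by
  unfold trioO
  rw [card_fs']
  revert i
  decide +kernel

theorem card_ker_le : Nat.card ↥(phi.ker) ≤ 64 := by
  have hc : Nat.card (↥(trioO 0) × ↥(trioO 1)) = 64 := by
    rw [Nat.card_prod, Nat.card_eq_fintype_card, Nat.card_eq_fintype_card, Fintype.card_coe,
      Fintype.card_coe, card_trioO, card_trioO]
  rw [← hc]
  let f : ↥(phi.ker) → ↥(trioO 0) × ↥(trioO 1) := fun x =>
    (⟨x.1.1.1 (gPt 0), mem_trioO_apply ((kerHyp_of_mem_ker x.2).fixO 0) base_mem.1⟩,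
      ⟨x.1.1.1 (gPt 5), mem_trioO_apply ((kerHyp_of_mem_ker x.2).fixO 1) base_mem.2⟩)
  apply Nat.card_le_card_of_injective f
  intro x y hxy
  have h0 : x.1.1.1 (gPt 0) = y.1.1.1 (gPt 0) := congrArg (fun z => (z.1 : GolayPt)) hxy
  have h1 : x.1.1.1 (gPt 5) = y.1.1.1 (gPt 5) := congrArg (fun z => (z.2 : GolayPt)) hxy
  exact Subtype.ext (Subtype.ext (Subtype.ext
    ((kerHyp_of_mem_ker x.2).eq_of_apply (kerHyp_of_mem_ker y.2) h0 h1)))

theorem orbit_T1 : orbit ↥M24 T1 = trios := by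
  obtain ⟨hA, -⟩ := trio_census
  rw [hA]
  exact orbit_eq_iff.mpr (hA ▸ T1_mem)

theorem card_stab_T1 : Nat.card ↥(stabilizer ↥M24 T1) = 64512 := by
  obtain ⟨hA, c0⟩ := trio_census
  have h1 := (stabilizer ↥M24 T1).card_mul_index
  rw [index_stabilizer, orbit_T1, hA, c0.hN, c0.hKN] at h1
  exact Nat.eq_of_mul_eq_mul_right (by norm_num) h1

theorem card_GL32 : Nat.card (GL (Fin 3) (ZMod 2)) = 168 := by
  rw [Matrix.card_GL_field, ZMod.card, Fin.prod_univ_three]
  rfl

theorem card_target : Nat.card (GL (Fin 3) (ZMod 2) × Equiv.Perm (Fin 3)) = 1008 := by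
  rw [Nat.card_prod, card_GL32, Nat.card_eq_fintype_card, Fintype.card_perm, Fintype.card_fin]
  rfl

theorem card_ker_and_range : Nat.card ↥(phi.ker) = 64 ∧ Nat.card ↥(phi.range) = 1008 := by
  have hq := Subgroup.card_eq_card_quotient_mul_card_subgroup phi.ker
  rw [card_stab_T1, Nat.card_congr (QuotientGroup.quotientKerEquivRange phi).toEquiv] at hq
  have hr : Nat.card ↥(phi.range) ≤ 1008 := by
    rw [← card_target]
    exact Subgroup.card_le_card_group _
  have hk := card_ker_le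
  have h3 : Nat.card ↥(phi.range) * Nat.card ↥(phi.ker) ≤ 1008 * Nat.card ↥(phi.ker) :=
    Nat.mul_le_mul_right _ hr
  have h4 : Nat.card ↥(phi.ker) = 64 := by omega
  rw [h4] at hq
  exact ⟨h4, by omega⟩

theorem phi_surjective : Function.Surjective phi := by
  rw [← MonoidHom.range_eq_top]
  apply Subgroup.eq_top_of_card_eq
  rw [card_ker_and_range.2, card_target]

/-- the structure of the stabiliser of `T1` -/
theorem trio_main :
    (∀ π : Equiv.Perm (Fin 3), ∃ x : ↥(stabilizer ↥M24 T1),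
      ∀ i, (x.1.1 : Equiv.Perm GolayPt) • trioO i = trioO (π i)) ∧
    ∃ (N : Subgroup ↥(stabilizer ↥M24 T1)) (_ : N.Normal), Nat.card N = 64 ∧
      (∀ x ∈ N, x * x = 1) ∧
      Nonempty (↥(stabilizer ↥M24 T1) ⧸ N ≃* GL (Fin 3) (ZMod 2) × Equiv.Perm (Fin 3)) := by
  refine ⟨fun π => ?_, phi.ker, MonoidHom.normal_ker phi, card_ker_and_range.1,
    fun x hx => ker_sq hx, ⟨QuotientGroup.quotientKerEquivOfSurjective phi phi_surjective⟩⟩
  obtain ⟨x, hx⟩ := phi_surjective (1, π)
  rw [phi_apply, Prod.mk.injEq, phi2_apply] at hx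
  have h2 : permOf x = π := hx.2
  exact ⟨x, fun i => by rw [permOf_spec, h2]⟩

/-- the structure of the stabiliser of any trio -/
theorem trio_struct (T : Finset (Finset GolayPt)) (hT : T ∈ trios) :
    (∀ e : Equiv.Perm ↥T, ∃ g ∈ stabilizer ↥M24 T, ∀ o : ↥T,
      (g : Equiv.Perm GolayPt) • (o : Finset GolayPt) = ((e o : ↥T) : Finset GolayPt)) ∧
    ∃ (N : Subgroup ↥(stabilizer ↥M24 T)) (_ : N.Normal), Nat.card N = 64 ∧
      (∀ x ∈ N, x * x = 1) ∧
      Nonempty (↥(stabilizer ↥M24 T) ⧸ N ≃* GL (Fin 3) (ZMod 2) × Equiv.Perm (Fin 3)) := by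
  rw [← orbit_T1] at hT
  obtain ⟨h, rfl⟩ := hT
  obtain ⟨m1, N, hN, hcard, hsq, ⟨iso⟩⟩ := trio_main
  refine ⟨fun e => ?_, ?_⟩
  · let ι : Fin 3 → ↥(h • T1) := fun i =>
      ⟨h • trioO i, Finset.smul_mem_smul_finset (mem_T1.mpr ⟨i, rfl⟩)⟩
    have hι : Function.Bijective ι := by
      constructor
      · intro i j hij
        have : h • trioO i = h • trioO j := congrArg Subtype.val hij
        exact trioO_inj (smul_left_cancel h this)
      · rintro ⟨o, ho⟩
        obtain ⟨t, ht, rfl⟩ := Finset.mem_smul_finset.mp ho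
        obtain ⟨i, rfl⟩ := mem_T1.mp ht
        exact ⟨i, rfl⟩
    let ιe := Equiv.ofBijective ι hι
    let π : Equiv.Perm (Fin 3) := ιe.trans (e.trans ιe.symm)
    have hπ : ∀ i, ιe (π i) = e (ιe i) := fun i => by
      show ιe (ιe.symm (e (ιe i))) = e (ιe i)
      rw [Equiv.apply_symm_apply]
    obtain ⟨x, hx⟩ := m1 π
    refine ⟨h * x.1 * h⁻¹, ?_, ?_⟩
    · rw [mem_stabilizer_iff, mul_smul, mul_smul, inv_smul_smul]
      exact congrArg (h • ·) x.2
    · intro o
      obtain ⟨i, rfl⟩ := ιe.surjective o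
      rw [← hπ i]
      show ((h * x.1 * h⁻¹ : ↥M24) : Equiv.Perm GolayPt) • ((h : Equiv.Perm GolayPt) • trioO i) =
        (h : Equiv.Perm GolayPt) • trioO (π i)
      rw [← hx i]
      show ((h : Equiv.Perm GolayPt) * x.1.1 * (h : Equiv.Perm GolayPt)⁻¹) •
        ((h : Equiv.Perm GolayPt) • trioO i) = _
      rw [mul_smul, mul_smul, inv_smul_smul]
  · let e' : ↥(stabilizer ↥M24 T1) ≃* ↥(stabilizer ↥M24 (h • T1)) :=
      stabilizerEquivStabilizer (g := h) rfl
    haveI : (N.map e'.toMonoidHom).Normal := hN.map e'.toMonoidHom e'.surjective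
    refine ⟨N.map e'.toMonoidHom, inferInstance, ?_, ?_, ?_⟩
    · rw [Subgroup.card_map_of_injective e'.injective, hcard]
    · rintro _ ⟨y, hy, rfl⟩
      show e' y * e' y = 1
      rw [← map_mul, hsq y hy, map_one]
    · exact ⟨(QuotientGroup.congr N (N.map e'.toMonoidHom) e' rfl).symm.trans iso⟩

end Cfsg.Agent.H94
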