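import Cfsg.Agent.H74.TsDefs
import Cfsg.Agent.H25.SxSylJ
import Cfsg.Agent.H63.SnIfV
import Cfsg.Agent.H13.PCore

/-!
# TS-OV (piece of helper74's S2948 project): a 2-local `L ≰ M` is in the family of a Sylow
2-subgroup `T₀` of `L` with `N_G(J(T₀)) ≤ M`.
-/

set_option autoImplicit false
open Cfsg

namespace Cfsg.Agent.H94.Ts

universe u

theorem ov : Cfsg.Agent.H74.Ts.StOV.{u} := by
  intro G _ _ hchar M T₀ L hL hLM hSyl hNJ
  refine ⟨hSyl, ?_, ?_⟩
  · intro hJ
    apply hLM
    have hQ2 : IsPGroup 2 ↥(pCoreOf 2 L) := by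
      unfold pCoreOf
      exact (Cfsg.Agent.H13.pCore_isPGroup 2 ↥L).map _
    have hJQ : thompsonSubgroupOf 2 (pCoreOf 2 L) = thompsonSubgroupOf 2 T₀ :=
      Cfsg.Agent.H25.Sx.sylJ T₀ L (pCoreOf 2 L) hSyl (Cfsg.Agent.H63.Sn.pCoreOf_le L) hQ2 hJ
    intro g hg
    apply hNJ
    rw [← hJQ]
    have hmap : (pCoreOf 2 L).map (MulAut.conj g).toMonoidHom = pCoreOf 2 L := by
      apply le_antisymm
      · rintro _ ⟨x, hx, rfl⟩
        exact Cfsg.Agent.H63.Sn.pCoreOf_conj L hg hx
      · intro x hx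
        refine ⟨g⁻¹ * x * g, ?_, ?_⟩
        · have := Cfsg.Agent.H63.Sn.pCoreOf_conj L (inv_mem hg) hx
          simpa using this
        · show g * (g⁻¹ * x * g) * g⁻¹ = x
          group
    have h2 := Cfsg.Agent.H25.Sx.thompson_map_conj 2 g (pCoreOf 2 L)
    rw [hmap] at h2
    rw [Subgroup.mem_normalizer_iff]
    intro h
    constructor
    · intro hh
      rw [h2]
      exact ⟨h, hh, rfl⟩
    · intro hh
      rw [h2] at hh
      obtain ⟨y, hy, hyh⟩ := hh
      have e : y = h := by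
        have e1 : g * y * g⁻¹ = g * h * g⁻¹ := hyh
        have e2 : g⁻¹ * (g * y * g⁻¹) * g = g⁻¹ * (g * h * g⁻¹) * g := by rw [e1]
        have e3 : g⁻¹ * (g * y * g⁻¹) * g = y := by group
        have e4 : g⁻¹ * (g * h * g⁻¹) * g = h := by group
        rw [e3, e4] at e2
        exact e2
      rw [← e]; exact hy
  · obtain ⟨U, hU2, hU1, rfl⟩ := hL
    have hch := hchar.2 U hU2 hU1
    intro g hg
    have hUQ : U ≤ pCoreOf 2 (Subgroup.normalizer (U : Set G)) := by
      intro u hu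
      rw [Cfsg.Agent.H63.Sn.mem_pCoreOf]
      refine ⟨Subgroup.le_normalizer hu, ?_⟩
      have hn : (U.subgroupOf (Subgroup.normalizer (U : Set G))).Normal :=
        Subgroup.normal_in_normalizer
      have hp : IsPGroup 2 ↥(U.subgroupOf (Subgroup.normalizer (U : Set G))) :=
        hU2.comap_subtype
      exact Cfsg.Agent.H13.le_pCore hn hp (Subgroup.mem_subgroupOf.mpr hu)
    have key : ∀ u ∈ U, g * u * g⁻¹ = u := by
      intro u hu
      have h1 : u * g = g * u := hg u (hUQ hu)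
      rw [← h1]; group
    have hgN : g ∈ Subgroup.normalizer (U : Set G) := by
      rw [Subgroup.mem_normalizer_iff]
      intro h
      constructor
      · intro hh; rw [key h hh]; exact hh
      · intro hh
        have h1 := key _ hh
        have h2 : g * h * g⁻¹ = h := by
          have e2 : g⁻¹ * (g * (g * h * g⁻¹) * g⁻¹) * g = g⁻¹ * (g * h * g⁻¹) * g := by rw [h1]
          have e3 : g⁻¹ * (g * (g * h * g⁻¹) * g⁻¹) * g = g * h * g⁻¹ := by group
          have e4 : g⁻¹ * (g * h * g⁻¹) * g = h := by group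
          rw [e3, e4] at e2
          exact e2
        rw [← h2]; exact hh
    rw [Cfsg.Agent.H63.Sn.mem_pCoreOf]
    refine ⟨hgN, ?_⟩
    apply hch
    rw [Subgroup.mem_centralizer_iff]
    intro q hq
    have hq' : (q : G) ∈ pCoreOf 2 (Subgroup.normalizer (U : Set G)) :=
      (Cfsg.Agent.H63.Sn.mem_pCoreOf _).mpr ⟨q.2, hq⟩
    have := hg (q : G) hq'
    exact Subtype.ext this

example : ∀ {G : Type u} [Group G] [Finite G], IsCharacteristicTwoType G →
  ∀ (M T₀ L : Subgroup G), IsTwoLocal L → ¬ L ≤ M → IsSylowTwoIn T₀ L →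
  Subgroup.normalizer (thompsonSubgroupOf 2 T₀ : Set G) ≤ M →
  L ∈ jOvergroups T₀ := ov

end Cfsg.Agent.H94.Ts

#print axioms Cfsg.Agent.H94.Ts.ov
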