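import Cfsg.Agent.H74.TsDefs
import Cfsg.Agent.H14.Thompson

/-!
# TS-TRA (piece of helper74's S2948 project): transport from `↥L` to `G` of "generated by
elements of odd order" and `[K, J(T)] = K`.
-/

set_option autoImplicit false
open Cfsg

namespace Cfsg.Agent.H94.Ts

universe u

theorem trA : Cfsg.Agent.H74.Ts.StTrA.{u} := by
  intro G _ _ T L K' hTL hgen hcomm
  have hJL : thompsonSubgroupOf 2 T ≤ L :=
    (Cfsg.Agent.H14.thompsonSubgroupOf_le 2 T).trans hTL
  refine ⟨?_, ?_⟩
  · apply le_antisymm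
    · rw [Subgroup.closure_le]
      intro g hg
      exact hg.1
    · conv_lhs => rw [← hgen]
      rw [MonoidHom.map_closure]
      apply Subgroup.closure_mono
      rintro _ ⟨g, hg, rfl⟩
      refine ⟨Subgroup.mem_map_of_mem _ hg.1, ?_⟩
      have e : orderOf (L.subtype g) = orderOf g := Subgroup.orderOf_coe g
      rw [e]; exact hg.2
  · have e : ((thompsonSubgroupOf 2 T).subgroupOf L).map L.subtype = thompsonSubgroupOf 2 T :=
      Subgroup.map_subgroupOf_eq_of_le hJL
    conv_lhs => rw [← e]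
    rw [← Subgroup.map_commutator, hcomm]

example : ∀ {G : Type u} [Group G] [Finite G] (T L : Subgroup G) (K' : Subgroup ↥L),
  T ≤ L →
  Subgroup.closure {g : ↥L | g ∈ K' ∧ Odd (orderOf g)} = K' →
  ⁅K', (thompsonSubgroupOf 2 T).subgroupOf L⁆ = K' →
  Subgroup.closure {g : G | g ∈ K'.map L.subtype ∧ Odd (orderOf g)} = K'.map L.subtype ∧
    ⁅K'.map L.subtype, thompsonSubgroupOf 2 T⁆ = K'.map L.subtype := trA

end Cfsg.Agent.H94.Ts

#print axioms Cfsg.Agent.H94.Ts.trA
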